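import Mathlib
import Cfsg.Agent.S0219
import Cfsg.Agent.Lib.SmallSimple.Sylow

/-! Reflection check: Sylow numbers, the embedding in `A_n` and Burnside's transfer kill most orders. -/

set_option autoImplicit false

namespace Cfsg.Agent.Lib.Small

/-- primality test -/
def isP (p : ℕ) : Bool := decide (2 ≤ p) && (List.range p).all (fun d => decide (d < 2) || p % d != 0)

theorem prime_of_isP {p : ℕ} (h : isP p = true) : p.Prime := by
  unfold isP at h
  rw [Bool.and_eq_true, decide_eq_true_iff, List.all_eq_true] at h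
  rw [Nat.prime_def_lt]
  refine ⟨h.1, ?_⟩
  intro m hm hdvd
  have h1 := h.2 m (List.mem_range.mpr hm)
  rw [Bool.or_eq_true, decide_eq_true_iff] at h1
  rcases h1 with h1 | h1
  · have hm0 : m ≠ 0 := by
      rintro rfl
      have : p = 0 := Nat.eq_zero_of_zero_dvd hdvd
      have := h.1
      omega
    omega
  · exfalso
    have : p % m = 0 := Nat.mod_eq_zero_of_dvd hdvd
    simp [this] at h1

/-- `p`-part of `m` with fuel -/
def pPart : ℕ → ℕ → ℕ → ℕ × ℕ
  | 0, _, m => (0, m)
  | f + 1, p, m => if m % p = 0 then ((pPart f p (m / p)).1 + 1, (pPart f p (m / p)).2) else (0, m)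

/-- the options for the Sylow number -/
def sylowOption (g p a m n : ℕ) : Bool :=
  (n % p == 1) && (m % n == 0) && decide (1 < n) && (decide (50 ≤ n) || (n.factorial % (2 * g) == 0)) &&
    (a != 1 || (Nat.gcd (m / n) (p - 1) != 1))

/-- no options for the Sylow number -/
def kill (g p : ℕ) : Bool :=
  let a := (pPart g p g).1
  let m := (pPart g p g).2
  isP p && decide (0 < a) && (g == p ^ a * m) && (m % p != 0) && decide (0 < m) &&
    (List.range (m + 1)).all (fun n => !(sylowOption g p a m n))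

variable {G : Type*} [Group G] [Finite G]

theorem not_isPGroup_of_noncomm [IsSimpleGroup G] (hnc : ¬ IsMulCommutative G) (p : ℕ) [hp : Fact p.Prime] :
    ¬ IsPGroup p G := by
  intro hP
  haveI : Nontrivial (Subgroup.center G) := IsPGroup.center_nontrivial hP
  rcases IsSimpleGroup.eq_bot_or_eq_top_of_normal (Subgroup.center G) inferInstance with h | h
  · exact ((Subgroup.nontrivial_iff_ne_bot _).mp this) h
  · apply hnc
    refine ⟨⟨fun a b => ?_⟩⟩
    have : b ∈ Subgroup.center G := by rw [h]; trivial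
    exact (Subgroup.mem_center_iff.mp this a)

theorem false_of_kill [IsSimpleGroup G] (hnc : ¬ IsMulCommutative G) {p : ℕ}
    (h : kill (Nat.card G) p = true) : False := by
  unfold kill at h
  simp only [Bool.and_eq_true, decide_eq_true_iff, beq_iff_eq, bne_iff_ne, List.all_eq_true] at h
  obtain ⟨⟨⟨⟨⟨hp, ha⟩, hg⟩, hm⟩, hm0⟩, hall⟩ := h
  set a := (pPart (Nat.card G) p (Nat.card G)).1
  set m := (pPart (Nat.card G) p (Nat.card G)).2
  haveI : Fact p.Prime := ⟨prime_of_isP hp⟩
  have hm' : ¬ p ∣ m := fun hd => hm (Nat.mod_eq_zero_of_dvd hd)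
  have hnp := not_isPGroup_of_noncomm hnc p
  obtain ⟨h1, h2, h3, h4⟩ := Cfsg.Agent.Lib.SmallSimple.sylow_package hg ha hm' hnp hnc
  set n := Nat.card (Sylow p G) with hn
  have hle : n ≤ m := Nat.le_of_dvd hm0 h2
  have hnot := hall n (List.mem_range.mpr (by omega))
  rw [Bool.not_eq_true'] at hnot
  unfold sylowOption at hnot
  simp only [Bool.and_eq_false_iff, beq_eq_false_iff_ne, decide_eq_false_iff_not, Bool.or_eq_false_iff,
    bne_eq_false_iff_eq, ne_eq] at hnot
  rcases hnot with ⟨⟨⟨h5 | h5⟩ | h5⟩ | h5⟩ | h5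
  · exact h5 h1
  · exact h5 (Nat.mod_eq_zero_of_dvd h2)
  · exact h5 h3
  · rcases h5 with ⟨_, h6⟩
    exact h6 (Nat.mod_eq_zero_of_dvd h4)
  · obtain ⟨h6, h7⟩ := h5
    have hcard' : Nat.card G = p ^ 1 * m := by rw [← h6]; exact hg
    exact Cfsg.Agent.Lib.SmallSimple.false_of_prime_sylow hcard' hm' hnp (m / n)
      (Nat.mul_div_cancel' h2) h7

theorem false_of_two_mod_four [IsSimpleGroup G] (hnc : ¬ IsMulCommutative G)
    (h : Nat.card G % 4 = 2) : False := by
  haveI : Fact (Nat.Prime 2) := ⟨Nat.prime_two⟩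
  obtain ⟨P⟩ : Nonempty (Sylow 2 G) := inferInstance
  have heven : Even (Nat.card G) := by
    rw [even_iff_two_dvd]
    omega
  have hcard : Nat.card G = 2 ^ 1 * (Nat.card G / 2) := by omega
  have hm : ¬ 2 ∣ Nat.card G / 2 := by omega
  have hcyc : IsCyclic (P : Subgroup G) :=
    Cfsg.Agent.Lib.SmallSimple.isCyclic_sylow_of_eq P hcard hm
  obtain ⟨H, hH⟩ := Cfsg.Agent.S0219.result heven P hcyc
  haveI hn : H.Normal := Subgroup.normal_of_index_eq_two hH
  have hH2 := Subgroup.card_mul_index H
  rcases IsSimpleGroup.eq_bot_or_eq_top_of_normal H hn with hb | hb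
  · rw [hb, Subgroup.card_bot] at hH2
    rw [hb, Subgroup.index_bot] at hH
    apply hnc
    have : Nat.card G = 2 := hH
    haveI := isCyclic_of_prime_card (α := G) (p := 2) this
    exact IsCyclic.isMulCommutative
  · rw [hb] at hH
    simp at hH

/-- the combined test -/
def sweepAt (g : ℕ) : Bool :=
  decide (g ≤ 1) || (g % 4 == 2) || (List.range (g + 1)).any (fun p => (g % p == 0) && kill g p)

theorem false_of_sweepAt [IsSimpleGroup G] (hnc : ¬ IsMulCommutative G)
    (h : sweepAt (Nat.card G) = true) : False := by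
  unfold sweepAt at h
  simp only [Bool.or_eq_true, decide_eq_true_iff, beq_iff_eq, List.any_eq_true, Bool.and_eq_true] at h
  rcases h with (h | h) | ⟨p, _, _, hk⟩
  · have h1 : 1 < Nat.card G := Finite.one_lt_card
    omega
  · exact false_of_two_mod_four hnc h
  · exact false_of_kill hnc hk

end Cfsg.Agent.Lib.Small
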