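import Mathlib

/-! Arithmetic for Brauer's theorem on groups with few Sylow subgroups of order `p`. -/

set_option autoImplicit false

namespace Cfsg.Agent.Lib.Small.BD


/-- Type `A`: `x = u p + 1`. -/
theorem degree_plus {p m r n u : ℕ} (hp : p = m * r + 1) (hm : 0 < m) (hp3 : 3 ≤ p) (hr : 0 < r)
    (hn : 2 * n ≤ p + 1) (hu : 1 ≤ u) (hx : (u * p + 1) ∣ m * (1 + n * p)) : u = n := by
  classical
  set x := u * p + 1 with hxdef
  set v := 1 + n * p with hvdef
  set g := Nat.gcd x m with hg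
  have hxpos : 0 < x := by omega
  have hgpos : 0 < g := Nat.gcd_pos_of_pos_left _ hxpos
  obtain ⟨x', hx'⟩ : g ∣ x := Nat.gcd_dvd_left _ _
  obtain ⟨m', hm'⟩ : g ∣ m := Nat.gcd_dvd_right _ _
  have hcop : Nat.Coprime x' m' := by
    have := Nat.coprime_div_gcd_div_gcd (m := x) (n := m) hgpos
    rwa [Nat.div_eq_of_eq_mul_right hgpos hx', Nat.div_eq_of_eq_mul_right hgpos hm'] at this
  have hd : x' ∣ v := by
    have h1 : g * x' ∣ g * (m' * v) := by
      rw [← hx', ← mul_assoc, ← hm']
      exact hx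
    exact hcop.dvd_of_dvd_mul_left (Nat.dvd_of_mul_dvd_mul_left hgpos h1)
  obtain ⟨k, hk⟩ := hd
  have hgv : g * v = x * k := by
    rw [hk, hx']
    ring
  have hvpos : 0 < v := by omega
  have hkpos : 0 < k := by
    rcases Nat.eq_zero_or_pos k with h | h
    · rw [h, mul_zero] at hk
      omega
    · exact h
  have hgm : g ≤ m := Nat.le_of_dvd hm (Nat.gcd_dvd_right _ _)
  have hmp : m < p := by
    rw [hp]
    nlinarith
  -- congruence
  have hmod : (p : ℤ) ∣ (g : ℤ) - k := by
    have h1 : ((g * v : ℕ) : ℤ) = ((x * k : ℕ) : ℤ) := by rw [hgv]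
    refine ⟨(u : ℤ) * k - n * g, ?_⟩
    rw [hvdef, hxdef] at h1
    push_cast at h1
    linear_combination h1
  -- `g` divides `u + 1`
  have hgu : g ≤ u + 1 := by
    apply Nat.le_of_dvd (by omega)
    have h1 : g ∣ x := Nat.gcd_dvd_left _ _
    have h2 : g ∣ m := Nat.gcd_dvd_right _ _
    have h3 : x = u * (m * r) + (u + 1) := by
      rw [hxdef, hp]
      ring
    rw [h3] at h1
    have h4 : g ∣ u * (m * r) := Dvd.dvd.mul_left (Dvd.dvd.mul_right h2 r) u
    exact (Nat.dvd_add_right h4).mp h1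
  by_cases hkg : k = g
  · have h1 : g * v = g * x := by rw [hgv, hkg]; ring
    have h2 : v = x := Nat.eq_of_mul_eq_mul_left hgpos h1
    have h3 : n * p = u * p := by
      rw [hvdef, hxdef] at h2
      omega
    exact (Nat.eq_of_mul_eq_mul_right (by omega) h3).symm
  · exfalso
    -- `k ≥ g + p`
    have hge : g + p ≤ k := by
      have h1 : (p : ℤ) ∣ (g : ℤ) - k := hmod
      by_cases hlt : k < g
      · have h2 : (0 : ℤ) < (g : ℤ) - k := by omega
        have h3 := Int.le_of_dvd h2 h1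
        omega
      · have h2 : (p : ℤ) ∣ (k : ℤ) - g := by
          have := (dvd_neg (a := (p : ℤ))).mpr h1
          simpa using this
        have h3 : (0 : ℤ) < (k : ℤ) - g := by omega
        have h4 := Int.le_of_dvd h3 h2
        omega
    have h1 : x * (g + p) ≤ g * v := by
      rw [hgv]
      exact Nat.mul_le_mul_left _ hge
    have h2 : (u * g + u * p + 1) * p ≤ (g * n) * p := by
      rw [hxdef, hvdef] at h1
      have e1 : (u * p + 1) * (g + p) = (u * g + u * p + 1) * p + g := by ring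
      have e2 : g * (1 + n * p) = g * n * p + g := by ring
      rw [e1, e2] at h1
      omega
    have h3 : u * g + u * p + 1 ≤ g * n := Nat.le_of_mul_le_mul_right h2 (by omega)
    have h4 : 2 * (g * n) ≤ g * (p + 1) := by
      calc 2 * (g * n) = g * (2 * n) := by ring
        _ ≤ g * (p + 1) := Nat.mul_le_mul_left _ hn
    have h5 : g * (p + 1) ≤ (u + 1) * (p + 1) := Nat.mul_le_mul_right _ hgu
    have h6 : p ≤ u * p := Nat.le_mul_of_pos_left _ (by omega)
    have h7 : u ≤ u * g := Nat.le_mul_of_pos_right _ hgpos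
    have e3 : (u + 1) * (p + 1) = u * p + u + p + 1 := by ring
    rw [e3] at h5
    omega

/-- Type `B`: `x + 1 = u p`. -/
theorem degree_minus {p m r n u x : ℕ} (hp : p = m * r + 1) (hm : 0 < m) (hp3 : 3 ≤ p) (hr : 0 < r)
    (hn : 2 * n ≤ p + 1) (hn1 : 1 ≤ n) (hxu : x + 1 = u * p) (hx : x ∣ m * (1 + n * p)) (hx0 : 0 < x)
    (hsq : x * x < p * m * (1 + n * p)) : u = 1 := by
  classical
  have hu1 : 1 ≤ u := by
    rcases Nat.eq_zero_or_pos u with h | h
    · rw [h] at hxu
      omega
    · exact h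
  by_contra hne
  have hu2 : 2 ≤ u := by omega
  set v := 1 + n * p with hvdef
  set g := Nat.gcd x m with hg
  have hgpos : 0 < g := Nat.gcd_pos_of_pos_left _ hx0
  obtain ⟨x', hx'⟩ : g ∣ x := Nat.gcd_dvd_left _ _
  obtain ⟨m', hm'⟩ : g ∣ m := Nat.gcd_dvd_right _ _
  have hcop : Nat.Coprime x' m' := by
    have := Nat.coprime_div_gcd_div_gcd (m := x) (n := m) hgpos
    rwa [Nat.div_eq_of_eq_mul_right hgpos hx', Nat.div_eq_of_eq_mul_right hgpos hm'] at this
  have hd : x' ∣ v := by
    have h1 : g * x' ∣ g * (m' * v) := by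
      rw [← hx', ← mul_assoc, ← hm']
      exact hx
    exact hcop.dvd_of_dvd_mul_left (Nat.dvd_of_mul_dvd_mul_left hgpos h1)
  obtain ⟨k, hk⟩ := hd
  have hgv : g * v = x * k := by
    rw [hk, hx']
    ring
  have hvpos : 0 < v := by omega
  have hkpos : 0 < k := by
    rcases Nat.eq_zero_or_pos k with h | h
    · rw [h, mul_zero] at hk
      omega
    · exact h
  have hgm : g ≤ m := Nat.le_of_dvd hm (Nat.gcd_dvd_right _ _)
  have hmp : m < p := by
    rw [hp]
    nlinarith
  have hgdvd : g ∣ m * r := Dvd.dvd.mul_right (Nat.gcd_dvd_right _ _) r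
  -- congruence: `p ∣ k + g`
  have hmod : (p : ℤ) ∣ (k : ℤ) + g := by
    have h1 : ((g * v : ℕ) : ℤ) = ((x * k : ℕ) : ℤ) := by rw [hgv]
    have h2 : (x : ℤ) = u * p - 1 := by
      have : ((x + 1 : ℕ) : ℤ) = ((u * p : ℕ) : ℤ) := by rw [hxu]
      push_cast at this
      linarith
    refine ⟨(u : ℤ) * k - n * g, ?_⟩
    rw [hvdef] at h1
    push_cast at h1
    rw [h2] at h1
    linear_combination h1
  have hkge : p ≤ k + g := by
    have h1 : (0 : ℤ) < (k : ℤ) + g := by omega
    have h2 := Int.le_of_dvd h1 hmod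
    omega
  -- `g` divides `u - 1`
  have hgu : g + 1 ≤ u := by
    have h1 : g ∣ x := Nat.gcd_dvd_left _ _
    have h3 : x + (1 : ℕ) = u * (m * r) + u := by
      rw [hxu, hp]
      ring
    have h4 : g ∣ u * (m * r) := Dvd.dvd.mul_left hgdvd u
    have h5 : x = u * (m * r) + (u - 1) := by omega
    rw [h5] at h1
    have h6 := (Nat.dvd_add_right h4).mp h1
    have h7 := Nat.le_of_dvd (by omega) h6
    omega
  have hkp : p - g ≤ k := by omega
  have hgp : g < p := by omega
  -- the inequality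
  have hineq : x * (p - g) ≤ g * v := by
    rw [hgv]
    exact Nat.mul_le_mul_left _ hkp
  obtain ⟨e, he⟩ : ∃ e, p = g + e := ⟨p - g, by omega⟩
  have hpg : p - g = e := by omega
  rw [hpg] at hineq
  have hepos : 0 < e := by omega
  have hxz : (x : ℤ) = u * p - 1 := by
    have : ((x + 1 : ℕ) : ℤ) = ((u * p : ℕ) : ℤ) := by rw [hxu]
    push_cast at this
    linarith
  have hineq' : ((u : ℤ) * p - 1) * e ≤ g * (1 + n * p) := by
    rw [← hxz]
    rw [hvdef] at hineq
    exact_mod_cast hineq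
  have hpz : (p : ℤ) = g + e := by exact_mod_cast he
  -- dividing by `p`
  have h2 : (u : ℤ) * e ≤ g * n + 1 := by
    have h3 : ((u : ℤ) * e) * p ≤ (g * n + 1) * p := by
      have e1 : ((u : ℤ) * e) * p = ((u : ℤ) * p - 1) * e + e := by ring
      have e2 : ((g : ℤ) * n + 1) * p = g * (1 + n * p) + (p - g) := by ring
      rw [e1, e2]
      linarith
    exact le_of_mul_le_mul_right h3 (by exact_mod_cast (by omega : 0 < p))
  have hnz : (2 : ℤ) * n ≤ p + 1 := by exact_mod_cast hn
  have hgz : (1 : ℤ) ≤ g := by exact_mod_cast hgpos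
  have hguz : (g : ℤ) + 1 ≤ u := by exact_mod_cast hgu
  have hez : (1 : ℤ) ≤ e := by exact_mod_cast hepos
  have h3 : 2 * (((g : ℤ) + 1) * e) ≤ 2 * (g * n) + 2 := by
    have h4 : ((g : ℤ) + 1) * e ≤ u * e := mul_le_mul_of_nonneg_right hguz (by linarith)
    linarith
  have h4 : 2 * (((g : ℤ) + 1) * e) ≤ g * (p + 1) + 2 := by
    have h5 : (g : ℤ) * (2 * n) ≤ g * (p + 1) := mul_le_mul_of_nonneg_left hnz (by linarith)
    have e1 : (g : ℤ) * (2 * n) = 2 * (g * n) := by ring
    linarith
  -- `g = p - 1`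
  have h5 : g = m * r := by
    obtain ⟨h', hh'⟩ := hgdvd
    have hh'pos : 0 < h' := by
      rcases Nat.eq_zero_or_pos h' with h | h
      · rw [h, mul_zero] at hh'
        have : 0 < m * r := Nat.mul_pos hm hr
        omega
      · exact h
    by_cases hh1 : h' = 1
    · rw [hh', hh1, mul_one]
    · exfalso
      have hh2 : 2 ≤ h' := by omega
      have hpg2 : g * 2 + 1 ≤ p := by
        have h6 : g * 2 ≤ g * h' := Nat.mul_le_mul_left _ hh2
        omega
      have hpg2z : (g : ℤ) * 2 + 1 ≤ p := by exact_mod_cast hpg2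
      have hegz : (g : ℤ) + 1 ≤ e := by linarith
      have h7 : 0 ≤ ((e : ℤ) - g - 1) * (g + 2) := mul_nonneg (by linarith) (by linarith)
      rw [hpz] at h4
      linarith
  have hmg : g = m := by
    have h6 : m * r ≤ m := by rw [← h5]; exact hgm
    have h7 : m ≤ m * r := Nat.le_mul_of_pos_right _ hr
    omega
  have hr1 : r = 1 := by
    have h6 : m * r = m * 1 := by rw [mul_one, ← h5, hmg]
    exact Nat.eq_of_mul_eq_mul_left hm h6
  have hgp1 : g + 1 = p := by
    rw [hp, hr1, mul_one, hmg]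
  have he1 : e = 1 := by omega
  have hvge : p + 1 ≤ v := by
    have h6 : p ≤ n * p := Nat.le_mul_of_pos_left _ (by omega)
    omega
  -- `k = 1` or `k ≥ p + 1`
  by_cases hk1 : k = 1
  · rw [hk1, mul_one] at hgv
    rw [← hgv, ← hmg] at hsq
    have h6 : g * v * (g * v) < p * (g * v) := by
      calc g * v * (g * v) < p * g * v := hsq
        _ = p * (g * v) := by ring
    have h7 : g * v < p := Nat.lt_of_mul_lt_mul_right h6
    have h8 : v ≤ g * v := Nat.le_mul_of_pos_left _ hgpos
    omega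
  · have hk2 : p + 1 ≤ k := by
      -- `p ∣ k - 1`
      have h6 : (p : ℤ) ∣ (k : ℤ) - 1 := by
        have h7 : (k : ℤ) - 1 = (k : ℤ) + g - p := by
          have : (p : ℤ) = g + 1 := by exact_mod_cast hgp1.symm
          rw [this]
          ring
        rw [h7]
        exact dvd_sub hmod (dvd_refl _)
      have h7 : (0 : ℤ) < (k : ℤ) - 1 := by omega
      have h8 := Int.le_of_dvd h7 h6
      omega
    have h6 : x * (p + 1) ≤ g * v := by
      rw [hgv]
      exact Nat.mul_le_mul_left _ hk2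
    have h7 : (p : ℤ) = g + 1 := by exact_mod_cast hgp1.symm
    have h8 : (x : ℤ) * (p + 1) ≤ g * v := by exact_mod_cast h6
    have h9 : (g : ℤ) * (p + 1) ≤ x := by
      rw [hxz, h7]
      have h10 : ((g : ℤ) + 1) * (g + 1) ≤ u * (g + 1) := mul_le_mul_of_nonneg_right hguz (by linarith)
      linarith
    have h10 : (g : ℤ) * (p + 1) * (p + 1) ≤ g * v := by
      have h11 : (g : ℤ) * (p + 1) * (p + 1) ≤ x * (p + 1) := mul_le_mul_of_nonneg_right h9 (by
        have : (0 : ℤ) ≤ p := by positivity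
        linarith)
      linarith
    have h11 : ((p : ℤ) + 1) * (p + 1) ≤ v := by
      have h12 : (g : ℤ) * (((p : ℤ) + 1) * (p + 1)) ≤ g * v := by
        calc (g : ℤ) * (((p : ℤ) + 1) * (p + 1)) = (g : ℤ) * (p + 1) * (p + 1) := by ring
          _ ≤ _ := h10
      exact le_of_mul_le_mul_left h12 (by omega : (0 : ℤ) < (g : ℤ))
    have h12 : (v : ℤ) = 1 + n * p := by
      rw [hvdef]
      push_cast
      ring
    have hp3z : (3 : ℤ) ≤ p := by exact_mod_cast hp3
    have h13 : (2 * (n : ℤ)) * p ≤ (p + 1) * p := mul_le_mul_of_nonneg_right hnz (by linarith)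
    have h14 := mul_self_nonneg (p : ℤ)
    rw [h12] at h11
    linarith

/-- The number `σ` equals `w`. -/
theorem sigma_eq {p m r n w σ : ℕ} (hp : p = m * r + 1) (hm : 0 < m) (hr : 2 ≤ r) (hw : 1 ≤ w)
    (hn : n + 1 = r * σ) (h2n : 2 * n ≤ p + 1) (hwσ : w ≤ σ) (hmwp : m < w * p)
    (hy : (w * p - m) ∣ m * (1 + n * p)) : σ = w := by
  classical
  set y := w * p - m with hydef
  have hy1 : y + m = w * p := by omega
  have hypos : 0 < y := by omega
  set v := 1 + n * p with hvdef
  set g := Nat.gcd y m with hg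
  have hgpos : 0 < g := Nat.gcd_pos_of_pos_left _ hypos
  obtain ⟨y', hy'⟩ : g ∣ y := Nat.gcd_dvd_left _ _
  obtain ⟨m', hm'⟩ : g ∣ m := Nat.gcd_dvd_right _ _
  have hcop : Nat.Coprime y' m' := by
    have := Nat.coprime_div_gcd_div_gcd (m := y) (n := m) hgpos
    rwa [Nat.div_eq_of_eq_mul_right hgpos hy', Nat.div_eq_of_eq_mul_right hgpos hm'] at this
  have hd : y' ∣ v := by
    have h1 : g * y' ∣ g * (m' * v) := by
      rw [← hy', ← mul_assoc, ← hm']
      exact hy
    exact hcop.dvd_of_dvd_mul_left (Nat.dvd_of_mul_dvd_mul_left hgpos h1)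
  obtain ⟨k, hk⟩ := hd
  have hgv : g * v = y * k := by
    rw [hk, hy']
    ring
  have hvpos : 0 < v := by omega
  have hkpos : 0 < k := by
    rcases Nat.eq_zero_or_pos k with h | h
    · rw [h, mul_zero] at hk
      omega
    · exact h
  have hgm : g ≤ m := Nat.le_of_dvd hm (Nat.gcd_dvd_right _ _)
  have hmp : 0 < p := by omega
  have hrgp : r * g < p := by
    rw [hp]
    nlinarith
  have hyz : (y : ℤ) = w * p - m := by
    have : ((y + m : ℕ) : ℤ) = ((w * p : ℕ) : ℤ) := by rw [hy1]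
    push_cast at this
    linarith
  have hpz : (p : ℤ) = m * r + 1 := by exact_mod_cast hp
  -- `g` divides `w`
  have hgw : g ≤ w := by
    apply Nat.le_of_dvd (by omega)
    have h1 : g ∣ w * p := by
      rw [← hy1]
      exact dvd_add (Nat.gcd_dvd_left _ _) (Nat.gcd_dvd_right _ _)
    have h2 : Nat.Coprime g p := by
      have h3 : g ∣ m * r := Dvd.dvd.mul_right (Nat.gcd_dvd_right _ _) r
      rw [hp]
      have h4 : Nat.Coprime (m * r) (m * r + 1) := by simp
      exact Nat.Coprime.coprime_dvd_left h3 h4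
    exact h2.dvd_of_dvd_mul_right h1
  -- congruence
  have hmod : (p : ℤ) ∣ (k : ℤ) - r * g := by
    have h1 : ((g * v : ℕ) : ℤ) = ((y * k : ℕ) : ℤ) := by rw [hgv]
    rw [hvdef] at h1
    push_cast at h1
    rw [hyz] at h1
    refine ⟨(r : ℤ) * g * n - r * w * k + k, ?_⟩
    have hrm : (r : ℤ) * m = p - 1 := by rw [hpz]; ring
    linear_combination (-(r : ℤ)) * h1 + (k : ℤ) * hrm
  by_cases hkrg : k = r * g
  · -- `v = r y`
    have h1 : g * v = g * (r * y) := by
      rw [hgv, hkrg]
      ring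
    have h2 : v = r * y := Nat.eq_of_mul_eq_mul_left hgpos h1
    have h3 : ((v : ℕ) : ℤ) = ((r * y : ℕ) : ℤ) := by rw [h2]
    have hnz : (n : ℤ) + 1 = r * σ := by exact_mod_cast hn
    rw [hvdef] at h3
    push_cast at h3
    rw [hyz] at h3
    have h4 : ((σ : ℤ) - w) * (r * p) = 0 := by
      have h5 : (n : ℤ) = r * σ - 1 := by linarith
      rw [h5] at h3
      have h6 : (r : ℤ) * m = p - 1 := by rw [hpz]; ring
      linear_combination h3 - h6
    have h5 : (r : ℤ) * p ≠ 0 := by
      have h6 : (0 : ℤ) < r := by exact_mod_cast (by omega : 0 < r)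
      have h7 : (0 : ℤ) < p := by exact_mod_cast hmp
      positivity
    have h6 := (mul_eq_zero.mp h4).resolve_right h5
    have : (σ : ℤ) = w := by linarith
    exact_mod_cast this
  · exfalso
    have hge : r * g + p ≤ k := by
      by_cases hlt : k < r * g
      · have h2 : (0 : ℤ) < (r : ℤ) * g - k := by
          have : ((k : ℕ) : ℤ) < ((r * g : ℕ) : ℤ) := by exact_mod_cast hlt
          push_cast at this
          linarith
        have h1 : (p : ℤ) ∣ (r : ℤ) * g - k := by
          have := (dvd_neg (a := (p : ℤ))).mpr hmod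
          simpa using this
        have h3 := Int.le_of_dvd h2 h1
        have h4 : ((r * g : ℕ) : ℤ) < p := by exact_mod_cast hrgp
        push_cast at h4
        have h5 : (0 : ℤ) < k := by exact_mod_cast hkpos
        linarith
      · have h2 : (0 : ℤ) < (k : ℤ) - r * g := by
          have : r * g < k := by omega
          have : ((r * g : ℕ) : ℤ) < ((k : ℕ) : ℤ) := by exact_mod_cast this
          push_cast at this
          linarith
        have h3 := Int.le_of_dvd h2 hmod
        have : ((r * g + p : ℕ) : ℤ) ≤ ((k : ℕ) : ℤ) := by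
          push_cast
          linarith
        exact_mod_cast this
    have h1 : y * (r * g + p) ≤ g * v := by
      rw [hgv]
      exact Nat.mul_le_mul_left _ hge
    have h1z : ((w : ℤ) * p - m) * (r * g + p) ≤ g * (1 + n * p) := by
      rw [← hyz]
      rw [hvdef] at h1
      exact_mod_cast h1
    have hnz : (n : ℤ) + 1 = r * σ := by exact_mod_cast hn
    have h2nz : (2 : ℤ) * n ≤ p + 1 := by exact_mod_cast h2n
    have hgz : (0 : ℤ) < g := by exact_mod_cast hgpos
    have hwz : (1 : ℤ) ≤ w := by exact_mod_cast hw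
    have hgwz : (g : ℤ) ≤ w := by exact_mod_cast hgw
    have hmz : (1 : ℤ) ≤ m := by exact_mod_cast hm
    have hrz : (2 : ℤ) ≤ r := by exact_mod_cast hr
    have hσ : (w : ℤ) ≤ σ := by exact_mod_cast hwσ
    have hpp : (0 : ℤ) < p := by exact_mod_cast hmp
    -- dividing by `p`
    have hrm : (r : ℤ) * m = p - 1 := by rw [hpz]; ring
    have h4' : (n : ℤ) = r * σ - 1 := by linarith
    have h3 : ((w : ℤ) * r * g + w * p - m) * p ≤ (g * r * σ) * p := by
      have e1 : ((w : ℤ) * r * g + w * p - m) * p = ((w : ℤ) * p - m) * (r * g + p) + g * (r * m) := by ring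
      have e2 : ((g : ℤ) * r * σ) * p = g * (1 + n * p) + g * (p - 1) := by rw [h4']; ring
      rw [e1, e2, hrm]
      linarith
    have h4 : (w : ℤ) * r * g + w * p - m ≤ g * r * σ := le_of_mul_le_mul_right h3 hpp
    -- contradiction
    have hσ0 : (0 : ℤ) ≤ r * ((σ : ℤ) - w) := mul_nonneg (by linarith) (by linarith)
    have h5 : (g : ℤ) * (r * (σ - w)) ≤ w * (r * (σ - w)) := mul_le_mul_of_nonneg_right hgwz hσ0
    have h6 : (w : ℤ) * p - m ≤ w * (r * (σ - w)) := by
      have e1 : (g : ℤ) * (r * (σ - w)) = g * r * σ - w * r * g := by ring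
      linarith
    have h7 : (2 : ℤ) * (r * σ) ≤ p + 3 := by linarith
    have h8 : (w : ℤ) * (2 * (r * σ)) ≤ w * (p + 3) := mul_le_mul_of_nonneg_left h7 (by linarith)
    have e2 : (w : ℤ) * (r * (σ - w)) = w * (r * σ) - r * (w * w) := by ring
    have e3 : (w : ℤ) * (2 * (r * σ)) = 2 * (w * (r * σ)) := by ring
    have h9 : (w : ℤ) * p ≤ 3 * w + 2 * m - 2 * (r * (w * w)) := by
      have e4 : (w : ℤ) * (p + 3) = w * p + 3 * w := by ring
      linarith
    have h10 : (2 : ℤ) * 1 ≤ r * w :=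
      mul_le_mul hrz hwz (by linarith) (by linarith)
    have h11 : (m : ℤ) * (2 * 1) ≤ m * (r * w) := mul_le_mul_of_nonneg_left h10 (by linarith)
    have h12 : (w : ℤ) ≤ w * w := le_mul_of_one_le_right (by linarith) hwz
    have h13 : (2 : ℤ) * (w * w) ≤ r * (w * w) := mul_le_mul_of_nonneg_right hrz (by positivity)
    have e5 : (w : ℤ) * p = m * (r * w) + w := by rw [hpz]; ring
    rw [e5] at h9
    linarith


/-- The sum of squares identity. -/
theorem Ds_identity {a b n r m p y ε Ds : ℤ} (hm : m = a + b + 1) (hp : p = m * r + 1) (hε : ε * ε = 1)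
    (h1 : ε * y = 1 + a * (1 + n * p) - b * (p - 1))
    (h2 : p * (m * (1 + n * p)) = 1 + a * (1 + n * p) ^ 2 + b * (p - 1) ^ 2 + r * y ^ 2 + p ^ 2 * Ds) (hp0 : p ≠ 0) :
    Ds = n * (1 - (a * n - b)) - (a * n - b) - r * (a * n - b) ^ 2 := by
  have hy : y ^ 2 = (1 + a * (1 + n * p) - b * (p - 1)) ^ 2 := by
    rw [← h1]
    linear_combination (- y ^ 2) * hε
  rw [hy] at h2
  subst hp
  subst hm
  have hp2 : ((a + b + 1) * r + 1) ^ 2 ≠ 0 := pow_ne_zero 2 hp0
  apply mul_right_cancel₀ hp2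
  linear_combination (-1) * h2

theorem W_nonpos {n r W Ds : ℤ} (hn : 0 ≤ n) (hr : 0 ≤ r) (hDs : 0 ≤ Ds) (h : Ds = n * (1 - W) - W - r * W ^ 2) : W ≤ 0 := by
  by_contra hW
  have hW1 : 1 ≤ W := by omega
  have h1 : 0 ≤ n * (W - 1) := mul_nonneg hn (by omega)
  have h2 : 0 ≤ r * W ^ 2 := mul_nonneg hr (sq_nonneg _)
  have h3 : n * (1 - W) = - (n * (W - 1)) := by ring
  rw [h3] at h
  linarith

theorem kill_W_zero {m a n r p : ℤ} (hm : m = 1 + a + a * n) (hge : 1 + a * (1 + n * p) ≤ m * m) (hp : p = m * r + 1)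
    (ha : 1 ≤ a) (hn : 2 ≤ n) (hr : 2 ≤ r) : False := by
  have hm0 : 0 < m := by
    have : 0 ≤ a * n := mul_nonneg (by omega) (by omega)
    omega
  have h1 : m * (1 + a * n * r) ≤ m * m := by
    have e : 1 + a * (1 + n * p) = m * (1 + a * n * r) := by
      rw [hp]
      linear_combination (-1) * hm
    rw [← e]
    exact hge
  have h2 : 1 + a * n * r ≤ m := le_of_mul_le_mul_left h1 hm0
  rw [hm] at h2
  have h3 : a * (n * r) ≤ a * (1 + n) := by
    have e1 : a * (1 + n) = a + a * n := by ring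
    have e2 : a * (n * r) = a * n * r := by ring
    rw [e1, e2]
    linarith
  have h4 : n * r ≤ 1 + n := le_of_mul_le_mul_left h3 (by omega)
  have h5 : n * 2 ≤ n * r := mul_le_mul_of_nonneg_left hr (by omega)
  omega

theorem sigma_ge_w {n r σ w Ds : ℤ} (hn : n + 1 = r * σ) (hr : 2 ≤ r) (hw : 1 ≤ w) (hDs : 0 ≤ Ds)
    (h : Ds = n * (1 + w) + w - r * w ^ 2) : w ≤ σ := by
  by_contra hlt
  have h1 : σ + 1 ≤ w := by omega
  have h2 : n = r * σ - 1 := by linarith
  rw [h2] at h
  have h3 : r * σ * (1 + w) ≤ r * ((w - 1) * (1 + w)) := by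
    have h4 : σ * (1 + w) ≤ (w - 1) * (1 + w) := mul_le_mul_of_nonneg_right (by omega) (by omega)
    have h5 := mul_le_mul_of_nonneg_left h4 (by omega : 0 ≤ r)
    have e : r * (σ * (1 + w)) = r * σ * (1 + w) := by ring
    rw [e] at h5
    exact h5
  have e : r * ((w - 1) * (1 + w)) = r * w ^ 2 - r := by ring
  rw [e] at h3
  have e2 : (r * σ - 1) * (1 + w) + w - r * w ^ 2 = r * σ * (1 + w) - 1 - r * w ^ 2 := by ring
  rw [e2] at h
  linarith

theorem s_arith {r m a n w S y : ℤ} (hn : n + 1 = r * w) (hm : m = a * (n + 1) + w + 1) (hy : y = m * n + w)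
    (h : r * m * S = y + a * r * S + S) (hr : 2 ≤ r) (hw : 1 ≤ w) (ha : 0 ≤ a) (hn0 : 0 ≤ n) (hS : 0 ≤ S) : w = 1 ∧ S = 1 := by
  set A := a * n + w + 1 with hA
  have hA2 : w + 1 ≤ A := by
    have : 0 ≤ a * n := mul_nonneg ha hn0
    omega
  have hmA : m - a = A := by
    rw [hm, hA]
    ring
  have hn' : n = r * w - 1 := by linarith
  have h1 : r * A * (S - w) = S - 1 := by
    have e : r * m * S - a * r * S = r * (m - a) * S := by ring
    have h2 : r * (m - a) * S = y + S := by linarith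
    rw [hmA] at h2
    have e3 : y = r * w * A - 1 := by
      rw [hy, hm, hA, hn']
      ring
    rw [e3] at h2
    linear_combination h2
  have hrA : 4 ≤ r * A := by
    have : 2 * 2 ≤ r * A := mul_le_mul hr (by omega) (by norm_num) (by omega)
    omega
  have hS1 : 1 ≤ S := by
    by_contra h0
    have h2 : S = 0 := by omega
    rw [h2] at h1
    have h3 : r * A * w = 1 := by linarith
    have h4 : r * A * 1 ≤ r * A * w := mul_le_mul_of_nonneg_left hw (by omega)
    omega
  have hq : w ≤ S := by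
    by_contra hlt
    have h2 : r * A * (S - w) < 0 := mul_neg_of_pos_of_neg (by omega) (by omega)
    omega
  by_cases hq1 : S = w
  · rw [hq1] at h1
    have h2 : w = 1 := by
      have : r * A * (w - w) = 0 := by ring
      omega
    exact ⟨h2, by omega⟩
  · exfalso
    have hq2 : 1 ≤ S - w := by omega
    have h2 : r * A * 1 ≤ r * A * (S - w) := mul_le_mul_of_nonneg_left hq2 (by omega)
    have h3 : (r * A - 1) * (S - w) = w - 1 := by linear_combination h1
    have h4 : (r * A - 1) * 1 ≤ (r * A - 1) * (S - w) := mul_le_mul_of_nonneg_left hq2 (by omega)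
    have h5 : 2 * (w + 1) ≤ r * A := mul_le_mul hr hA2 (by omega) (by omega)
    omega

theorem L_arith {L p m r n y : ℤ} (h : L * (p - 1) = p * y - p * r + n * y) (hy : y = p - m) (hn : n = r - 1)
    (hp : m * r = p - 1) (hp1 : p - 1 ≠ 0) : L = m * n := by
  apply mul_right_cancel₀ hp1
  rw [h, hy, hn]
  nth_rewrite 1 [← hp]
  have hp' : p = m * r + 1 := by linarith
  rw [hp']
  ring

/-- Kill when `r = 1`. -/
theorem kill_r_one {a b n p : ℤ} (hab : a + b + 1 = p) (h0 : 1 + a * (1 + n * p) - b * (p - 1) = 0)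
    (hp : p ≠ 0) (hp2 : p ≠ 2) (hn : 1 ≤ n) (ha : 0 ≤ a) (h : 1 ≤ a → ∃ S : ℤ, S * b = 1 + n * p) : False := by
  have h1 : a * n + 1 = b := by
    have h2 : p * (a * n - b + 1) = 0 := by
      have hb : b = p - 1 - a := by linarith
      rw [hb] at h0 ⊢
      linear_combination h0
    have h3 := (mul_eq_zero.mp h2).resolve_left hp
    linarith
  have h2 : a * (n + 1) = p - 2 := by linarith
  have ha1 : 1 ≤ a := by
    by_contra h3
    have h4 : a = 0 := by omega
    rw [h4] at h2
    apply hp2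
    linarith
  obtain ⟨S, h⟩ := h ha1
  have hv : 1 + n * p = (n + 1) * b + n := by
    have : p = a * (n + 1) + 2 := by linarith
    rw [this, ← h1]
    ring
  have hd : b ∣ n := by
    refine ⟨S - (n + 1), ?_⟩
    have : b * (S - (n + 1)) = S * b - (n + 1) * b := by ring
    rw [this, h, hv]
    ring
  have h3 := Int.le_of_dvd (by omega) hd
  have h4 : 1 * n ≤ a * n := mul_le_mul_of_nonneg_right ha1 (by omega)
  omega

end Cfsg.Agent.Lib.Small.BD
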