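import Mathlib
import Cfsg.Agent.S4709
import Cfsg.Agent.Lib.Char.E3Columns
import Cfsg.Agent.Lib.Char.DefectZero

/-! Numerical data of the principal block at a Sylow subgroup of prime order (from S4709). -/

set_option autoImplicit false

namespace Cfsg.Agent.Lib.Small.BD

open Cfsg Cfsg.Agent.Lib.Char Subgroup

universe u

variable {G : Type u} [Group G] [Fintype G]

theorem exists_gen_normalizer {p : ℕ} [hp : Fact p.Prime] (P : Subgroup G) (hP : Nat.card P = p) :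
    ∃ g : G, g ∈ normalizer (P : Set G) ∧ centralizer (P : Set G) ⊔ zpowers g = normalizer (P : Set G) := by
  haveI hcyc3 : IsCyclic P := isCyclic_of_prime_card hP
  haveI hcyc2 : IsCyclic (MulAut P) := by
    haveI h1 : IsCyclic (ZMod (Nat.card P))ˣ := by
      rw [hP]
      exact ZMod.isCyclic_units_prime Fact.out
    exact isCyclic_of_injective (IsCyclic.mulAutMulEquiv P).toMonoidHom
      (IsCyclic.mulAutMulEquiv P).injective
  let φ := normalizerMonoidHom P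
  have hrc : IsCyclic φ.range := inferInstance
  obtain ⟨⟨_, g, rfl⟩, hg⟩ := hrc.exists_generator
  refine ⟨g, g.2, le_antisymm (sup_le (centralizer_le_normalizer _) ?_) ?_⟩
  · rw [zpowers_le]
    exact g.2
  · intro n hn
    obtain ⟨k, hk⟩ := mem_zpowers_iff.1 (hg ⟨φ ⟨n, hn⟩, ⟨n, hn⟩, rfl⟩)
    have h1 : φ (g ^ k) = φ ⟨n, hn⟩ := by
      rw [map_zpow]
      exact congrArg Subtype.val hk
    have h2 : (g ^ k)⁻¹ * ⟨n, hn⟩ ∈ φ.ker := by
      rw [MonoidHom.mem_ker, map_mul, map_inv, h1, inv_mul_cancel]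
    rw [normalizerMonoidHom_ker, mem_subgroupOf] at h2
    have h3 : n = ((g : G) ^ k) * (((g ^ k)⁻¹ * ⟨n, hn⟩ : normalizer (P : Set G)) : G) := by
      simp
    rw [h3, sup_comm]
    exact mul_mem_sup (zpow_mem (mem_zpowers _) k) h2

theorem frob_of_prime {p : ℕ} [hp : Fact p.Prime] (P : Subgroup G) (hP : Nat.card P = p) (y : G)
    (hy : y ∈ P) (hy1 : y ≠ 1) :
    centralizer ({y} : Set G) ⊓ normalizer (P : Set G) = centralizer (P : Set G) := by
  have ho : orderOf y = p := by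
    have h1 : orderOf (⟨y, hy⟩ : P) ∣ Nat.card P := orderOf_dvd_natCard _
    rw [hP, Subgroup.orderOf_mk] at h1
    rcases (Nat.dvd_prime hp.out).mp h1 with h | h
    · exact absurd (orderOf_eq_one_iff.mp h) hy1
    · exact h
  have hz : P = zpowers y := by
    symm
    apply Subgroup.eq_of_le_of_card_ge
    · rwa [zpowers_le]
    · rw [Nat.card_zpowers, ho, hP]
  apply le_antisymm
  · rintro x ⟨hx, -⟩
    rw [mem_centralizer_iff]
    intro w hw
    have hw' : w ∈ zpowers y := by rw [← hz]; exact hw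
    obtain ⟨k, rfl⟩ := mem_zpowers_iff.mp hw'
    have h1 : y * x = x * y := mem_centralizer_iff.mp hx y (Set.mem_singleton y)
    have h2 : Commute y x := h1
    exact (h2.zpow_left k).eq
  · intro x hx
    refine ⟨?_, centralizer_le_normalizer _ hx⟩
    show x ∈ centralizer ({y} : Set G)
    rw [mem_centralizer_iff]
    intro w hw
    rw [Set.mem_singleton_iff.mp hw]
    exact mem_centralizer_iff.mp hx y hy

omit [Fintype G] in
theorem isPPart_self [Finite G] {p : ℕ} {y : G} (h : orderOf y = p) (hp : p ≠ 1) : IsPPart p y y := by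
  refine ⟨1, mul_one y, Commute.one_right y, ⟨1, by rw [pow_one, h]⟩, ?_⟩
  rw [orderOf_one]
  intro h1
  exact hp (Nat.dvd_one.mp h1)

/-- A character constant on the nontrivial elements of a subgroup of order `p`. -/
theorem dvd_degree_sub {p : ℕ} [hp : Fact p.Prime] (P : Subgroup G) (hP : Nat.card P = p) (χ : IrrCharacter G)
    (a : ℤ) (h : ∀ y ∈ P, y ≠ 1 → (χ : G → ℂ) y = a) :
    (p : ℤ) ∣ (charDegree (χ : G → ℂ) : ℤ) - a := by
  classical
  have := Fintype.ofFinite P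
  have h1 := E3.mult_spec P (1 : ↥P →* ℂˣ) χ
  have hsum : ∑ y : P, (χ : G → ℂ) y * (starRingEnd ℂ) (E3.ev (1 : ↥P →* ℂˣ) y) =
      charDegree (χ : G → ℂ) + ((p : ℂ) - 1) * a := by
    rw [← Finset.add_sum_erase _ _ (Finset.mem_univ (1 : P))]
    have h2 : ∀ y ∈ (Finset.univ : Finset P).erase 1, (χ : G → ℂ) y * (starRingEnd ℂ) (E3.ev (1 : ↥P →* ℂˣ) y) = a := by
      intro y hy
      have hy1 : y ≠ 1 := Finset.ne_of_mem_erase hy
      have hy2 : (y : G) ≠ 1 := fun h3 => hy1 (Subtype.ext h3)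
      rw [h y y.2 hy2]
      simp [E3.ev]
    rw [Finset.sum_congr rfl h2, Finset.sum_const, Finset.card_erase_of_mem (Finset.mem_univ _), Finset.card_univ,
      ← Nat.card_eq_fintype_card, hP, nsmul_eq_mul]
    have hp1 : 1 ≤ p := hp.out.one_lt.le
    push_cast [Nat.cast_sub hp1]
    simp only [E3.ev]
    rw [apply_one_eq_charDegree (IsIrrCharacter.isCharacter χ.2)]
    simp
  rw [hsum, hP] at h1
  have hp0 : (p : ℂ) ≠ 0 := by exact_mod_cast hp.out.ne_zero
  have h3 : (p : ℂ) * (E3.mult P (1 : ↥P →* ℂˣ) χ : ℂ) = charDegree (χ : G → ℂ) + ((p : ℂ) - 1) * a := by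
    rw [h1]
    field_simp
  refine ⟨(E3.mult P (1 : ↥P →* ℂˣ) χ : ℤ) - a, ?_⟩
  have h4 : (((charDegree (χ : G → ℂ) : ℤ) - a : ℤ) : ℂ) =
      (((p : ℤ) * ((E3.mult P (1 : ↥P →* ℂˣ) χ : ℤ) - a) : ℤ) : ℂ) := by
    push_cast
    linear_combination -h3
  exact_mod_cast h4

/-- **Numerical data of the principal block.** -/
theorem block_data {p : ℕ} [hp : Fact p.Prime] (P : Sylow p G) (hP : Nat.card (P : Subgroup G) = p)
    {m r : ℕ} (hm1 : 1 < m) (hr : m * r + 1 = p) (hr1 : 1 < r)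
    (hCN : (centralizer ((P : Subgroup G) : Set G)).relIndex (normalizer ((P : Subgroup G) : Set G)) = m) :
    ∃ (X : Finset (IrrCharacter G)) (a : IrrCharacter G → ℤ) (d δ : ℤ) (η : IrrCharacter G),
      (δ = 1 ∨ δ = -1) ∧ ⟨fun _ => 1, isIrrCharacter_one⟩ ∈ X ∧
      a ⟨fun _ => 1, isIrrCharacter_one⟩ = 1 ∧ η ∉ X ∧
      (∀ χ ∈ X, a χ ≠ 0 ∧ (p : ℤ) ∣ (charDegree (χ : G → ℂ) : ℤ) - a χ) ∧
      (d - δ) ^ 2 + ((r : ℤ) - 1) * d ^ 2 + ∑ χ ∈ X, a χ ^ 2 = (m : ℤ) + 1 ∧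
      ((r : ℤ) * d - δ) * (charDegree (η : G → ℂ) : ℤ) + ∑ χ ∈ X, a χ * (charDegree (χ : G → ℂ) : ℤ) = 0 := by
  classical
  obtain ⟨M, hM⟩ := exists_isPModular hp.out
  have hab : IsMulCommutative P := by
    haveI hcyc3 : IsCyclic (P : Subgroup G) := isCyclic_of_prime_card hP
    exact ⟨⟨fun a b => by
      have := hcyc3.commGroup.mul_comm a b
      exact this⟩⟩
  have hP1 : Nat.card P ≠ 1 := by
    have h1 : Nat.card P = p := hP
    rw [h1]
    exact hp.out.ne_one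
  have hcardP : Nat.card P = p := hP
  have hm2 : m + 1 < Nat.card P := by
    rw [hcardP, ← hr]
    nlinarith
  obtain ⟨g, hg1, hg2⟩ := exists_gen_normalizer (p := p) (P : Subgroup G) hP
  obtain ⟨s, X, Y, hs, hB, hdis, hXc, hYc, ⟨χ₁, hχ₁X, hχ₁⟩, a, d, δ, ζ, hδ, hvals, hζY, hζsurj, hζconst, hζval,
    hnorm, hagree, hrel⟩ := Cfsg.Agent.S4709.result p M hM P hab hP1 m hm1 hm2 hCN ⟨g, hg1, hg2⟩
    (fun y hy hy1 => frob_of_prime (p := p) (P : Subgroup G) hP y hy hy1)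
  have hrr : (Nat.card P - 1) / m = r := by
    rw [hcardP, ← hr, Nat.add_sub_cancel]
    exact Nat.mul_div_cancel_left _ (by omega)
  have hrz : ((Nat.card P : ℤ) - 1) / (m : ℤ) = (r : ℤ) := by
    rw [hcardP, ← hr]
    push_cast
    rw [add_sub_cancel_right]
    exact Int.mul_ediv_cancel_left _ (by exact_mod_cast (by omega : m ≠ 0))
  have hXf : X.Finite := Set.toFinite X
  have hχ₁e : χ₁ = ⟨fun _ => 1, isIrrCharacter_one⟩ := Subtype.ext hχ₁
  obtain ⟨η, hη⟩ : Y.Nonempty := by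
    have h1 : Nat.card Y ≠ 0 := by
      rw [hYc, hrr]
      omega
    have h2 := (Nat.card_ne_zero.mp h1).1
    exact Set.nonempty_coe_sort.mp h2
  have hηX : η ∉ hXf.toFinset := by
    intro h
    exact Set.disjoint_left.mp hdis (hXf.mem_toFinset.mp h) hη
  -- a nontrivial element of P
  have hne : (P : Subgroup G) ≠ ⊥ := by
    intro h
    rw [h] at hP
    simp at hP
    exact hp.out.ne_one hP.symm
  obtain ⟨⟨y₀, hy₀⟩, hy₀1⟩ := Subgroup.ne_bot_iff_exists_ne_one.mp hne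
  have hval : ∀ χ ∈ X, ∀ y ∈ (P : Subgroup G), y ≠ 1 → (χ : G → ℂ) y = (a χ : ℂ) := by
    intro χ hχ y hy hy1
    have ho : orderOf y = p := by
      have h1 : orderOf (⟨y, hy⟩ : (P : Subgroup G)) ∣ Nat.card (P : Subgroup G) := orderOf_dvd_natCard _
      rw [hP, Subgroup.orderOf_mk] at h1
      rcases (Nat.dvd_prime hp.out).mp h1 with h | h
      · exact absurd (orderOf_eq_one_iff.mp h) hy1
      · exact h
    exact (hvals χ hχ).2 y y (isPPart_self ho hp.out.ne_one) hy hy1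
  refine ⟨hXf.toFinset, a, d, δ, η, hδ, ?_, ?_, hηX, ?_, ?_, ?_⟩
  · rw [hχ₁e] at hχ₁X
    exact hXf.mem_toFinset.mpr hχ₁X
  · have h1 := hval χ₁ hχ₁X y₀ hy₀ (fun h => hy₀1 (Subtype.ext h))
    rw [hχ₁] at h1
    have h2 : ((1 : ℤ) : ℂ) = ((a χ₁ : ℤ) : ℂ) := by simpa using h1
    have h3 : a χ₁ = 1 := (Int.cast_injective h2).symm
    rw [← hχ₁e]
    exact h3
  · intro χ hχ
    have hχ' := hXf.mem_toFinset.mp hχ
    exact ⟨(hvals χ hχ').1, dvd_degree_sub (P : Subgroup G) hP χ (a χ) (hval χ hχ')⟩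
  · rw [hrz, finsum_mem_eq_finite_toFinset_sum _ hXf] at hnorm
    exact hnorm
  · have h1 := hrel η hη 1 (by rw [orderOf_one]; exact hp.out.one_lt.ne' ∘ Nat.dvd_one.mp)
    rw [hrr, finsum_mem_eq_finite_toFinset_sum _ hXf, apply_one_eq_charDegree (IsIrrCharacter.isCharacter η.2)] at h1
    have h2 : ∀ χ ∈ hXf.toFinset, (a χ : ℂ) * (χ : G → ℂ) 1 = ((a χ * (charDegree (χ : G → ℂ) : ℤ) : ℤ) : ℂ) := by
      intro χ _
      rw [apply_one_eq_charDegree (IsIrrCharacter.isCharacter χ.2)]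
      push_cast
      rfl
    rw [Finset.sum_congr rfl h2] at h1
    have h3 : ((((r : ℤ) * d - δ) * (charDegree (η : G → ℂ) : ℤ) + ∑ χ ∈ hXf.toFinset, a χ * (charDegree (χ : G → ℂ) : ℤ) : ℤ) : ℂ) = ((0 : ℤ) : ℂ) := by
      push_cast
      push_cast at h1
      exact h1
    exact Int.cast_injective h3

end Cfsg.Agent.Lib.Small.BD
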