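import Mathlib
import Cfsg.Agent.Lib.Small.BrauerData
import Cfsg.Agent.Lib.SmallSimple.Sylow
import Cfsg.Agent.Lib.Char.Linear

/-! Killing group orders with the principal block at a Sylow subgroup of prime order. -/

set_option autoImplicit false

namespace Cfsg.Agent.Lib.Small.BD

open Cfsg Cfsg.Agent.Lib.Char Subgroup

universe u

variable {G : Type u} [Group G] [Fintype G]

/-- the principal character -/
abbrev one' (G : Type u) [Group G] : IrrCharacter G := ⟨fun _ => 1, isIrrCharacter_one⟩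

theorem one_lt_degree [IsSimpleGroup G] (hnc : ¬ IsMulCommutative G) {χ : IrrCharacter G} (hχ : χ ≠ one' G) :
    1 < charDegree (χ : G → ℂ) := by
  have hpos := charDegree_pos χ.2
  by_contra hc
  have h1 : charDegree (χ : G → ℂ) = 1 := by omega
  have h2 : (χ : G → ℂ) 1 = 1 := by
    rw [apply_one_eq_charDegree (IsIrrCharacter.isCharacter χ.2), h1]
    simp
  obtain ⟨lam, hlam⟩ := IsCharacter.exists_monoidHom (IsIrrCharacter.isCharacter χ.2) h2
  apply hχ
  apply Subtype.ext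
  rw [hlam]
  funext g
  have h3 : lam g = 1 := by
    have h4 := SmallSimple.ker_eq_top_of_comm hnc lam
    have h5 : g ∈ lam.ker := by rw [h4]; trivial
    exact h5
  simp [h3]

/-- Square decomposition: sum equal to 1. -/
theorem sum_sq_eq_one {ι : Type*} [DecidableEq ι] {s : Finset ι} {a : ι → ℤ} (ha : ∀ i ∈ s, a i ≠ 0)
    (h : ∑ i ∈ s, a i ^ 2 = 1) : ∃ i, s = {i} ∧ (a i = 1 ∨ a i = -1) := by
  have hcard : s.card ≤ 1 := by
    have h1 : ∑ i ∈ s, (1 : ℤ) ≤ ∑ i ∈ s, a i ^ 2 := by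
      apply Finset.sum_le_sum
      intro i hi
      have := sq_pos_of_ne_zero (ha i hi)
      omega
    rw [h] at h1
    simp only [Finset.sum_const, nsmul_eq_mul, mul_one] at h1
    exact_mod_cast h1
  have hne : s.Nonempty := by
    rw [Finset.nonempty_iff_ne_empty]
    rintro rfl
    simp at h
  have hc1 : s.card = 1 := by
    have := Finset.card_pos.mpr hne
    omega
  obtain ⟨i, rfl⟩ := Finset.card_eq_one.mp hc1
  refine ⟨i, rfl, ?_⟩
  simp only [Finset.sum_singleton] at h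
  have h2 : (a i - 1) * (a i + 1) = 0 := by nlinarith
  rcases mul_eq_zero.mp h2 with h3 | h3
  · left; omega
  · right; omega

/-- Square decomposition: sum equal to 2. -/
theorem sum_sq_eq_two {ι : Type*} [DecidableEq ι] {s : Finset ι} {a : ι → ℤ} (ha : ∀ i ∈ s, a i ≠ 0)
    (h : ∑ i ∈ s, a i ^ 2 = 2) :
    ∃ i j, i ≠ j ∧ s = {i, j} ∧ (a i = 1 ∨ a i = -1) ∧ (a j = 1 ∨ a j = -1) := by
  have hne : s.Nonempty := by
    rw [Finset.nonempty_iff_ne_empty]
    rintro rfl
    simp at h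
  obtain ⟨i, hi⟩ := hne
  have h1 : a i ^ 2 + ∑ j ∈ s.erase i, a j ^ 2 = 2 := by
    have h0 := Finset.add_sum_erase s (fun j => a j ^ 2) hi
    rw [h] at h0
    exact h0
  have h2 : 1 ≤ a i ^ 2 := by
    have := sq_pos_of_ne_zero (ha i hi)
    omega
  have h3 : 0 ≤ ∑ j ∈ s.erase i, a j ^ 2 := Finset.sum_nonneg fun j _ => sq_nonneg _
  have hai2 : a i ^ 2 = 1 ∨ a i ^ 2 = 2 := by omega
  rcases hai2 with h4 | h4
  · have h5 : ∑ j ∈ s.erase i, a j ^ 2 = 1 := by omega
    obtain ⟨j, hj, hj2⟩ := sum_sq_eq_one (fun j hj => ha j (Finset.mem_of_mem_erase hj)) h5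
    have hji : j ≠ i := by
      have : j ∈ s.erase i := by rw [hj]; simp
      exact Finset.ne_of_mem_erase this
    refine ⟨i, j, hji.symm, ?_, ?_, hj2⟩
    · rw [← Finset.insert_erase hi, hj]
    · have h6 : (a i - 1) * (a i + 1) = 0 := by nlinarith
      rcases mul_eq_zero.mp h6 with h7 | h7
      · left; omega
      · right; omega
  · exfalso
    have h6 : a i ^ 2 = 2 := h4
    have h7 : |a i| < 2 := by
      apply abs_lt_of_sq_lt_sq
      · nlinarith
      · norm_num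
    have h8 : a i = -1 ∨ a i = 0 ∨ a i = 1 := by
      have := abs_lt.mp h7
      omega
    rcases h8 with h8 | h8 | h8 <;> rw [h8] at h6 <;> norm_num at h6

section Data

variable [IsSimpleGroup G] (hnc : ¬ IsMulCommutative G)

include hnc

/-- `e = 2`. -/
theorem data_two {p : ℕ} [hp : Fact p.Prime] (P : Sylow p G) (hP : Nat.card (P : Subgroup G) = p)
    {r : ℕ} (hr : 2 * r + 1 = p) (hr1 : 3 < r)
    (hCN : (centralizer ((P : Subgroup G) : Set G)).relIndex (normalizer ((P : Subgroup G) : Set G)) = 2) :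
    ∃ (δ a : ℤ) (x y : ℕ), (δ = 1 ∨ δ = -1) ∧ (a = 1 ∨ a = -1) ∧ 1 < x ∧ 1 < y ∧ x ∣ Nat.card G ∧ y ∣ Nat.card G ∧
      (p : ℤ) ∣ (x : ℤ) - a ∧ - δ * y + 1 + a * x = 0 := by
  classical
  obtain ⟨X, a, d, δ, η, hδ, h1X, ha1, hηX, hX, hnorm, hrel⟩ := block_data P hP (m := 2) (by norm_num) hr (by omega) hCN
  have hsum : ∑ χ ∈ X, a χ ^ 2 = 1 + ∑ χ ∈ X.erase (one' G), a χ ^ 2 := by
    rw [← Finset.add_sum_erase _ _ h1X, ha1]
    norm_num
  have hsum2 : ∑ χ ∈ X, a χ * (charDegree (χ : G → ℂ) : ℤ) =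
      1 + ∑ χ ∈ X.erase (one' G), a χ * (charDegree (χ : G → ℂ) : ℤ) := by
    rw [← Finset.add_sum_erase _ _ h1X, ha1]
    have : charDegree ((one' G : IrrCharacter G) : G → ℂ) = 1 := charDegree_eq (by simp)
    rw [this]
    norm_num
  have hnn : 0 ≤ ∑ χ ∈ X.erase (one' G), a χ ^ 2 := Finset.sum_nonneg fun j _ => sq_nonneg _
  rw [hsum] at hnorm
  rw [hsum2] at hrel
  have hd : d = 0 := by
    by_contra hd
    have h1 : 1 ≤ d ^ 2 := by
      have := sq_pos_of_ne_zero hd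
      omega
    have h2 : (3 : ℤ) ≤ (r : ℤ) - 1 := by
      have : (4 : ℤ) ≤ r := by exact_mod_cast hr1
      omega
    have h3 : 3 ≤ ((r : ℤ) - 1) * d ^ 2 := by nlinarith
    have h4 := sq_nonneg (d - δ)
    push_cast at hnorm
    omega
  subst hd
  have hδ2 : δ ^ 2 = 1 := by rcases hδ with h | h <;> rw [h] <;> norm_num
  have h5 : ∑ χ ∈ X.erase (one' G), a χ ^ 2 = 1 := by
    push_cast at hnorm
    have : (0 - δ) ^ 2 = 1 := by rw [zero_sub, neg_sq, hδ2]
    rw [this] at hnorm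
    linarith
  obtain ⟨χ, hχ, hχa⟩ := sum_sq_eq_one (fun j hj => (hX j (Finset.mem_of_mem_erase hj)).1) h5
  have hχmem : χ ∈ X.erase (one' G) := by rw [hχ]; simp
  have hχ1 : χ ≠ one' G := Finset.ne_of_mem_erase hχmem
  have hη1 : η ≠ one' G := fun h => hηX (h ▸ h1X)
  refine ⟨δ, a χ, charDegree (χ : G → ℂ), charDegree (η : G → ℂ), hδ, hχa, one_lt_degree hnc hχ1, one_lt_degree hnc hη1,
    charDegree_dvd_card χ.2, charDegree_dvd_card η.2, (hX χ (Finset.mem_of_mem_erase hχmem)).2, ?_⟩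
  rw [hχ, Finset.sum_singleton] at hrel
  linarith

/-- `e = 3`. -/
theorem data_three {p : ℕ} [hp : Fact p.Prime] (P : Sylow p G) (hP : Nat.card (P : Subgroup G) = p)
    {r : ℕ} (hr : 3 * r + 1 = p) (hr1 : 4 < r)
    (hCN : (centralizer ((P : Subgroup G) : Set G)).relIndex (normalizer ((P : Subgroup G) : Set G)) = 3) :
    ∃ (δ a₁ a₂ : ℤ) (x₁ x₂ y : ℕ), (δ = 1 ∨ δ = -1) ∧ (a₁ = 1 ∨ a₁ = -1) ∧ (a₂ = 1 ∨ a₂ = -1) ∧ 1 < x₁ ∧ 1 < x₂ ∧ 1 < y ∧
      x₁ ∣ Nat.card G ∧ x₂ ∣ Nat.card G ∧ y ∣ Nat.card G ∧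
      (p : ℤ) ∣ (x₁ : ℤ) - a₁ ∧ (p : ℤ) ∣ (x₂ : ℤ) - a₂ ∧ - δ * y + 1 + a₁ * x₁ + a₂ * x₂ = 0 := by
  classical
  obtain ⟨X, a, d, δ, η, hδ, h1X, ha1, hηX, hX, hnorm, hrel⟩ := block_data P hP (m := 3) (by norm_num) hr (by omega) hCN
  have hsum : ∑ χ ∈ X, a χ ^ 2 = 1 + ∑ χ ∈ X.erase (one' G), a χ ^ 2 := by
    rw [← Finset.add_sum_erase _ _ h1X, ha1]
    norm_num
  have hsum2 : ∑ χ ∈ X, a χ * (charDegree (χ : G → ℂ) : ℤ) =
      1 + ∑ χ ∈ X.erase (one' G), a χ * (charDegree (χ : G → ℂ) : ℤ) := by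
    rw [← Finset.add_sum_erase _ _ h1X, ha1]
    have : charDegree ((one' G : IrrCharacter G) : G → ℂ) = 1 := charDegree_eq (by simp)
    rw [this]
    norm_num
  have hnn : 0 ≤ ∑ χ ∈ X.erase (one' G), a χ ^ 2 := Finset.sum_nonneg fun j _ => sq_nonneg _
  rw [hsum] at hnorm
  rw [hsum2] at hrel
  have hd : d = 0 := by
    by_contra hd
    have h1 : 1 ≤ d ^ 2 := by
      have := sq_pos_of_ne_zero hd
      omega
    have h2 : (4 : ℤ) ≤ (r : ℤ) - 1 := by
      have : (5 : ℤ) ≤ r := by exact_mod_cast hr1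
      omega
    have h3 : 4 ≤ ((r : ℤ) - 1) * d ^ 2 := by nlinarith
    have h4 := sq_nonneg (d - δ)
    push_cast at hnorm
    omega
  subst hd
  have hδ2 : δ ^ 2 = 1 := by rcases hδ with h | h <;> rw [h] <;> norm_num
  have h5 : ∑ χ ∈ X.erase (one' G), a χ ^ 2 = 2 := by
    push_cast at hnorm
    have : (0 - δ) ^ 2 = 1 := by rw [zero_sub, neg_sq, hδ2]
    rw [this] at hnorm
    linarith
  obtain ⟨χ, χ', hne, hχ, hχa, hχa'⟩ := sum_sq_eq_two (fun j hj => (hX j (Finset.mem_of_mem_erase hj)).1) h5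
  have hχmem : χ ∈ X.erase (one' G) := by rw [hχ]; simp
  have hχmem' : χ' ∈ X.erase (one' G) := by rw [hχ]; simp
  have hχ1 : χ ≠ one' G := Finset.ne_of_mem_erase hχmem
  have hχ1' : χ' ≠ one' G := Finset.ne_of_mem_erase hχmem'
  have hη1 : η ≠ one' G := fun h => hηX (h ▸ h1X)
  refine ⟨δ, a χ, a χ', charDegree (χ : G → ℂ), charDegree (χ' : G → ℂ), charDegree (η : G → ℂ), hδ, hχa, hχa',
    one_lt_degree hnc hχ1, one_lt_degree hnc hχ1', one_lt_degree hnc hη1,
    charDegree_dvd_card χ.2, charDegree_dvd_card χ'.2, charDegree_dvd_card η.2,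
    (hX χ (Finset.mem_of_mem_erase hχmem)).2, (hX χ' (Finset.mem_of_mem_erase hχmem')).2, ?_⟩
  rw [hχ, Finset.sum_pair hne] at hrel
  linarith

end Data

/-- The index `e`, `c` and Sylow number. -/
theorem exists_index [IsSimpleGroup G] (hnc : ¬ IsMulCommutative G) {p : ℕ} [hp : Fact p.Prime] (P : Sylow p G)
    (hP : Nat.card (P : Subgroup G) = p) (hnp : ¬ IsPGroup p G) :
    ∃ (c m : ℕ), (centralizer ((P : Subgroup G) : Set G)).relIndex (normalizer ((P : Subgroup G) : Set G)) = m ∧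
      1 < m ∧ m ∣ p - 1 ∧ p * c * m * Nat.card (Sylow p G) = Nat.card G ∧ Nat.card (Sylow p G) % p = 1 := by
  have hcyc : IsCyclic (P : Subgroup G) := isCyclic_of_prime_card hP
  have hαC : (P : Subgroup G) ≤ centralizer ((P : Subgroup G) : Set G) := by
    intro x hx
    rw [mem_centralizer_iff]
    intro y hy
    letI := hcyc.commGroup
    have := mul_comm (⟨y, hy⟩ : (P : Subgroup G)) ⟨x, hx⟩
    exact congrArg Subtype.val this
  have h5C : p ∣ Nat.card (centralizer ((P : Subgroup G) : Set G)) := by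
    have h1 := Subgroup.card_dvd_of_le hαC
    rw [hP] at h1
    exact h1
  obtain ⟨c, hc⟩ := h5C
  have hG := SmallSimple.card_normalizer_mul_card_sylow p P
  have hN : Nat.card (normalizer ((P : Subgroup G) : Set G)) =
      Nat.card (centralizer ((P : Subgroup G) : Set G)) * (centralizer ((P : Subgroup G) : Set G)).relIndex (normalizer ((P : Subgroup G) : Set G)) := by
    have h1 := Subgroup.card_mul_index ((centralizer ((P : Subgroup G) : Set G)).subgroupOf (normalizer ((P : Subgroup G) : Set G)))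
    rw [Nat.card_congr (Subgroup.subgroupOfEquivOfLe (centralizer_le_normalizer ((P : Subgroup G) : Set G))).toEquiv] at h1
    exact h1.symm
  have hG' : Nat.card (normalizer ((P : Subgroup G) : Set G)) * Nat.card (Sylow p G) = Nat.card G := hG
  have hpG : p ∣ Nat.card G := by
    rw [← hG', hN, hc]
    exact ⟨c * (centralizer ((P : Subgroup G) : Set G)).relIndex (normalizer ((P : Subgroup G) : Set G)) * Nat.card (Sylow p G), by ring⟩
  refine ⟨c, _, rfl, ?_, ?_, ?_, ?_⟩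
  · have hne : (centralizer ((P : Subgroup G) : Set G)).relIndex (normalizer ((P : Subgroup G) : Set G)) ≠ 1 := by
      intro h
      rw [Subgroup.relIndex_eq_one] at h
      exact SmallSimple.normalizer_not_le_centralizer hpG hnp P h
    have hpos : (centralizer ((P : Subgroup G) : Set G)).relIndex (normalizer ((P : Subgroup G) : Set G)) ≠ 0 := by
      intro h0
      rw [h0, Nat.mul_zero] at hN
      have := Nat.card_pos (α := normalizer ((P : Subgroup G) : Set G))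
      omega
    omega
  · have h1 := SmallSimple.relIndex_centralizer_normalizer_dvd P
    rw [IsCyclic.card_mulAut, hP, Nat.totient_prime hp.out] at h1
    exact h1
  · rw [← hG', hN, hc]
  · have h1 : Nat.card (Sylow p G) ≡ 1 [MOD p] := card_sylow_modEq_one p G
    have h2 : 1 % p = 1 := Nat.mod_eq_of_lt hp.out.one_lt
    rw [Nat.ModEq, h2] at h1
    exact h1

/-- Final check for `e = 2`. -/
theorem false_of_check_two [IsSimpleGroup G] (hnc : ¬ IsMulCommutative G) {p N r : ℕ} [hp : Fact p.Prime] (P : Sylow p G)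
    (hP : Nat.card (P : Subgroup G) = p) (hcard : Nat.card G = p * N)
    (hr : 2 * r + 1 = p) (hr1 : 3 < r)
    (hCN : (centralizer ((P : Subgroup G) : Set G)).relIndex (normalizer ((P : Subgroup G) : Set G)) = 2)
    (hchk : ∀ x ∈ Nat.divisors N, (x % p = 1 → x = 1 ∨ ¬ (x + 1) ∣ p * N) ∧ (x % p = p - 1 → x = 2 ∨ ¬ (x - 1) ∣ p * N)) :
    False := by
  obtain ⟨δ, a, x, y, hδ, ha, hx, hy, hxd, hyd, hpx, hrel⟩ := data_two hnc P hP hr hr1 hCN
  have hpr := hp.out
  have hp3 : 3 < p := by omega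
  have hNpos : N ≠ 0 := by
    rintro rfl
    have : 0 < Nat.card G := Nat.card_pos
    omega
  obtain ⟨k, hk⟩ := hpx
  have hxcop : Nat.Coprime x p := by
    rw [Nat.coprime_comm, Nat.Prime.coprime_iff_not_dvd hpr]
    intro h
    obtain ⟨t, ht⟩ := h
    rw [ht] at hk
    have h1 : (p : ℤ) ∣ a := ⟨t - k, by push_cast at hk; linarith⟩
    rcases ha with rfl | rfl
    · have := Int.le_of_dvd (by norm_num) h1
      omega
    · have := Int.le_of_dvd (by norm_num) ((Int.dvd_neg).mpr h1)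
      omega
  have hxN : x ∈ Nat.divisors N := by
    refine Nat.mem_divisors.mpr ⟨?_, hNpos⟩
    rw [hcard] at hxd
    exact hxcop.dvd_of_dvd_mul_left hxd
  obtain ⟨h1, h2⟩ := hchk x hxN
  rcases ha with rfl | rfl
  · -- a = 1
    have hxmod : x % p = 1 := by
      have h3 : (x : ℤ) = p * k + 1 := by linarith
      have h4 : (x : ℤ) % p = 1 := by
        rw [h3, Int.mul_add_emod_self_left]
        exact Int.emod_eq_of_lt (by norm_num) (by omega)
      omega
    have hy' : y = x + 1 := by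
      rcases hδ with rfl | rfl
      · push_cast at hrel ⊢
        omega
      · exfalso
        push_cast at hrel
        omega
    rcases h1 hxmod with h3 | h3
    · omega
    · apply h3
      rw [← hy', ← hcard]
      exact hyd
  · have hxmod : x % p = p - 1 := by
      have h3 : (x : ℤ) = p * (k - 1) + (p - 1) := by linarith
      have h4 : (x : ℤ) % p = p - 1 := by
        rw [h3, Int.mul_add_emod_self_left]
        exact Int.emod_eq_of_lt (by omega) (by omega)
      omega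
    have hy' : y = x - 1 := by
      rcases hδ with rfl | rfl
      · exfalso
        push_cast at hrel
        omega
      · push_cast at hrel
        omega
    rcases h2 hxmod with h3 | h3
    · omega
    · apply h3
      rw [← hy', ← hcard]
      exact hyd

/-- Final check for `e = 3`. -/
theorem false_of_check_three [IsSimpleGroup G] (hnc : ¬ IsMulCommutative G) {p N r : ℕ} [hp : Fact p.Prime] (P : Sylow p G)
    (hP : Nat.card (P : Subgroup G) = p) (hcard : Nat.card G = p * N)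
    (hr : 3 * r + 1 = p) (hr1 : 4 < r)
    (hCN : (centralizer ((P : Subgroup G) : Set G)).relIndex (normalizer ((P : Subgroup G) : Set G)) = 3)
    (hchk : ∀ x₁ ∈ Nat.divisors N, ∀ x₂ ∈ Nat.divisors N, ∀ a₁ ∈ ({1, -1} : Finset ℤ), ∀ a₂ ∈ ({1, -1} : Finset ℤ),
      x₁ ≠ 1 → x₂ ≠ 1 → ((x₁ : ℤ) - a₁) % p = 0 → ((x₂ : ℤ) - a₂) % p = 0 →
        (1 + a₁ * x₁ + a₂ * x₂).natAbs ≤ 1 ∨ ¬ (1 + a₁ * x₁ + a₂ * x₂).natAbs ∣ p * N) :
    False := by
  obtain ⟨δ, a₁, a₂, x₁, x₂, y, hδ, ha₁, ha₂, hx₁, hx₂, hy, hx₁d, hx₂d, hyd, hp₁, hp₂, hrel⟩ := data_three hnc P hP hr hr1 hCN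
  have hpr := hp.out
  have hp3 : 3 < p := by omega
  have hNpos : N ≠ 0 := by
    rintro rfl
    have : 0 < Nat.card G := Nat.card_pos
    omega
  have hcop : ∀ (x : ℕ) (a : ℤ), (a = 1 ∨ a = -1) → (p : ℤ) ∣ (x : ℤ) - a → Nat.Coprime x p := by
    intro x a ha hpx
    obtain ⟨k, hk⟩ := hpx
    rw [Nat.coprime_comm, Nat.Prime.coprime_iff_not_dvd hpr]
    intro h
    obtain ⟨t, ht⟩ := h
    rw [ht] at hk
    have h1 : (p : ℤ) ∣ a := ⟨t - k, by push_cast at hk; linarith⟩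
    rcases ha with rfl | rfl
    · have := Int.le_of_dvd (by norm_num) h1
      omega
    · have := Int.le_of_dvd (by norm_num) ((Int.dvd_neg).mpr h1)
      omega
  have hx₁N : x₁ ∈ Nat.divisors N := by
    refine Nat.mem_divisors.mpr ⟨?_, hNpos⟩
    rw [hcard] at hx₁d
    exact (hcop x₁ a₁ ha₁ hp₁).dvd_of_dvd_mul_left hx₁d
  have hx₂N : x₂ ∈ Nat.divisors N := by
    refine Nat.mem_divisors.mpr ⟨?_, hNpos⟩
    rw [hcard] at hx₂d
    exact (hcop x₂ a₂ ha₂ hp₂).dvd_of_dvd_mul_left hx₂d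
  have ha₁' : a₁ ∈ ({1, -1} : Finset ℤ) := by simpa using ha₁
  have ha₂' : a₂ ∈ ({1, -1} : Finset ℤ) := by simpa using ha₂
  have hmod₁ : ((x₁ : ℤ) - a₁) % p = 0 := Int.emod_eq_zero_of_dvd hp₁
  have hmod₂ : ((x₂ : ℤ) - a₂) % p = 0 := Int.emod_eq_zero_of_dvd hp₂
  have hmain := hchk x₁ hx₁N x₂ hx₂N a₁ ha₁' a₂ ha₂' (by omega) (by omega) hmod₁ hmod₂
  have hval : (1 + a₁ * x₁ + a₂ * x₂).natAbs = y := by
    have h1 : 1 + a₁ * x₁ + a₂ * x₂ = δ * y := by linarith
    rw [h1]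
    rcases hδ with rfl | rfl
    · simp
    · simp
  rw [hval] at hmain
  rcases hmain with h | h
  · omega
  · apply h
    rw [← hcard]
    exact hyd

/-- Sylow set-up when `p` exactly divides the group order. -/
theorem exists_setup [IsSimpleGroup G] {p N : ℕ} [hp : Fact p.Prime] (hcard : Nat.card G = p * N) (hpN : ¬ p ∣ N)
    (hN1 : 1 < N) :
    ∃ (P : Sylow p G) (m : ℕ), Nat.card (P : Subgroup G) = p ∧ ¬ IsMulCommutative G ∧
      (centralizer ((P : Subgroup G) : Set G)).relIndex (normalizer ((P : Subgroup G) : Set G)) = m ∧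
      m ∈ Nat.divisors (p - 1) ∧ 1 < m ∧
      ∃ n ∈ Nat.divisors N, m * n ∣ N ∧ n % p = 1 ∧ 1 < n := by
  have hpr := hp.out
  have hnc : ¬ IsMulCommutative G := by
    apply SmallSimple.not_comm_of_not_prime
    rw [hcard]
    exact Nat.not_prime_mul hpr.one_lt.ne' (by omega)
  have hnp : ¬ IsPGroup p G := by
    obtain ⟨q, hq, hqN⟩ := Nat.exists_prime_and_dvd (n := N) (by omega)
    refine SmallSimple.not_isPGroup_of_dvd hpr hq ?_ (by rw [hcard]; exact Dvd.dvd.mul_left hqN p)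
    rintro rfl
    exact hpN hqN
  obtain ⟨P⟩ : Nonempty (Sylow p G) := inferInstance
  have hP : Nat.card (P : Subgroup G) = p := by
    have := SmallSimple.sylow_card_of_eq (a := 1) (m := N) P (by rw [hcard, pow_one]) hpN
    simpa using this
  obtain ⟨c, m, hm, hm1, hmd, hc, hn⟩ := exists_index hnc P hP hnp
  have hn1 := (SmallSimple.sylow_package (a := 1) (m := N) (by rw [hcard, pow_one]) (by norm_num) hpN hnp hnc).2.2.1
  have hNpos : N ≠ 0 := by omega
  have hc' : c * m * Nat.card (Sylow p G) = N := by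
    apply Nat.eq_of_mul_eq_mul_left hpr.pos
    rw [← hcard, ← hc]
    ring
  refine ⟨P, m, hP, hnc, hm, ?_, hm1, Nat.card (Sylow p G), ?_, ?_, hn, hn1⟩
  · exact Nat.mem_divisors.mpr ⟨hmd, by have := hpr.two_le; omega⟩
  · exact Nat.mem_divisors.mpr ⟨⟨c * m, by rw [← hc']; ring⟩, hNpos⟩
  · exact ⟨c, by rw [← hc']; ring⟩

end Cfsg.Agent.Lib.Small.BD
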