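import Mathlib
import Cfsg.Agent.Lib.Blocks.AbelianSylow
import Cfsg.Agent.Lib.Char.ClassSum

/-! Class multiplication coefficients and sums over sections. -/

set_option autoImplicit false
set_option linter.unusedSectionVars false

namespace Cfsg.Agent.Lib.Small.BD

open Cfsg Cfsg.Agent.Lib.Char Cfsg.Agent.Lib.Blocks Subgroup
open scoped ComplexConjugate

universe u

variable {G : Type u} [Group G] [Fintype G]

section Pairs

variable (t : G) [DecidableEq G] [Fintype {x : G // IsConj t x}]

/-- The number of pairs of conjugates of `t` with product `g`. -/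
def pairCount (g : G) : ℕ :=
  ((Finset.univ : Finset ({x : G // IsConj t x} × {x : G // IsConj t x})).filter
    fun q => (q.1 : G) * (q.2 : G) = g).card

theorem pairCount_formula (g : G) :
    (pairCount t g : ℂ) * (Nat.card (centralizer ({t} : Set G)) : ℂ) ^ 2 =
      (Nat.card G : ℂ) * ∑ χ : IrrCharacter G, (χ : G → ℂ) t ^ 2 * (χ : G → ℂ) g⁻¹ / (χ : G → ℂ) 1 := by
  classical
  have hG : (Nat.card G : ℂ) ≠ 0 := by exact_mod_cast Nat.card_pos.ne'
  have hcard : (Nat.card {x : G // IsConj t x} : ℂ) * (Nat.card (centralizer ({t} : Set G)) : ℂ) = (Nat.card G : ℂ) := by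
    exact_mod_cast card_conj_mul_card_centralizer t
  have h1 : (pairCount t g : ℂ) =
      ∑ x : {x : G // IsConj t x}, ∑ x' : {x : G // IsConj t x}, if (x : G) * (x' : G) = g then (1 : ℂ) else 0 := by
    rw [pairCount, Finset.card_filter]
    push_cast
    rw [Fintype.sum_prod_type]
  have h2 : (Nat.card G : ℂ) * (pairCount t g : ℂ) =
      ∑ χ : IrrCharacter G, (Nat.card {x : G // IsConj t x} : ℂ) ^ 2 *
        ((χ : G → ℂ) t ^ 2 * (χ : G → ℂ) g⁻¹ / (χ : G → ℂ) 1) := by
    rw [h1, Finset.mul_sum]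
    have h3 : ∀ x x' : {x : G // IsConj t x}, (Nat.card G : ℂ) * (if (x : G) * (x' : G) = g then (1 : ℂ) else 0) =
        ∑ χ : IrrCharacter G, (χ : G → ℂ) 1 * (χ : G → ℂ) ((x : G) * (x' : G) * g⁻¹) := by
      intro x x'
      rw [sum_irr_degree_mul_apply_mul_inv]
      split_ifs <;> simp
    simp only [Finset.mul_sum, h3]
    have h4 : ∀ χ : IrrCharacter G, ∑ x : {x : G // IsConj t x}, ∑ x' : {x : G // IsConj t x},
        (χ : G → ℂ) 1 * (χ : G → ℂ) ((x : G) * (x' : G) * g⁻¹) =
        (Nat.card {x : G // IsConj t x} : ℂ) ^ 2 *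
        ((χ : G → ℂ) t ^ 2 * (χ : G → ℂ) g⁻¹ / (χ : G → ℂ) 1) := by
      intro χ
      have h0 := IsIrrCharacter.apply_one_ne_zero χ.2
      rw [Finset.sum_comm]
      have h5 : ∀ x' : {x : G // IsConj t x}, ∑ x : {x : G // IsConj t x},
          (χ : G → ℂ) 1 * (χ : G → ℂ) ((x : G) * (x' : G) * g⁻¹) =
          (Nat.card {x : G // IsConj t x} : ℂ) * (χ : G → ℂ) t * (χ : G → ℂ) ((x' : G) * g⁻¹) := by
        intro x'
        have h6 := IsIrrCharacter.sum_class_mul χ.2 t ((x' : G) * g⁻¹)
        rw [← h6, Finset.mul_sum]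
        refine Finset.sum_congr rfl fun x _ => ?_
        rw [mul_assoc]
      simp only [h5]
      rw [← Finset.mul_sum]
      have h6 := IsIrrCharacter.sum_class_mul χ.2 t g⁻¹
      have h7 : ∑ x' : {x : G // IsConj t x}, (χ : G → ℂ) ((x' : G) * g⁻¹) =
          (Nat.card {x : G // IsConj t x} : ℂ) * (χ : G → ℂ) t * (χ : G → ℂ) g⁻¹ / (χ : G → ℂ) 1 := by
        rw [eq_div_iff h0, mul_comm, h6]
      rw [h7]
      ring
    simp only [Finset.sum_comm (s := (Finset.univ : Finset {x : G // IsConj t x})) (t := (Finset.univ : Finset (IrrCharacter G)))]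
    rw [Finset.sum_comm]
    simp only [Finset.sum_comm (s := (Finset.univ : Finset {x : G // IsConj t x})) (t := (Finset.univ : Finset (IrrCharacter G)))]
    exact Finset.sum_congr rfl fun χ _ => h4 χ
  rw [← Finset.mul_sum] at h2
  apply mul_left_cancel₀ hG
  calc (Nat.card G : ℂ) * ((pairCount t g : ℂ) * (Nat.card (centralizer ({t} : Set G)) : ℂ) ^ 2)
      = ((Nat.card G : ℂ) * (pairCount t g : ℂ)) * (Nat.card (centralizer ({t} : Set G)) : ℂ) ^ 2 := by ring
    _ = ((Nat.card {x : G // IsConj t x} : ℂ) * (Nat.card (centralizer ({t} : Set G)) : ℂ)) ^ 2 *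
        ∑ χ : IrrCharacter G, (χ : G → ℂ) t ^ 2 * (χ : G → ℂ) g⁻¹ / (χ : G → ℂ) 1 := by
        rw [h2]; ring
    _ = _ := by rw [hcard]; ring

/-- For an involution, the first factor inverts the product. -/
theorem pairCount_le (ht : t * t = 1) (g : G) : pairCount t g ≤ Nat.card (centralizer ({g} : Set G)) := by
  classical
  have hinv : ∀ x : G, IsConj t x → x * x = 1 := by
    intro x hx
    obtain ⟨c, rfl⟩ := isConj_iff.mp hx
    calc c * t * c⁻¹ * (c * t * c⁻¹) = c * (t * t) * c⁻¹ := by group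
      _ = 1 := by rw [ht]; group
  have hT : (Finset.univ.filter fun x : G => x * g * x⁻¹ = g⁻¹).card ≤ Nat.card (centralizer ({g} : Set G)) := by
    rcases (Finset.univ.filter fun x : G => x * g * x⁻¹ = g⁻¹).eq_empty_or_nonempty with he | ⟨x₀, hx₀⟩
    · rw [he]
      simp
    have hx₀' := (Finset.mem_filter.mp hx₀).2
    rw [Nat.card_eq_fintype_card, ← Fintype.card_coe]
    refine Fintype.card_le_of_injective (fun x => ⟨x₀⁻¹ * (x : G), ?_⟩) ?_
    · have hx := (Finset.mem_filter.mp x.2).2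
      rw [mem_centralizer_singleton_iff]
      have h1 : x₀⁻¹ * (x : G) * g = x₀⁻¹ * ((x : G) * g * (x : G)⁻¹) * (x : G) := by group
      have h2 : g * (x₀⁻¹ * (x : G)) = x₀⁻¹ * (x₀ * g * x₀⁻¹) * (x : G) := by group
      rw [h1, h2, hx, hx₀']
    · intro x x' h
      have h1 := congrArg Subtype.val h
      exact Subtype.ext (mul_left_cancel h1)
  refine le_trans ?_ hT
  rw [pairCount]
  refine Finset.card_le_card_of_injOn (fun q => (q.1 : G)) ?_ ?_
  · intro q hq
    have hq' := (Finset.mem_filter.mp hq).2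
    refine Finset.mem_filter.mpr ⟨Finset.mem_univ _, ?_⟩
    have h1 := hinv _ q.1.2
    have h2 := hinv _ q.2.2
    rw [← hq']
    have h3 : (q.1 : G)⁻¹ = q.1 := inv_eq_of_mul_eq_one_left h1
    have h4 : (q.2 : G)⁻¹ = q.2 := inv_eq_of_mul_eq_one_left h2
    rw [mul_inv_rev, h3, h4]
    calc (q.1 : G) * ((q.1 : G) * (q.2 : G)) * (q.1 : G) = ((q.1 : G) * (q.1 : G)) * (q.2 : G) * (q.1 : G) := by group
      _ = _ := by rw [h1, one_mul]
  · intro q hq q' hq' h
    have h1 := (Finset.mem_filter.mp hq).2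
    have h2 := (Finset.mem_filter.mp hq').2
    have h3 : (q.1 : G) = q'.1 := h
    refine Prod.ext (Subtype.ext h3) (Subtype.ext ?_)
    rw [← h2, ← h3] at h1
    exact mul_left_cancel h1

/-- A pair when `t` inverts a square. -/
theorem pairCount_pos (ht : t * t = 1) {w : G} (hw : t * w * t⁻¹ = w⁻¹) : 1 ≤ pairCount t (w * w) := by
  classical
  have hinv : t⁻¹ = t := inv_eq_of_mul_eq_one_left ht
  have h1 : w⁻¹ * t * w = t * (w * w) := by
    rw [hinv] at hw
    rw [← hw]
    calc t * w * t * t * w = t * w * (t * t) * w := by group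
      _ = t * (w * w) := by rw [ht]; group
  have h2 : IsConj t (t⁻¹ * (w * w)) := by
    rw [hinv, ← h1]
    refine isConj_iff.mpr ⟨w⁻¹, ?_⟩
    group
  rw [pairCount]
  apply Finset.card_pos.mpr
  refine ⟨(⟨t, IsConj.refl t⟩, ⟨t⁻¹ * (w * w), h2⟩), Finset.mem_filter.mpr ⟨Finset.mem_univ _, ?_⟩⟩
  simp

end Pairs

section Section

variable {M : Ideal AlgInt} {p : ℕ} [hp : Fact p.Prime] {z : G}

/-- The projection to the principal block at the identity, when there is a normal `p`-complement. -/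
theorem sum_principal_classInner {C : Type u} [Group C] [Fintype C] (hM : IsPModular p M)
    {N : Subgroup C} [hNn : N.Normal] (hN : ¬ p ∣ Nat.card N) {k : ℕ} (hidx : N.index = p ^ k) [Fintype N]
    (f : C → ℂ) :
    (Nat.card N : ℂ) * ∑ ξ : IrrCharacter C, indic (principalBlock M C) ξ * (classInner f (ξ : C → ℂ) * (ξ : C → ℂ) 1) =
      ∑ n : N, f (n : C)⁻¹ := by
  classical
  have hB := principalBlock_eq_of_normal_complement (p := p) (M := M) (G := C) hM hN hidx
  have hCc : (Nat.card C : ℂ) ≠ 0 := by exact_mod_cast Nat.card_pos.ne'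
  have hS : ∀ c : C, (Nat.card N : ℂ) * ∑ ξ : IrrCharacter C, indic (principalBlock M C) ξ * ((ξ : C → ℂ) 1 * conj ((ξ : C → ℂ) c)) =
      ∑ n : N, if c = (n : C)⁻¹ then (Nat.card C : ℂ) else 0 := by
    intro c
    rw [Finset.mul_sum]
    have h2 : ∀ ξ : IrrCharacter C, (Nat.card N : ℂ) * (indic (principalBlock M C) ξ * ((ξ : C → ℂ) 1 * conj ((ξ : C → ℂ) c))) =
        ∑ n : N, (ξ : C → ℂ) 1 * (ξ : C → ℂ) ((n : C) * c)⁻¹ := by
      intro ξ
      simp only [irr_apply_inv]
      rw [← Finset.mul_sum, ← map_sum, sum_coset_irr N ξ.2 c]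
      by_cases hξ : ξ ∈ principalBlock M C
      · have hk : N ≤ charKer ((ξ : C → ℂ)) := by
          intro n hn
          rw [mem_charKer (IsIrrCharacter.isCharacter ξ.2)]
          rw [hB] at hξ
          exact hξ n hn
        rw [if_pos hk, indic_apply_of_mem hξ, map_mul, Complex.conj_natCast]
        ring
      · have hk : ¬ N ≤ charKer ((ξ : C → ℂ)) := by
          intro hk
          apply hξ
          rw [hB]
          intro n hn
          exact (mem_charKer (IsIrrCharacter.isCharacter ξ.2)).mp (hk hn)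
        rw [if_neg hk, indic_apply_of_notMem hξ]
        simp
    simp only [h2]
    rw [Finset.sum_comm]
    refine Finset.sum_congr rfl fun n _ => ?_
    rw [sum_irr_degree_mul_apply]
    have h3 : ((n : C) * c)⁻¹ = 1 ↔ c = (n : C)⁻¹ := by
      rw [inv_eq_one, mul_eq_one_iff_eq_inv']
    simp only [h3]
  simp only [classInner]
  have h4 : ∀ ξ : IrrCharacter C, indic (principalBlock M C) ξ * ((Nat.card C : ℂ)⁻¹ * (∑ c : C, f c * conj ((ξ : C → ℂ) c)) * (ξ : C → ℂ) 1) =
      (Nat.card C : ℂ)⁻¹ * ∑ c : C, f c * (indic (principalBlock M C) ξ * ((ξ : C → ℂ) 1 * conj ((ξ : C → ℂ) c))) := by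
    intro ξ
    rw [mul_assoc (Nat.card C : ℂ)⁻¹, Finset.sum_mul, mul_left_comm, Finset.mul_sum]
    congr 1
    refine Finset.sum_congr rfl fun c _ => ?_
    ring
  simp only [h4]
  rw [← Finset.mul_sum, Finset.sum_comm, mul_left_comm]
  simp only [← Finset.mul_sum]
  rw [Finset.mul_sum]
  simp only [mul_left_comm (Nat.card N : ℂ)]
  simp only [hS]
  simp only [Finset.mul_sum, Finset.sum_mul]
  rw [Finset.sum_comm]
  refine Finset.sum_congr rfl fun n _ => ?_
  rw [Finset.sum_eq_single ((n : C)⁻¹)]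
  · rw [if_pos rfl]
    field_simp
  · intro c _ hc
    rw [if_neg hc]
    simp
  · simp

/-- Outside the principal block the sum over the normal `p`-complement of the centralizer vanishes. -/
theorem sum_core_eq_zero (hM : IsPModular p M) (hz : ∃ k, orderOf z = p ^ k)
    {N : Subgroup (centralizer ({z} : Set G))} [hNn : N.Normal] (hN : ¬ p ∣ Nat.card N) {k : ℕ}
    (hidx : N.index = p ^ k) [Fintype N] [Fintype (centralizer ({z} : Set G))] {ζ : IrrCharacter G}
    (hζ : ζ ∉ principalBlock M G) :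
    ∑ n : N, (ζ : G → ℂ) (z * (((n : centralizer ({z} : Set G))) : G)) = 0 := by
  classical
  have h1 := projOp_secFun_eq_zero (p := p) hM hz hζ (y := (1 : centralizer ({z} : Set G))) (by
    rw [orderOf_one]
    intro h
    exact hp.out.one_lt.ne' (Nat.dvd_one.mp h))
  rw [projOp_eq_sum _ (secFun_isClassFunction z ζ)] at h1
  have h2 := sum_principal_classInner (p := p) (M := M) hM hN hidx (secFun z ζ)
  rw [h1, mul_zero] at h2
  rw [← Equiv.sum_comp (Equiv.inv N)]
  simpa [secFun] using h2.symm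

/-- **Class multiplication on a section.** -/
theorem frobCount {Q : Subgroup G} (h : FrobSetup p M Q) {y : G} (hy : y ∈ Q) (hy1 : y ≠ 1) (t : G) :
    ∃ L : ℕ, (L : ℂ) * (Nat.card (centralizer ({t} : Set G)) : ℂ) ^ 2 =
      (Nat.card G : ℂ) * (Nat.card (pPrimeCore p (centralizer ({y} : Set G))) : ℂ) *
        ∑ χ : IrrCharacter G, indic (principalBlock M G) χ * ((χ : G → ℂ) t ^ 2 * conj ((χ : G → ℂ) y) / (χ : G → ℂ) 1) ∧
      (Nat.card (pPrimeCore p (centralizer ({y} : Set G))) = 1 → t * t = 1 → L ≤ Nat.card (centralizer ({y} : Set G))) ∧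
      (Nat.card (pPrimeCore p (centralizer ({y} : Set G))) = 1 → t * t = 1 → (∃ w, w * w = y ∧ t * w * t⁻¹ = w⁻¹) → 1 ≤ L) := by
  classical
  obtain ⟨P, rfl⟩ := h.sylow
  have hM := h.modular
  have := isPrime_of_modular hM
  have hz : ∃ k, orderOf y = p ^ k := by
    obtain ⟨k, hk⟩ := (IsPGroup.iff_orderOf.mp P.isPGroup') ⟨y, hy⟩
    exact ⟨k, by rw [← hk, Subgroup.orderOf_mk]⟩
  letI : Fintype (centralizer ({y} : Set G)) := Fintype.ofFinite _
  letI : Fintype (pPrimeCore p (centralizer ({y} : Set G))) := Fintype.ofFinite _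
  letI : Fintype {x : G // IsConj t x} := Fintype.ofFinite _
  have hN : ¬ p ∣ Nat.card (pPrimeCore p (centralizer ({y} : Set G))) := by
    have hcop : (Nat.card (pPrimeCore p (centralizer ({y} : Set G)))).Coprime p :=
      Cfsg.Agent.Lib.Basic.pPrimeCore_coprime p
    exact (hp.out.coprime_iff_not_dvd).mp hcop.symm
  obtain ⟨k, hk⟩ := index_pPrimeCore_of_hasNormalPComplement (h.hasNormalPComplement hy hy1)
  haveI hnormal : (pPrimeCore p (centralizer ({y} : Set G))).Normal := Cfsg.Agent.Lib.Basic.pPrimeCore_normal p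
  have hsec : ∀ χ : IrrCharacter G, ∑ n : pPrimeCore p (centralizer ({y} : Set G)),
      (χ : G → ℂ) (y * ((n : centralizer ({y} : Set G)) : G)) =
      indic (principalBlock M G) χ * ((Nat.card (pPrimeCore p (centralizer ({y} : Set G))) : ℂ) * (χ : G → ℂ) y) := by
    intro χ
    by_cases hχ : χ ∈ principalBlock M G
    · rw [indic_apply_of_mem hχ, one_mul]
      have h1 : ∀ n : pPrimeCore p (centralizer ({y} : Set G)),
          (χ : G → ℂ) (y * ((n : centralizer ({y} : Set G)) : G)) = (χ : G → ℂ) y := by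
        intro n
        exact principal_apply_mul_core hM hz ⟨_, n.2, rfl⟩ hχ
      simp only [h1]
      rw [Finset.sum_const, Finset.card_univ, ← Nat.card_eq_fintype_card, nsmul_eq_mul]
    · rw [indic_apply_of_notMem hχ, zero_mul]
      exact sum_core_eq_zero hM hz hN hk hχ
  refine ⟨∑ n : pPrimeCore p (centralizer ({y} : Set G)), pairCount t (y * ((n : centralizer ({y} : Set G)) : G)), ?_, ?_, ?_⟩
  · push_cast
    rw [Finset.sum_mul]
    simp only [pairCount_formula]
    rw [← Finset.mul_sum, mul_assoc]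
    congr 1
    rw [Finset.sum_comm, Finset.mul_sum]
    refine Finset.sum_congr rfl fun χ _ => ?_
    have h1 : ∑ n : pPrimeCore p (centralizer ({y} : Set G)),
        (χ : G → ℂ) t ^ 2 * (χ : G → ℂ) (y * ((n : centralizer ({y} : Set G)) : G))⁻¹ / (χ : G → ℂ) 1 =
        (χ : G → ℂ) t ^ 2 / (χ : G → ℂ) 1 * conj (∑ n : pPrimeCore p (centralizer ({y} : Set G)),
      (χ : G → ℂ) (y * ((n : centralizer ({y} : Set G)) : G))) := by
      rw [map_sum, Finset.mul_sum]
      refine Finset.sum_congr rfl fun n _ => ?_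
      rw [irr_apply_inv]
      ring
    rw [h1, hsec]
    by_cases hχ : χ ∈ principalBlock M G
    · simp only [indic_apply_of_mem hχ, one_mul, map_mul, Complex.conj_natCast]
      ring
    · simp only [indic_apply_of_notMem hχ, zero_mul, map_zero, mul_zero]
  · intro hK1 ht
    have hK : ∀ n : pPrimeCore p (centralizer ({y} : Set G)), n = 1 := by
      intro n
      have := (Nat.card_eq_one_iff_unique.mp hK1).1
      exact Subsingleton.elim _ _
    haveI : Unique (pPrimeCore p (centralizer ({y} : Set G))) := ⟨⟨1⟩, hK⟩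
    rw [Fintype.sum_unique]
    have h1 : ((default : pPrimeCore p (centralizer ({y} : Set G))) : centralizer ({y} : Set G)) = 1 := by
      rw [hK default]
      rfl
    rw [h1]
    simp only [OneMemClass.coe_one, mul_one]
    exact pairCount_le t ht y
  · rintro hK1 ht ⟨w, rfl, hw⟩
    have hK : ∀ n : pPrimeCore p (centralizer ({w * w} : Set G)), n = 1 := by
      intro n
      have := (Nat.card_eq_one_iff_unique.mp hK1).1
      exact Subsingleton.elim _ _
    haveI : Unique (pPrimeCore p (centralizer ({w * w} : Set G))) := ⟨⟨1⟩, hK⟩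
    rw [Fintype.sum_unique]
    have h1 : ((default : pPrimeCore p (centralizer ({w * w} : Set G))) : centralizer ({w * w} : Set G)) = 1 := by
      rw [hK default]
      rfl
    rw [h1]
    simp only [OneMemClass.coe_one, mul_one]
    exact pairCount_pos t ht hw

end Section

end Cfsg.Agent.Lib.Small.BD
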