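import Mathlib
import Cfsg.Agent.Lib.Small.ClassCount
import Cfsg.Agent.Lib.Small.BrauerKill
import Cfsg.Agent.Lib.Char.PBlock

/-! Principal block data for a Sylow subgroup of prime order, including the class multiplication count. -/

set_option autoImplicit false
set_option linter.unusedSectionVars false

namespace Cfsg.Agent.Lib.Small.BD

open Cfsg Cfsg.Agent.Lib.Char Cfsg.Agent.Lib.Blocks Subgroup
open scoped ComplexConjugate

universe u

variable {G : Type u} [Group G] [Fintype G] {p : ℕ} [hp : Fact p.Prime]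

theorem comm_of_prime (P : Subgroup G) (hP : Nat.card P = p) : ∀ a ∈ P, ∀ b ∈ P, a * b = b * a := by
  haveI hcyc3 : IsCyclic P := isCyclic_of_prime_card hP
  intro a ha b hb
  have := hcyc3.commGroup.mul_comm ⟨a, ha⟩ ⟨b, hb⟩
  exact congrArg Subtype.val this

theorem frobSetup_of_prime {M : Ideal AlgInt} (hM : IsPModular p M) (P : Sylow p G) (hP : Nat.card (P : Subgroup G) = p) :
    FrobSetup p M (P : Subgroup G) :=
  ⟨hM, ⟨P, rfl⟩, comm_of_prime _ hP, fun y hy hy1 => frob_of_prime (p := p) (P : Subgroup G) hP y hy hy1⟩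

theorem centralizer_singleton_eq (P : Subgroup G) (hP : Nat.card P = p) {y : G} (hy : y ∈ P) (hy1 : y ≠ 1) :
    centralizer ({y} : Set G) = centralizer (P : Set G) := by
  have ho : orderOf y = p := by
    have h1 : orderOf (⟨y, hy⟩ : P) ∣ Nat.card P := orderOf_dvd_natCard _
    rw [hP, Subgroup.orderOf_mk] at h1
    rcases (Nat.dvd_prime hp.out).mp h1 with h | h
    · exact absurd (orderOf_eq_one_iff.mp h) hy1
    · exact h
  have hz : P = zpowers y := by
    symm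
    apply Subgroup.eq_of_le_of_card_ge
    · rwa [zpowers_le]
    · rw [Nat.card_zpowers, ho, hP]
  apply le_antisymm
  · intro x hx
    rw [mem_centralizer_iff]
    intro w hw
    have hw' : w ∈ zpowers y := by rw [← hz]; exact hw
    obtain ⟨k, rfl⟩ := mem_zpowers_iff.mp hw'
    have h1 : y * x = x * y := mem_centralizer_iff.mp hx y (Set.mem_singleton y)
    have h2 : Commute y x := h1
    exact (h2.zpow_left k).eq
  · intro x hx
    rw [mem_centralizer_iff]
    intro w hw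
    rw [Set.mem_singleton_iff.mp hw]
    exact mem_centralizer_iff.mp hx y hy

/-- The order of the normalizer. -/
theorem card_normalizer_eq (P : Subgroup G) {m : ℕ}
    (hCN : (centralizer (P : Set G)).relIndex (normalizer (P : Set G)) = m) :
    Nat.card (normalizer (P : Set G)) = Nat.card (centralizer (P : Set G)) * m := by
  have h1 := Subgroup.card_mul_index ((centralizer (P : Set G)).subgroupOf (normalizer (P : Set G)))
  rw [Nat.card_congr (Subgroup.subgroupOfEquivOfLe (centralizer_le_normalizer (P : Set G))).toEquiv] at h1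
  rw [← hCN]
  exact h1.symm

/-- If `N/C` has order `p - 1`, all non-identity elements of `P` are conjugate. -/
theorem isConj_of_full (P : Sylow p G) (hP : Nat.card (P : Subgroup G) = p) 
    (hCN : (centralizer ((P : Subgroup G) : Set G)).relIndex (normalizer ((P : Subgroup G) : Set G)) = p - 1)
    {y y' : G} (hy : y ∈ (P : Subgroup G)) (hy1 : y ≠ 1) (hy' : y' ∈ (P : Subgroup G)) (hy1' : y' ≠ 1) : IsConj y' y := by
  classical
  obtain ⟨M, hM⟩ := exists_isPModular hp.out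
  have h := frobSetup_of_prime hM P hP
  letI : Fintype (P : Subgroup G) := Fintype.ofFinite _
  letI : Fintype (normalizer ((P : Subgroup G) : Set G)) := Fintype.ofFinite _
  have h1 := h.sum_conj_fiber (fun _ => (1 : ℂ)) ⟨y, hy⟩ (fun e => hy1 (congrArg Subtype.val e))
  simp only [Finset.sum_const, Finset.card_univ, nsmul_eq_mul, mul_one, ← Nat.card_eq_fintype_card] at h1
  rw [Finset.sum_boole] at h1
  have h2 := card_normalizer_eq (P : Subgroup G) hCN
  rw [h2] at h1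
  have hC : (Nat.card (centralizer ((P : Subgroup G) : Set G)) : ℂ) ≠ 0 := by exact_mod_cast Nat.card_pos.ne'
  push_cast at h1
  have h3 : ((p - 1 : ℕ) : ℂ) = ((Finset.univ.filter fun v' : (P : Subgroup G) => IsConj (v' : G) y).card : ℂ) :=
    mul_left_cancel₀ hC h1
  have h4 : p - 1 = (Finset.univ.filter fun v' : (P : Subgroup G) => IsConj (v' : G) y).card := by exact_mod_cast h3
  have h5 : (Finset.univ.filter fun v' : (P : Subgroup G) => IsConj (v' : G) y) = Finset.univ.erase 1 := by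
    apply Finset.eq_of_subset_of_card_le
    · intro v hv
      have hv' := (Finset.mem_filter.mp hv).2
      refine Finset.mem_erase.mpr ⟨?_, Finset.mem_univ _⟩
      rintro rfl
      exact hy1 (isConj_one_right.mp hv')
    · rw [Finset.card_erase_of_mem (Finset.mem_univ _), Finset.card_univ, ← Nat.card_eq_fintype_card, hP, ← h4]
  have h6 : (⟨y', hy'⟩ : (P : Subgroup G)) ∈ (Finset.univ.erase 1 : Finset (P : Subgroup G)) :=
    Finset.mem_erase.mpr ⟨fun e => hy1' (congrArg Subtype.val e), Finset.mem_univ _⟩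
  rw [← h5] at h6
  exact (Finset.mem_filter.mp h6).2

/-- A value constant on the non-identity elements of a subgroup of prime order is an integer. -/
theorem const_value_int (P : Subgroup G) (hP : Nat.card P = p) (χ : IrrCharacter G) (a₀ : ℂ)
    (h : ∀ y ∈ P, y ≠ 1 → (χ : G → ℂ) y = a₀) : ∃ a : ℤ, a₀ = a := by
  classical
  letI : Fintype P := Fintype.ofFinite _
  have hne : P ≠ ⊥ := by
    intro h
    rw [h] at hP
    simp at hP
    exact hp.out.ne_one hP.symm
  obtain ⟨⟨y₀, hy₀⟩, hy₀1⟩ := Subgroup.ne_bot_iff_exists_ne_one.mp hne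
  have hcomm : ∀ a b : P, a * b = b * a := fun a b => Subtype.ext (comm_of_prime P hP a a.2 b b.2)
  letI : Fintype (P →* ℂˣ) := Fintype.ofFinite _
  obtain ⟨ψ, hψ⟩ := exists_dual_ne_one hcomm (y := ⟨y₀, hy₀⟩) hy₀1
  have hψ1 : ψ ≠ 1 := by
    rintro rfl
    simp [linVal] at hψ
  have h0 : ∑ y : P, conj (E3.ev ψ y) = 0 := by
    have h1 := sum_linVal_mul_conj (A := P) 1 ψ
    rw [if_neg (Ne.symm hψ1)] at h1
    simpa [linVal, E3.ev] using h1
  have h2 := E3.alpha_spec (P : Subgroup G) ψ χ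
  have hsum : ∑ y : P, (χ : G → ℂ) y * (1 - conj (E3.ev ψ y)) = a₀ * (p : ℂ) := by
    rw [← Finset.add_sum_erase _ _ (Finset.mem_univ (1 : P))]
    have h3 : ∀ y ∈ (Finset.univ : Finset P).erase 1, (χ : G → ℂ) y * (1 - conj (E3.ev ψ y)) = a₀ * (1 - conj (E3.ev ψ y)) := by
      intro y hy
      have hy1 : y ≠ 1 := Finset.ne_of_mem_erase hy
      rw [h y y.2 (fun e => hy1 (Subtype.ext e))]
    rw [Finset.sum_congr rfl h3, ← Finset.mul_sum, Finset.sum_sub_distrib]
    have h4 : ∑ y ∈ (Finset.univ : Finset P).erase 1, conj (E3.ev ψ y) = -1 := by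
      have h5 := Finset.add_sum_erase (Finset.univ : Finset P) (fun y => conj (E3.ev ψ y)) (Finset.mem_univ 1)
      rw [h0] at h5
      simp only [E3.ev_one, map_one] at h5
      linear_combination h5
    rw [h4]
    simp only [Finset.sum_const, Finset.card_erase_of_mem (Finset.mem_univ (1 : P)), Finset.card_univ,
      ← Nat.card_eq_fintype_card, hP, nsmul_eq_mul, mul_one]
    simp only [E3.ev_one, map_one, OneMemClass.coe_one, sub_self, mul_zero, zero_add]
    have hp1 : 1 ≤ p := hp.out.one_lt.le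
    push_cast [Nat.cast_sub hp1]
    ring
  rw [hsum, hP] at h2
  refine ⟨E3.alpha (P : Subgroup G) ψ χ, ?_⟩
  rw [h2]
  have hp0 : (p : ℂ) ≠ 0 := by exact_mod_cast hp.out.ne_zero
  field_simp

/-- The output of the analysis of the principal block. -/
structure BlockForm (P : Sylow p G) (M : Ideal AlgInt) (X : Finset (IrrCharacter G)) (a : IrrCharacter G → ℤ)
    (ε : ℤ) (η : IrrCharacter G) (c : ℕ) : Prop where
  modular : IsPModular p M
  one_mem : one' G ∈ X
  a_one : a (one' G) = 1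
  mem_block : ∀ χ ∈ X, χ ∈ principalBlock M G
  eta_block : η ∈ principalBlock M G
  a_ne : ∀ χ ∈ X, a χ ≠ 0
  deg_sub : ∀ χ ∈ X, (p : ℤ) ∣ (charDegree (χ : G → ℂ) : ℤ) - a χ
  section_val : ∀ χ ∈ X, ∀ z y : G, IsPPart p z y → y ∈ (P : Subgroup G) → y ≠ 1 → (χ : G → ℂ) z = (a χ : ℂ)
  reg : ∀ g : G, ¬ p ∣ orderOf g → (ε : ℂ) * (η : G → ℂ) g + ∑ χ ∈ X, (a χ : ℂ) * (χ : G → ℂ) g = 0
  card_c : Nat.card (centralizer ((P : Subgroup G) : Set G)) = p * c
  count : ∀ t : G, ¬ p ∣ orderOf t → ∃ L : ℕ,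
    (L : ℂ) * (Nat.card (centralizer ({t} : Set G)) : ℂ) ^ 2 = (Nat.card G : ℂ) * (c : ℂ) *
      (∑ χ ∈ X, (a χ : ℂ) * ((χ : G → ℂ) t ^ 2 / (χ : G → ℂ) 1) + (ε : ℂ) * ((η : G → ℂ) t ^ 2 / (η : G → ℂ) 1)) ∧
      (c = 1 → t * t = 1 → L ≤ p) ∧ (c = 1 → t * t = 1 → p ≠ 2 → (∀ y ∈ (P : Subgroup G), t * y * t⁻¹ = y⁻¹) → 1 ≤ L)

/-- The order of the centralizer and the normal complement. -/
theorem card_core_eq {M : Ideal AlgInt} (hM : IsPModular p M) (P : Sylow p G) (hP : Nat.card (P : Subgroup G) = p)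
    {y : G} (hy : y ∈ (P : Subgroup G)) (hy1 : y ≠ 1) :
    Nat.card (centralizer ((P : Subgroup G) : Set G)) = p * Nat.card (pPrimeCore p (centralizer ({y} : Set G))) := by
  have h := frobSetup_of_prime hM P hP
  have h1 := h.index_core hy hy1
  have h2 := Subgroup.index_mul_card (pPrimeCore p (centralizer ({y} : Set G)))
  rw [h1, hP, centralizer_singleton_eq (p := p) (P : Subgroup G) hP hy hy1] at h2
  rw [← h2]
  congr 2
  rw [centralizer_singleton_eq (p := p) (P : Subgroup G) hP hy hy1]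

/-- Square roots in a subgroup of odd prime order. -/
theorem exists_sq_root (P : Subgroup G) (hP : Nat.card P = p) (hp2 : p ≠ 2) {y : G} (hy : y ∈ P) :
    ∃ w ∈ P, w * w = y := by
  have hpr := hp.out
  have hodd : Odd p := hpr.odd_of_ne_two hp2
  obtain ⟨k, hk⟩ := hodd
  refine ⟨y ^ (k + 1), pow_mem hy _, ?_⟩
  have h1 : y ^ p = 1 := by
    have h2 : (⟨y, hy⟩ : P) ^ Nat.card P = 1 := pow_card_eq_one'
    rw [hP] at h2
    have h3 := congrArg Subtype.val h2
    simpa using h3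
  rw [← pow_add]
  have h4 : k + 1 + (k + 1) = p + 1 := by omega
  rw [h4, pow_succ, h1, one_mul]

/-- The case `N/C` of order `p - 1`: no exceptional characters. -/
theorem form_full (P : Sylow p G) (hP : Nat.card (P : Subgroup G) = p)
    (hCN : (centralizer ((P : Subgroup G) : Set G)).relIndex (normalizer ((P : Subgroup G) : Set G)) = p - 1) :
    ∃ (M : Ideal AlgInt) (X : Finset (IrrCharacter G)) (a : IrrCharacter G → ℤ) (c : ℕ),
      BlockForm P M X a 0 (one' G) c ∧ ∑ χ ∈ X, a χ ^ 2 = (p : ℤ) := by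
  classical
  obtain ⟨M, hM⟩ := exists_isPModular hp.out
  have := isPrime_of_modular hM
  have h := frobSetup_of_prime hM P hP
  have hne : (P : Subgroup G) ≠ ⊥ := by
    intro h
    rw [h] at hP
    simp at hP
    exact hp.out.ne_one hP.symm
  obtain ⟨⟨y₀, hy₀⟩, hy₀1'⟩ := Subgroup.ne_bot_iff_exists_ne_one.mp hne
  have hy₀1 : y₀ ≠ 1 := fun e => hy₀1' (Subtype.ext e)
  -- integer values
  have hint : ∀ χ : IrrCharacter G, ∃ a : ℤ, ∀ y ∈ (P : Subgroup G), y ≠ 1 → (χ : G → ℂ) y = a := by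
    intro χ
    have h1 : ∀ y ∈ (P : Subgroup G), y ≠ 1 → (χ : G → ℂ) y = (χ : G → ℂ) y₀ := by
      intro y hy hy1
      obtain ⟨c, hc⟩ := isConj_iff.mp (isConj_of_full P hP hCN hy₀ hy₀1 hy hy1)
      rw [← hc, IsCharacter.isClassFunction (IsIrrCharacter.isCharacter χ.2)]
    obtain ⟨a, ha⟩ := const_value_int (p := p) (P : Subgroup G) hP χ _ h1
    exact ⟨a, fun y hy hy1 => by rw [h1 y hy hy1, ha]⟩
  choose a ha using hint
  let X : Finset (IrrCharacter G) := Finset.univ.filter fun χ => χ ∈ principalBlock M G ∧ a χ ≠ 0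
  have hmemX : ∀ χ, χ ∈ X ↔ χ ∈ principalBlock M G ∧ a χ ≠ 0 := by
    intro χ
    simp [X]
  have hsumX : ∀ F : IrrCharacter G → ℂ, (∀ χ, a χ = 0 → F χ = 0) →
      ∑ χ : IrrCharacter G, indic (principalBlock M G) χ * F χ = ∑ χ ∈ X, F χ := by
    intro F hF
    have h1 : ∑ χ ∈ X, F χ = ∑ χ : IrrCharacter G, if χ ∈ X then F χ else 0 := by
      rw [Finset.sum_ite_mem]
      simp
    rw [h1]
    refine Finset.sum_congr rfl fun χ _ => ?_
    by_cases hχ : χ ∈ principalBlock M G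
    · rw [indic_apply_of_mem hχ, one_mul]
      by_cases h0 : a χ = 0
      · rw [hF χ h0]
        simp
      · rw [if_pos ((hmemX χ).mpr ⟨hχ, h0⟩)]
    · rw [indic_apply_of_notMem hχ, zero_mul, if_neg (fun h2 => hχ ((hmemX χ).mp h2).1)]
  have hone : a (one' G) = 1 := by
    have h1 := ha (one' G) y₀ hy₀ hy₀1
    have h2 : ((1 : ℤ) : ℂ) = ((a (one' G) : ℤ) : ℂ) := by simpa using h1
    exact (Int.cast_injective h2).symm
  have hcc := card_core_eq hM P hP hy₀ hy₀1
  refine ⟨M, X, a, Nat.card (pPrimeCore p (centralizer ({y₀} : Set G))), ⟨hM, ?_, hone, ?_, irrOne_mem_principalBlock, ?_, ?_, ?_, ?_, hcc, ?_⟩, ?_⟩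
  · exact (hmemX _).mpr ⟨irrOne_mem_principalBlock, by rw [hone]; norm_num⟩
  · exact fun χ hχ => ((hmemX χ).mp hχ).1
  · exact fun χ hχ => ((hmemX χ).mp hχ).2
  · intro χ _
    exact dvd_degree_sub (P : Subgroup G) hP χ (a χ) (ha χ)
  · intro χ hχ z y hzy hy hy1
    rw [h.apply_eq_of_isPPart hzy hy hy1 ((hmemX χ).mp hχ).1, ha χ y hy hy1]
  · intro g hg
    have h1 := h.column_regular hy₀ hy₀1 hg
    rw [hsumX (fun χ => (χ : G → ℂ) y₀ * (χ : G → ℂ) g) (by
      intro χ h0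
      simp only [ha χ y₀ hy₀ hy₀1, h0, Int.cast_zero, zero_mul])] at h1
    simp only [Int.cast_zero, zero_mul, zero_add]
    rw [← h1]
    exact Finset.sum_congr rfl fun χ _ => by rw [ha χ y₀ hy₀ hy₀1]
  · intro t _
    obtain ⟨L, hL, hL2, hL3⟩ := frobCount h hy₀ hy₀1 t
    refine ⟨L, ?_, ?_, ?_⟩
    · rw [hL, hsumX (fun χ => (χ : G → ℂ) t ^ 2 * conj ((χ : G → ℂ) y₀) / (χ : G → ℂ) 1) (by
        intro χ h0
        simp only [ha χ y₀ hy₀ hy₀1, h0, Int.cast_zero, map_zero, mul_zero, zero_div])]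
      simp only [Int.cast_zero, zero_mul, add_zero]
      congr 1
      refine Finset.sum_congr rfl fun χ _ => ?_
      rw [ha χ y₀ hy₀ hy₀1, map_intCast]
      ring
    · intro hc1 ht
      have h2 := hL2 hc1 ht
      rw [centralizer_singleton_eq (p := p) (P : Subgroup G) hP hy₀ hy₀1, hcc, hc1, mul_one] at h2
      exact h2
    · intro hc1 ht hp2 hinv
      obtain ⟨w, hw, hww⟩ := exists_sq_root (p := p) (P : Subgroup G) hP hp2 hy₀
      exact hL3 hc1 ht ⟨w, hww, hinv w hw⟩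
  · have h1 := h.sum_norm hy₀ hy₀1
    rw [hsumX (fun χ => (χ : G → ℂ) y₀ * conj ((χ : G → ℂ) y₀)) (by
      intro χ h0
      simp only [ha χ y₀ hy₀ hy₀1, h0, Int.cast_zero, zero_mul])] at h1
    have h2 : ((∑ χ ∈ X, a χ ^ 2 : ℤ) : ℂ) = (((p : ℕ) : ℤ) : ℂ) := by
      push_cast
      rw [← hP, ← h1]
      refine Finset.sum_congr rfl fun χ _ => ?_
      rw [ha χ y₀ hy₀ hy₀1, map_intCast]
      ring
    exact Int.cast_injective h2

/-- The case `1 < m < p - 1`. -/
theorem form_mid (P : Sylow p G) (hP : Nat.card (P : Subgroup G) = p)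
    {m r : ℕ} (hm1 : 1 < m) (hr : m * r + 1 = p) (hr1 : 1 < r)
    (hCN : (centralizer ((P : Subgroup G) : Set G)).relIndex (normalizer ((P : Subgroup G) : Set G)) = m) :
    ∃ (M : Ideal AlgInt) (X : Finset (IrrCharacter G)) (a : IrrCharacter G → ℤ) (d δ : ℤ) (η : IrrCharacter G) (c : ℕ),
      (δ = 1 ∨ δ = -1) ∧ η ∉ X ∧ BlockForm P M X a ((r : ℤ) * d - δ) η c ∧
      (d - δ) ^ 2 + ((r : ℤ) - 1) * d ^ 2 + ∑ χ ∈ X, a χ ^ 2 = (m : ℤ) + 1 := by
  classical
  obtain ⟨M, hM⟩ := exists_isPModular hp.out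
  have := isPrime_of_modular hM
  have h := frobSetup_of_prime hM P hP
  have hab : IsMulCommutative P := by
    haveI hcyc3 : IsCyclic (P : Subgroup G) := isCyclic_of_prime_card hP
    exact ⟨⟨fun a b => by
      have := hcyc3.commGroup.mul_comm a b
      exact this⟩⟩
  have hP1 : Nat.card P ≠ 1 := by
    have h1 : Nat.card P = p := hP
    rw [h1]
    exact hp.out.ne_one
  have hcardP : Nat.card P = p := hP
  have hm2 : m + 1 < Nat.card P := by
    rw [hcardP, ← hr]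
    nlinarith
  obtain ⟨g, hg1, hg2⟩ := exists_gen_normalizer (p := p) (P : Subgroup G) hP
  obtain ⟨s, X, Y, hs, hB, hdis, hXc, hYc, ⟨χ₁, hχ₁X, hχ₁⟩, a, d, δ, ζ, hδ, hvals, hζY, hζsurj, hζconst, hζval,
    hnorm, hagree, hrel⟩ := Cfsg.Agent.S4709.result p M hM P hab hP1 m hm1 hm2 hCN ⟨g, hg1, hg2⟩
    (fun y hy hy1 => frob_of_prime (p := p) (P : Subgroup G) hP y hy hy1)
  have hrr : (Nat.card P - 1) / m = r := by
    rw [hcardP, ← hr, Nat.add_sub_cancel]
    exact Nat.mul_div_cancel_left _ (by omega)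
  have hrz : ((Nat.card P : ℤ) - 1) / (m : ℤ) = (r : ℤ) := by
    rw [hcardP, ← hr]
    push_cast
    rw [add_sub_cancel_right]
    exact Int.mul_ediv_cancel_left _ (by exact_mod_cast (by omega : m ≠ 0))
  have hXf : X.Finite := Set.toFinite X
  have hYf : Y.Finite := Set.toFinite Y
  have hχ₁e : χ₁ = one' G := Subtype.ext hχ₁
  obtain ⟨η, hη⟩ : Y.Nonempty := by
    have h1 : Nat.card Y ≠ 0 := by
      rw [hYc, hrr]
      omega
    have h2 := (Nat.card_ne_zero.mp h1).1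
    exact Set.nonempty_coe_sort.mp h2
  have hηX : η ∉ hXf.toFinset := by
    intro h
    exact Set.disjoint_left.mp hdis (hXf.mem_toFinset.mp h) hη
  have hne : (P : Subgroup G) ≠ ⊥ := by
    intro h
    rw [h] at hP
    simp at hP
    exact hp.out.ne_one hP.symm
  obtain ⟨⟨y₀, hy₀⟩, hy₀1'⟩ := Subgroup.ne_bot_iff_exists_ne_one.mp hne
  have hy₀1 : y₀ ≠ 1 := fun e => hy₀1' (Subtype.ext e)
  have horder : ∀ y ∈ (P : Subgroup G), y ≠ 1 → orderOf y = p := by
    intro y hy hy1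
    have h1 : orderOf (⟨y, hy⟩ : (P : Subgroup G)) ∣ Nat.card (P : Subgroup G) := orderOf_dvd_natCard _
    rw [hP, Subgroup.orderOf_mk] at h1
    rcases (Nat.dvd_prime hp.out).mp h1 with h | h
    · exact absurd (orderOf_eq_one_iff.mp h) hy1
    · exact h
  have hval : ∀ χ ∈ X, ∀ y ∈ (P : Subgroup G), y ≠ 1 → (χ : G → ℂ) y = (a χ : ℂ) := by
    intro χ hχ y hy hy1
    exact (hvals χ hχ).2 y y (isPPart_self (horder y hy hy1) hp.out.ne_one) hy hy1
  have hsplit : ∀ F : IrrCharacter G → ℂ, ∑ χ : IrrCharacter G, indic (principalBlock M G) χ * F χ =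
      ∑ χ ∈ hXf.toFinset, F χ + ∑ χ ∈ hYf.toFinset, F χ := by
    intro F
    rw [← finsum_mem_eq_sum_indic, hB, finsum_mem_union hdis hXf hYf,
      finsum_mem_eq_finite_toFinset_sum _ hXf, finsum_mem_eq_finite_toFinset_sum _ hYf]
  have hregη : (((r : ℂ) * d - δ)) * (η : G → ℂ) 1 + ∑ χ ∈ hXf.toFinset, (a χ : ℂ) * (χ : G → ℂ) 1 = 0 := by
    have h1 := hrel η hη 1 (by rw [orderOf_one]; exact hp.out.one_lt.ne' ∘ Nat.dvd_one.mp)
    rw [hrr, finsum_mem_eq_finite_toFinset_sum _ hXf] at h1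
    exact h1
  have hdeg : ∀ χ : IrrCharacter G, conj ((χ : G → ℂ) 1) = (χ : G → ℂ) 1 := by
    intro χ
    rw [apply_one_eq_charDegree (IsIrrCharacter.isCharacter χ.2), Complex.conj_natCast]
  have hη1 : (η : G → ℂ) 1 ≠ 0 := IsIrrCharacter.apply_one_ne_zero η.2
  have hYsum : ∑ χ ∈ hYf.toFinset, (χ : G → ℂ) y₀ = (r : ℂ) * d - δ := by
    have h1 := h.column_one hy₀ hy₀1
    rw [hsplit (fun χ => (χ : G → ℂ) y₀ * conj ((χ : G → ℂ) 1))] at h1
    have h2 : ∑ χ ∈ hXf.toFinset, (χ : G → ℂ) y₀ * conj ((χ : G → ℂ) 1) = ∑ χ ∈ hXf.toFinset, (a χ : ℂ) * (χ : G → ℂ) 1 := by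
      refine Finset.sum_congr rfl fun χ hχ => ?_
      rw [hval χ (hXf.mem_toFinset.mp hχ) y₀ hy₀ hy₀1, hdeg]
    have h3 : ∑ χ ∈ hYf.toFinset, (χ : G → ℂ) y₀ * conj ((χ : G → ℂ) 1) = (∑ χ ∈ hYf.toFinset, (χ : G → ℂ) y₀) * (η : G → ℂ) 1 := by
      rw [Finset.sum_mul]
      refine Finset.sum_congr rfl fun χ hχ => ?_
      rw [hdeg, hagree χ (hYf.mem_toFinset.mp hχ) η hη 1 (by rw [orderOf_one]; exact hp.out.one_lt.ne' ∘ Nat.dvd_one.mp)]
    rw [h2, h3] at h1
    apply mul_right_cancel₀ hη1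
    linear_combination h1 - hregη
  have hcc := card_core_eq hM P hP hy₀ hy₀1
  refine ⟨M, hXf.toFinset, a, d, δ, η, Nat.card (pPrimeCore p (centralizer ({y₀} : Set G))), hδ, hηX, ⟨hM, ?_, ?_, ?_, ?_, ?_, ?_, ?_, ?_, hcc, ?_⟩, ?_⟩
  · rw [hχ₁e] at hχ₁X
    exact hXf.mem_toFinset.mpr hχ₁X
  · have h1 := hval χ₁ hχ₁X y₀ hy₀ hy₀1
    rw [hχ₁] at h1
    have h2 : ((1 : ℤ) : ℂ) = ((a χ₁ : ℤ) : ℂ) := by simpa using h1
    have h3 : a χ₁ = 1 := (Int.cast_injective h2).symm
    rw [← hχ₁e]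
    exact h3
  · intro χ hχ
    rw [hB]
    exact Or.inl (hXf.mem_toFinset.mp hχ)
  · rw [hB]
    exact Or.inr hη
  · exact fun χ hχ => (hvals χ (hXf.mem_toFinset.mp hχ)).1
  · intro χ hχ
    exact dvd_degree_sub (P : Subgroup G) hP χ (a χ) (hval χ (hXf.mem_toFinset.mp hχ))
  · intro χ hχ z y hzy hy hy1
    exact (hvals χ (hXf.mem_toFinset.mp hχ)).2 z y hzy hy hy1
  · intro g hg
    have h1 := hrel η hη g hg
    rw [hrr, finsum_mem_eq_finite_toFinset_sum _ hXf] at h1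
    push_cast
    exact h1
  · intro t ht
    obtain ⟨L, hL, hL2, hL3⟩ := frobCount h hy₀ hy₀1 t
    refine ⟨L, ?_, ?_, ?_⟩
    · rw [hL, hsplit (fun χ => (χ : G → ℂ) t ^ 2 * conj ((χ : G → ℂ) y₀) / (χ : G → ℂ) 1)]
      congr 1
      congr 1
      · refine Finset.sum_congr rfl fun χ hχ => ?_
        rw [hval χ (hXf.mem_toFinset.mp hχ) y₀ hy₀ hy₀1, map_intCast]
        ring
      · have h3 : ∀ χ ∈ hYf.toFinset, (χ : G → ℂ) t ^ 2 * conj ((χ : G → ℂ) y₀) / (χ : G → ℂ) 1 =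
            conj ((χ : G → ℂ) y₀) * ((η : G → ℂ) t ^ 2 / (η : G → ℂ) 1) := by
          intro χ hχ
          rw [hagree χ (hYf.mem_toFinset.mp hχ) η hη 1 (by rw [orderOf_one]; exact hp.out.one_lt.ne' ∘ Nat.dvd_one.mp),
            hagree χ (hYf.mem_toFinset.mp hχ) η hη t ht]
          ring
        rw [Finset.sum_congr rfl h3, ← Finset.sum_mul, ← map_sum, hYsum]
        simp
    · intro hc1 ht
      have h2 := hL2 hc1 ht
      rw [centralizer_singleton_eq (p := p) (P : Subgroup G) hP hy₀ hy₀1, hcc, hc1, mul_one] at h2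
      exact h2
    · intro hc1 ht hp2 hinv
      obtain ⟨w, hw, hww⟩ := exists_sq_root (p := p) (P : Subgroup G) hP hp2 hy₀
      exact hL3 hc1 ht ⟨w, hww, hinv w hw⟩
  · rw [hrz, finsum_mem_eq_finite_toFinset_sum _ hXf] at hnorm
    exact hnorm

end Cfsg.Agent.Lib.Small.BD
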