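import Mathlib
import Cfsg.Agent.Lib.Small.BrauerForm
import Cfsg.Agent.S4729
import Cfsg.Agent.Lib.Char.E3Inv
import Cfsg.Agent.Lib.SmallSimple.AltNormalizer

/-! Killing group orders: the tools. -/

set_option autoImplicit false
set_option linter.unusedSectionVars false

namespace Cfsg.Agent.Lib.Small.BD

open Cfsg Cfsg.Agent.Lib.Char Cfsg.Agent.Lib.Blocks Subgroup
open scoped ComplexConjugate

universe u

variable {G : Type u} [Group G] [Fintype G] {p : ℕ} [hp : Fact p.Prime]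

theorem perfect_of_simple [IsSimpleGroup G] (hnc : ¬ IsMulCommutative G) : commutator G = ⊤ := by
  have h := SmallSimple.ker_eq_top_of_comm hnc (Abelianization.of (G := G))
  rwa [Abelianization.ker_of] at h

theorem faithful_irr [IsSimpleGroup G] {χ : IrrCharacter G} (hχ : χ ≠ one' G) {g : G} (hg : (χ : G → ℂ) g = (χ : G → ℂ) 1) :
    g = 1 := by
  have hn := charKer_normal (IsIrrCharacter.isCharacter χ.2)
  rcases IsSimpleGroup.eq_bot_or_eq_top_of_normal _ hn with h | h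
  · have h1 : g ∈ charKer (χ : G → ℂ) := (mem_charKer (IsIrrCharacter.isCharacter χ.2)).mpr hg
    rw [h] at h1
    exact h1
  · exfalso
    apply hχ
    apply E3.eq_irrOne_of_const
    intro g
    have h1 : g ∈ charKer (χ : G → ℂ) := by rw [h]; trivial
    exact (mem_charKer (IsIrrCharacter.isCharacter χ.2)).mp h1

/-- The small degree theorem: a nontrivial member of the principal block has large degree. -/
theorem le_degree_of_not_isPGroup [IsSimpleGroup G] (hnc : ¬ IsMulCommutative G) {M : Ideal AlgInt} (hM : IsPModular p M)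
    (P : Sylow p G) (hC : ¬ IsPGroup p (centralizer ((P : Subgroup G) : Set G)))
    {χ : IrrCharacter G} (hχ : χ ∈ principalBlock M G) (hχ1 : χ ≠ one' G) : 2 * p ≤ charDegree (χ : G → ℂ) := by
  by_contra hlt
  exact hC (Cfsg.Agent.S4729.result p M hM (perfect_of_simple hnc) P χ hχ (fun g hg => faithful_irr hχ1 hg) (by omega))

/-- Sylow set-up when `p` exactly divides the group order. -/
theorem exists_setup2 [IsSimpleGroup G] {p N : ℕ} [hp : Fact p.Prime] (hcard : Nat.card G = p * N) (hpN : ¬ p ∣ N)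
    (hN1 : 1 < N) (hp2 : p ≠ 2) :
    ∃ (P : Sylow p G) (m c n : ℕ), Nat.card (P : Subgroup G) = p ∧ ¬ IsMulCommutative G ∧
      (centralizer ((P : Subgroup G) : Set G)).relIndex (normalizer ((P : Subgroup G) : Set G)) = m ∧
      Nat.card (centralizer ((P : Subgroup G) : Set G)) = p * c ∧ Nat.card (Sylow p G) = n ∧
      m ∈ Nat.divisors (p - 1) ∧ 1 < m ∧ c ∈ Nat.divisors N ∧ n ∈ Nat.divisors N ∧ c * m * n = N ∧ n % p = 1 ∧ 1 < n ∧
      2 * (p * N) ∣ n.factorial ∧ (n = p + 1 → 2 * (p * c * m) ∣ p * (p - 1)) := by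
  have hpr := hp.out
  have hnc : ¬ IsMulCommutative G := by
    apply SmallSimple.not_comm_of_not_prime
    rw [hcard]
    exact Nat.not_prime_mul hpr.one_lt.ne' (by omega)
  have hnp : ¬ IsPGroup p G := by
    obtain ⟨q, hq, hqN⟩ := Nat.exists_prime_and_dvd (n := N) (by omega)
    refine SmallSimple.not_isPGroup_of_dvd hpr hq ?_ (by rw [hcard]; exact Dvd.dvd.mul_left hqN p)
    rintro rfl
    exact hpN hqN
  obtain ⟨P⟩ : Nonempty (Sylow p G) := inferInstance
  have hP : Nat.card (P : Subgroup G) = p := by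
    have := SmallSimple.sylow_card_of_eq (a := 1) (m := N) P (by rw [hcard, pow_one]) hpN
    simpa using this
  obtain ⟨c, m, hm, hm1, hmd, hc, hn⟩ := exists_index hnc P hP hnp
  have hpk := SmallSimple.sylow_package (a := 1) (m := N) (by rw [hcard, pow_one]) (by norm_num) hpN hnp hnc
  have hNpos : N ≠ 0 := by omega
  have hc' : c * m * Nat.card (Sylow p G) = N := by
    apply Nat.eq_of_mul_eq_mul_left hpr.pos
    rw [← hcard, ← hc]
    ring
  have hCc : Nat.card (centralizer ((P : Subgroup G) : Set G)) = p * c := by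
    have h1 := card_normalizer_eq (P : Subgroup G) hm
    have h2 := SmallSimple.card_normalizer_mul_card_sylow p P
    have h3 : Nat.card (normalizer ((P : Subgroup G) : Set G)) * Nat.card (Sylow p G) = Nat.card G := h2
    rw [h1] at h3
    have hm0 : 0 < m * Nat.card (Sylow p G) := by
      have := hpk.2.2.1
      positivity
    apply Nat.eq_of_mul_eq_mul_right hm0
    rw [← mul_assoc, h3, ← hc]
    ring
  refine ⟨P, m, c, _, hP, hnc, hm, hCc, rfl, ?_, hm1, ?_, ?_, hc', hn, hpk.2.2.1, ?_, ?_⟩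
  · exact Nat.mem_divisors.mpr ⟨hmd, by have := hpr.two_le; omega⟩
  · exact Nat.mem_divisors.mpr ⟨⟨m * Nat.card (Sylow p G), by rw [← hc']; ring⟩, hNpos⟩
  · exact Nat.mem_divisors.mpr ⟨⟨c * m, by rw [← hc']; ring⟩, hNpos⟩
  · rw [← hcard]
    exact hpk.2.2.2
  · intro hn'
    have hH : normalizer ((P : Subgroup G) : Set G) ≠ ⊤ := by
      intro h
      have h0 : (normalizer ((P : Subgroup G) : Set G)).index = 1 := by rw [h]; exact Subgroup.index_top
      have h1 : (normalizer ((P : Subgroup G) : Set G)).index = Nat.card (Sylow p G) := (Sylow.card_eq_index_normalizer P).symm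
      have := hpk.2.2.1
      omega
    have h1 := SmallSimple.two_mul_card_normalizer_dvd hnc (normalizer ((P : Subgroup G) : Set G)) hH hp2
      (Or.inr ((Sylow.card_eq_index_normalizer P).symm.trans hn')) P hP
    have h2 := card_normalizer_eq (P : Subgroup G) hm
    rw [h2, hCc] at h1
    exact h1

/-- Values at an involution. -/
theorem involution_value (χ : IrrCharacter G) {t : G} (ht : orderOf t = 2) :
    ∃ u : ℤ, (χ : G → ℂ) t = u ∧ |u| ≤ (charDegree (χ : G → ℂ) : ℤ) ∧ (2 : ℤ) ∣ (charDegree (χ : G → ℂ) : ℤ) - u := by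
  have ht2 : t ^ 2 = 1 := by rw [← ht]; exact pow_orderOf_eq_one t
  obtain ⟨u, hu⟩ := E3.exists_int_value χ ht
  refine ⟨u, hu, ?_, ?_⟩
  · have h1 := IsCharacter.norm_le (IsIrrCharacter.isCharacter χ.2) t
    rw [hu, apply_one_eq_charDegree (IsIrrCharacter.isCharacter χ.2)] at h1
    have h2 : ‖(u : ℂ)‖ = ((|u| : ℤ) : ℝ) := by
      rw [Complex.norm_intCast]
      push_cast
      rfl
    rw [h2] at h1
    have h3 : ‖((charDegree (χ : G → ℂ) : ℕ) : ℂ)‖ = ((charDegree (χ : G → ℂ) : ℕ) : ℝ) := by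
      rw [Complex.norm_natCast]
    rw [h3] at h1
    exact_mod_cast h1
  · have hA : ∀ x ∈ Subgroup.zpowers t, x ≠ 1 → IsConj x t := by
      intro x hx hx1
      obtain ⟨k, rfl⟩ := Subgroup.mem_zpowers_iff.mp hx
      rcases Int.even_or_odd k with ⟨m, rfl⟩ | ⟨m, rfl⟩
      · exfalso
        apply hx1
        rw [← two_mul, zpow_mul]
        simp [ht2]
      · have : t ^ (2 * m + 1) = t := by
          rw [zpow_add, zpow_mul]
          simp [ht2]
        rw [this]
    obtain ⟨n, hn⟩ := exists_nat_of_subgroup_conj χ _ hA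
    rw [Nat.card_zpowers, ht, apply_one_eq_charDegree (IsIrrCharacter.isCharacter χ.2), hu] at hn
    refine ⟨(charDegree (χ : G → ℂ) : ℤ) - n, ?_⟩
    have h2 : (((charDegree (χ : G → ℂ) : ℤ) + u : ℤ) : ℂ) = ((2 * n : ℤ) : ℂ) := by
      push_cast at hn ⊢
      linear_combination hn
    have h3 : (charDegree (χ : G → ℂ) : ℤ) + u = 2 * n := by exact_mod_cast h2
    linarith

/-- Sum of squares at an involution is bounded by the centralizer. -/
theorem sum_sq_le_centralizer {t : G} (ht : orderOf t = 2) (s : Finset (IrrCharacter G)) (f : IrrCharacter G → ℤ)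
    (hf : ∀ χ ∈ s, (χ : G → ℂ) t = f χ) : ∑ χ ∈ s, f χ ^ 2 ≤ (Nat.card (centralizer ({t} : Set G)) : ℤ) := by
  classical
  choose τ hτ using fun χ : IrrCharacter G => E3.exists_int_value χ ht
  have h1 := sum_irr_mul_conj_of_isConj (IsConj.refl t)
  simp only [hτ, map_intCast] at h1
  have h2 : (((∑ χ : IrrCharacter G, τ χ * τ χ : ℤ)) : ℂ) = (((Nat.card (centralizer ({t} : Set G)) : ℕ) : ℤ) : ℂ) := by
    push_cast
    exact h1
  have h3 : ∑ χ : IrrCharacter G, τ χ * τ χ = (Nat.card (centralizer ({t} : Set G)) : ℤ) := Int.cast_injective h2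
  rw [← h3]
  have h4 : ∀ χ ∈ s, f χ ^ 2 = τ χ * τ χ := by
    intro χ hχ
    have h5 : ((f χ : ℤ) : ℂ) = ((τ χ : ℤ) : ℂ) := by rw [← hf χ hχ, hτ]
    rw [Int.cast_injective h5]
    ring
  rw [Finset.sum_congr rfl h4]
  exact Finset.sum_le_univ_sum_of_nonneg (fun χ => mul_self_nonneg _)

/-- Degree one characters of a simple group are trivial. -/
theorem eq_one'_of_degree [IsSimpleGroup G] (hnc : ¬ IsMulCommutative G) {χ : IrrCharacter G}
    (h : charDegree (χ : G → ℂ) ≤ 1) : χ = one' G := by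
  by_contra hχ
  have := one_lt_degree hnc hχ
  omega

section Two

variable [IsSimpleGroup G] (hnc : ¬ IsMulCommutative G)

include hnc

/-- The case `e = 2`. -/
theorem two_data (P : Sylow p G) (hP : Nat.card (P : Subgroup G) = p) (hp2 : p ≠ 2)
    {r : ℕ} (hr : 2 * r + 1 = p) (hr1 : 1 < r)
    (hCN : (centralizer ((P : Subgroup G) : Set G)).relIndex (normalizer ((P : Subgroup G) : Set G)) = 2) :
    ∃ (M : Ideal AlgInt) (χ η : IrrCharacter G) (a : ℤ) (c : ℕ), IsPModular p M ∧ χ ∈ principalBlock M G ∧ η ∈ principalBlock M G ∧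
      χ ≠ one' G ∧ η ≠ one' G ∧ (a = 1 ∨ a = -1) ∧ (p : ℤ) ∣ (charDegree (χ : G → ℂ) : ℤ) - a ∧
      (charDegree (η : G → ℂ) : ℤ) = charDegree (χ : G → ℂ) + a ∧
      (∀ z y : G, IsPPart p z y → y ∈ (P : Subgroup G) → y ≠ 1 → (χ : G → ℂ) z = (a : ℂ)) ∧
      Nat.card (centralizer ((P : Subgroup G) : Set G)) = p * c ∧
      ∀ t : G, orderOf t = 2 → ∃ (L : ℕ) (u : ℤ), (χ : G → ℂ) t = u ∧
        (L : ℤ) * (Nat.card (centralizer ({t} : Set G)) : ℤ) ^ 2 * charDegree (χ : G → ℂ) * charDegree (η : G → ℂ) =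
          (Nat.card G : ℤ) * c * (u - charDegree (χ : G → ℂ)) ^ 2 ∧ (c = 1 → L ≤ p) := by
  classical
  obtain ⟨M, X, a, d, δ, η, c, hδ, hηX, F, hnorm⟩ := form_mid P hP (m := 2) (by norm_num) hr hr1 hCN
  have hsum : ∑ χ ∈ X, a χ ^ 2 = 1 + ∑ χ ∈ X.erase (one' G), a χ ^ 2 := by
    rw [← Finset.add_sum_erase _ _ F.one_mem, F.a_one]
    norm_num
  have hreg : ∀ g : G, ¬ p ∣ orderOf g → (((r : ℤ) * d - δ : ℤ) : ℂ) * (η : G → ℂ) g + 1 +
      ∑ χ ∈ X.erase (one' G), (a χ : ℂ) * (χ : G → ℂ) g = 0 := by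
    intro g hg
    have h1 := F.reg g hg
    rw [← Finset.add_sum_erase _ _ F.one_mem, F.a_one] at h1
    have h2 : ((one' G : IrrCharacter G) : G → ℂ) g = 1 := rfl
    rw [h2] at h1
    push_cast at h1 ⊢
    linear_combination h1
  have hone : ¬ p ∣ orderOf (1 : G) := by
    rw [orderOf_one]
    exact hp.out.one_lt.ne' ∘ Nat.dvd_one.mp
  have hη1 : η ≠ one' G := fun h => hηX (h ▸ F.one_mem)
  have hηdeg := one_lt_degree hnc hη1
  have hdη : (η : G → ℂ) 1 = (charDegree (η : G → ℂ) : ℂ) := apply_one_eq_charDegree (IsIrrCharacter.isCharacter η.2)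
  -- the structure of the block
  have hnn : 0 ≤ ∑ χ ∈ X.erase (one' G), a χ ^ 2 := Finset.sum_nonneg fun j _ => sq_nonneg _
  rw [hsum] at hnorm
  have hr1' : (1 : ℤ) ≤ (r : ℤ) - 1 := by
    have : (2 : ℤ) ≤ r := by exact_mod_cast hr1
    omega
  have hδ2 : δ ^ 2 = 1 := by rcases hδ with h | h <;> rw [h] <;> norm_num
  have hne : (X.erase (one' G)).Nonempty := by
    by_contra hne
    rw [Finset.not_nonempty_iff_eq_empty] at hne
    have h1 := hreg 1 hone
    rw [hne, Finset.sum_empty, hdη, add_zero] at h1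
    have h2 : (((r : ℤ) * d - δ) * (charDegree (η : G → ℂ) : ℤ) + 1 : ℤ) = 0 := by
      have h3 : ((((r : ℤ) * d - δ) * (charDegree (η : G → ℂ) : ℤ) + 1 : ℤ) : ℂ) = ((0 : ℤ) : ℂ) := by
        push_cast at h1 ⊢
        exact h1
      exact Int.cast_injective h3
    have h3 : (charDegree (η : G → ℂ) : ℤ) ∣ 1 := ⟨-((r : ℤ) * d - δ), by linarith⟩
    have h4 := Int.le_of_dvd (by norm_num) h3
    have h5 : (1 : ℤ) < charDegree (η : G → ℂ) := by exact_mod_cast hηdeg
    omega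
  have hge : 1 ≤ ∑ χ ∈ X.erase (one' G), a χ ^ 2 := by
    obtain ⟨χ, hχ⟩ := hne
    have h1 : a χ ^ 2 ≤ ∑ χ ∈ X.erase (one' G), a χ ^ 2 :=
      Finset.single_le_sum (f := fun χ => a χ ^ 2) (fun j _ => sq_nonneg _) hχ
    have h2 := sq_pos_of_ne_zero (F.a_ne χ (Finset.mem_of_mem_erase hχ))
    omega
  have hε : ((r : ℤ) * d - δ = 1 ∨ (r : ℤ) * d - δ = -1) ∧ ∑ χ ∈ X.erase (one' G), a χ ^ 2 = 1 := by
    by_cases hd : d = 0
    · subst hd
      have h1 : (0 - δ) ^ 2 = 1 := by rw [zero_sub, neg_sq, hδ2]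
      rw [h1] at hnorm
      constructor
      · rcases hδ with h | h <;> rw [h] <;> simp
      · push_cast at hnorm
        linarith
    · have h1 : 1 ≤ d ^ 2 := by
        have := sq_pos_of_ne_zero hd
        omega
      have h2 : d ^ 2 ≤ ((r : ℤ) - 1) * d ^ 2 := by nlinarith
      have h3 := sq_nonneg (d - δ)
      push_cast at hnorm
      have h4 : (d - δ) ^ 2 = 0 := by
        have : (d - δ) ^ 2 + ((r : ℤ) - 1) * d ^ 2 ≤ 1 := by linarith
        nlinarith
      have hdδ : d = δ := by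
        have := pow_eq_zero_iff (n := 2) (by norm_num) |>.mp h4
        linarith
      subst hdδ
      have h5 : ((r : ℤ) - 1) * d ^ 2 = 1 := by
        rw [hδ2] at hnorm h2 ⊢
        nlinarith
      rw [hδ2] at h5
      have hr2 : (r : ℤ) = 2 := by linarith
      constructor
      · rw [hr2]
        rcases hδ with h | h <;> rw [h] <;> norm_num
      · have h6 : ((r : ℤ) - 1) * d ^ 2 = 1 := by rw [hδ2]; exact h5
        rw [h4, h6] at hnorm
        linarith
  obtain ⟨hε1, h1⟩ := hε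
  obtain ⟨χ, hχ, hχa⟩ := sum_sq_eq_one (fun j hj => F.a_ne j (Finset.mem_of_mem_erase hj)) h1
  have hχmem : χ ∈ X.erase (one' G) := by rw [hχ]; simp
  have hχ1 : χ ≠ one' G := Finset.ne_of_mem_erase hχmem
  have hχX : χ ∈ X := Finset.mem_of_mem_erase hχmem
  have hχdeg := one_lt_degree hnc hχ1
  have hdχ : (χ : G → ℂ) 1 = (charDegree (χ : G → ℂ) : ℂ) := apply_one_eq_charDegree (IsIrrCharacter.isCharacter χ.2)
  -- the degree relation
  set ε : ℤ := (r : ℤ) * d - δ with hεdef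
  have hreg2 : ∀ g : G, ¬ p ∣ orderOf g → (ε : ℂ) * (η : G → ℂ) g + 1 + (a χ : ℂ) * (χ : G → ℂ) g = 0 := by
    intro g hg
    have h2 := hreg g hg
    rw [hχ, Finset.sum_singleton] at h2
    exact h2
  have hdeg : ε * (charDegree (η : G → ℂ) : ℤ) + 1 + a χ * (charDegree (χ : G → ℂ) : ℤ) = 0 := by
    have h2 := hreg2 1 hone
    rw [hdη, hdχ] at h2
    have h3 : ((ε * (charDegree (η : G → ℂ) : ℤ) + 1 + a χ * (charDegree (χ : G → ℂ) : ℤ) : ℤ) : ℂ) = ((0 : ℤ) : ℂ) := by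
      push_cast
      exact h2
    exact Int.cast_injective h3
  have hx1 : (1 : ℤ) < charDegree (χ : G → ℂ) := by exact_mod_cast hχdeg
  have hy1 : (1 : ℤ) < charDegree (η : G → ℂ) := by exact_mod_cast hηdeg
  have hsign : (a χ = 1 ∧ ε = -1) ∨ (a χ = -1 ∧ ε = 1) := by
    rcases hχa with ha | ha <;> rcases hε1 with he | he
    · exfalso
      rw [ha, he] at hdeg
      omega
    · exact Or.inl ⟨ha, he⟩
    · exact Or.inr ⟨ha, he⟩
    · exfalso
      rw [ha, he] at hdeg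
      omega
  refine ⟨M, χ, η, a χ, c, F.modular, F.mem_block χ hχX, F.eta_block, hχ1, hη1, hχa, F.deg_sub χ hχX, ?_, F.section_val χ hχX, F.card_c, ?_⟩
  · rcases hsign with ⟨ha, he⟩ | ⟨ha, he⟩
    · rw [ha, he] at hdeg
      rw [ha]
      omega
    · rw [ha, he] at hdeg
      rw [ha]
      omega
  · intro t ht
    have hreg_t : ¬ p ∣ orderOf t := by
      rw [ht]
      intro h3
      exact hp2 ((Nat.prime_dvd_prime_iff_eq hp.out Nat.prime_two).mp h3)
    have ht2 : t * t = 1 := by rw [← pow_two, ← ht]; exact pow_orderOf_eq_one t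
    obtain ⟨L, hL, hL2, -⟩ := F.count t hreg_t
    obtain ⟨u, hu⟩ := E3.exists_int_value χ ht
    obtain ⟨v, hv⟩ := E3.exists_int_value η ht
    refine ⟨L, u, hu, ?_, fun hc => hL2 hc ht2⟩
    have hrelt : ε * v + 1 + a χ * u = 0 := by
      have h2 := hreg2 t hreg_t
      rw [hu, hv] at h2
      have h3 : ((ε * v + 1 + a χ * u : ℤ) : ℂ) = ((0 : ℤ) : ℂ) := by
        push_cast
        exact h2
      exact Int.cast_injective h3
    have hsumX : ∑ χ' ∈ X, (a χ' : ℂ) * ((χ' : G → ℂ) t ^ 2 / (χ' : G → ℂ) 1) =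
        1 + (a χ : ℂ) * ((u : ℂ) ^ 2 / (charDegree (χ : G → ℂ) : ℂ)) := by
      rw [← Finset.add_sum_erase _ _ F.one_mem, F.a_one, hχ, Finset.sum_singleton, hu, hdχ]
      have h2 : ((one' G : IrrCharacter G) : G → ℂ) t = 1 := rfl
      rw [h2]
      simp
    rw [hsumX, hv, hdη] at hL
    have hxc : (charDegree (χ : G → ℂ) : ℂ) ≠ 0 := by exact_mod_cast (by omega : charDegree (χ : G → ℂ) ≠ 0)
    have hyc : (charDegree (η : G → ℂ) : ℂ) ≠ 0 := by exact_mod_cast (by omega : charDegree (η : G → ℂ) ≠ 0)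
    have hmain : ((L : ℤ) * (Nat.card (centralizer ({t} : Set G)) : ℤ) ^ 2 * charDegree (χ : G → ℂ) * charDegree (η : G → ℂ) : ℤ) =
        (Nat.card G : ℤ) * c * ((charDegree (χ : G → ℂ) : ℤ) * charDegree (η : G → ℂ) + a χ * u ^ 2 * charDegree (η : G → ℂ) + ε * v ^ 2 * charDegree (χ : G → ℂ)) := by
      have h3 : (((L : ℤ) * (Nat.card (centralizer ({t} : Set G)) : ℤ) ^ 2 * charDegree (χ : G → ℂ) * charDegree (η : G → ℂ) : ℤ) : ℂ) =
          (((Nat.card G : ℤ) * c * ((charDegree (χ : G → ℂ) : ℤ) * charDegree (η : G → ℂ) + a χ * u ^ 2 * charDegree (η : G → ℂ) + ε * v ^ 2 * charDegree (χ : G → ℂ)) : ℤ) : ℂ) := by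
        push_cast
        rw [hL]
        field_simp
      exact Int.cast_injective h3
    rw [hmain]
    congr 1
    rcases hsign with ⟨ha, he⟩ | ⟨ha, he⟩
    · rw [ha, he] at hdeg hrelt
      rw [ha, he]
      have hy : (charDegree (η : G → ℂ) : ℤ) = charDegree (χ : G → ℂ) + 1 := by linarith
      have hvv : v = u + 1 := by linarith
      rw [hy, hvv]
      ring
    · rw [ha, he] at hdeg hrelt
      rw [ha, he]
      have hy : (charDegree (η : G → ℂ) : ℤ) = charDegree (χ : G → ℂ) - 1 := by linarith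
      have hvv : v = u - 1 := by linarith
      rw [hy, hvv]
      ring

/-- The case `e = 3`. -/
theorem three_data (P : Sylow p G) (hP : Nat.card (P : Subgroup G) = p)
    {r : ℕ} (hr : 3 * r + 1 = p) (hr1 : 1 < r)
    (hCN : (centralizer ((P : Subgroup G) : Set G)).relIndex (normalizer ((P : Subgroup G) : Set G)) = 3) :
    ∃ (M : Ideal AlgInt) (χ₁ χ₂ η : IrrCharacter G) (a₁ a₂ ε : ℤ), IsPModular p M ∧ χ₁ ∈ principalBlock M G ∧ χ₂ ∈ principalBlock M G ∧
      η ∈ principalBlock M G ∧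
      χ₁ ≠ one' G ∧ χ₂ ≠ one' G ∧ η ≠ one' G ∧ (a₁ = 1 ∨ a₁ = -1) ∧ (a₂ = 1 ∨ a₂ = -1) ∧ (ε = 1 ∨ ε = -1) ∧
      (p : ℤ) ∣ (charDegree (χ₁ : G → ℂ) : ℤ) - a₁ ∧ (p : ℤ) ∣ (charDegree (χ₂ : G → ℂ) : ℤ) - a₂ ∧
      ε * (charDegree (η : G → ℂ) : ℤ) + 1 + a₁ * charDegree (χ₁ : G → ℂ) + a₂ * charDegree (χ₂ : G → ℂ) = 0 := by
  classical
  obtain ⟨M, X, a, d, δ, η, c, hδ, hηX, F, hnorm⟩ := form_mid P hP (m := 3) (by norm_num) hr hr1 hCN
  have hsum : ∑ χ ∈ X, a χ ^ 2 = 1 + ∑ χ ∈ X.erase (one' G), a χ ^ 2 := by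
    rw [← Finset.add_sum_erase _ _ F.one_mem, F.a_one]
    norm_num
  have hreg : ∀ g : G, ¬ p ∣ orderOf g → (((r : ℤ) * d - δ : ℤ) : ℂ) * (η : G → ℂ) g + 1 +
      ∑ χ ∈ X.erase (one' G), (a χ : ℂ) * (χ : G → ℂ) g = 0 := by
    intro g hg
    have h1 := F.reg g hg
    rw [← Finset.add_sum_erase _ _ F.one_mem, F.a_one] at h1
    have h2 : ((one' G : IrrCharacter G) : G → ℂ) g = 1 := rfl
    rw [h2] at h1
    push_cast at h1 ⊢
    linear_combination h1
  have hone : ¬ p ∣ orderOf (1 : G) := by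
    rw [orderOf_one]
    exact hp.out.one_lt.ne' ∘ Nat.dvd_one.mp
  have hη1 : η ≠ one' G := fun h => hηX (h ▸ F.one_mem)
  have hηdeg := one_lt_degree hnc hη1
  have hdη : (η : G → ℂ) 1 = (charDegree (η : G → ℂ) : ℂ) := apply_one_eq_charDegree (IsIrrCharacter.isCharacter η.2)
  have hnn : 0 ≤ ∑ χ ∈ X.erase (one' G), a χ ^ 2 := Finset.sum_nonneg fun j _ => sq_nonneg _
  rw [hsum] at hnorm
  have hr1' : (1 : ℤ) ≤ (r : ℤ) - 1 := by
    have : (2 : ℤ) ≤ r := by exact_mod_cast hr1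
    omega
  have hδ2 : δ ^ 2 = 1 := by rcases hδ with h | h <;> rw [h] <;> norm_num
  have hne : (X.erase (one' G)).Nonempty := by
    by_contra hne
    rw [Finset.not_nonempty_iff_eq_empty] at hne
    have h1 := hreg 1 hone
    rw [hne, Finset.sum_empty, hdη, add_zero] at h1
    have h2 : (((r : ℤ) * d - δ) * (charDegree (η : G → ℂ) : ℤ) + 1 : ℤ) = 0 := by
      have h3 : ((((r : ℤ) * d - δ) * (charDegree (η : G → ℂ) : ℤ) + 1 : ℤ) : ℂ) = ((0 : ℤ) : ℂ) := by
        push_cast at h1 ⊢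
        exact h1
      exact Int.cast_injective h3
    have h3 : (charDegree (η : G → ℂ) : ℤ) ∣ 1 := ⟨-((r : ℤ) * d - δ), by linarith⟩
    have h4 := Int.le_of_dvd (by norm_num) h3
    have h5 : (1 : ℤ) < charDegree (η : G → ℂ) := by exact_mod_cast hηdeg
    omega
  have hge : 1 ≤ ∑ χ ∈ X.erase (one' G), a χ ^ 2 := by
    obtain ⟨χ, hχ⟩ := hne
    have h1 : a χ ^ 2 ≤ ∑ χ ∈ X.erase (one' G), a χ ^ 2 :=
      Finset.single_le_sum (f := fun χ => a χ ^ 2) (fun j _ => sq_nonneg _) hχ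
    have h2 := sq_pos_of_ne_zero (F.a_ne χ (Finset.mem_of_mem_erase hχ))
    omega
  have hε : ((r : ℤ) * d - δ = 1 ∨ (r : ℤ) * d - δ = -1) ∧ ∑ χ ∈ X.erase (one' G), a χ ^ 2 = 2 := by
    by_cases hd : d = 0
    · subst hd
      have h1 : (0 - δ) ^ 2 = 1 := by rw [zero_sub, neg_sq, hδ2]
      rw [h1] at hnorm
      constructor
      · rcases hδ with h | h <;> rw [h] <;> simp
      · push_cast at hnorm
        linarith
    · have h1 : 1 ≤ d ^ 2 := by
        have := sq_pos_of_ne_zero hd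
        omega
      have h2 : d ^ 2 ≤ ((r : ℤ) - 1) * d ^ 2 := by nlinarith
      have h3 := sq_nonneg (d - δ)
      push_cast at hnorm
      have h4 : d ^ 2 ≤ 2 := by linarith
      have hd1 : d = 1 ∨ d = -1 := by
        have h5 : |d| < 2 := by
          apply abs_lt_of_sq_lt_sq
          · nlinarith
          · norm_num
        have h6 := abs_lt.mp h5
        omega
      have hd2 : d ^ 2 = 1 := by rcases hd1 with h | h <;> rw [h] <;> norm_num
      rw [hd2] at hnorm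
      have hdδ : d = δ := by
        rcases hd1 with h | h <;> rcases hδ with h' | h' <;> rw [h, h'] at hnorm ⊢ <;> first | rfl | (exfalso; norm_num at hnorm; linarith)
      subst hdδ
      have h5 : (r : ℤ) - 1 + ∑ χ ∈ X.erase (one' G), a χ ^ 2 = 3 := by
        have h6 : (d - d) ^ 2 = 0 := by ring
        rw [h6] at hnorm
        linarith
      have hr3 : (r : ℤ) = 2 ∨ (r : ℤ) = 3 := by omega
      rcases hr3 with hr3 | hr3
      · constructor
        · rw [hr3]
          rcases hd1 with h | h <;> rw [h] <;> norm_num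
        · rw [hr3] at h5
          linarith
      · exfalso
        have hr4 : r = 3 := by exact_mod_cast hr3
        have hpp := hp.out
        rw [← hr, hr4] at hpp
        revert hpp
        norm_num
  obtain ⟨hε1, h1⟩ := hε
  obtain ⟨χ₁, χ₂, hne12, hχ, hχa₁, hχa₂⟩ := sum_sq_eq_two (fun j hj => F.a_ne j (Finset.mem_of_mem_erase hj)) h1
  have hχmem₁ : χ₁ ∈ X.erase (one' G) := by rw [hχ]; simp
  have hχmem₂ : χ₂ ∈ X.erase (one' G) := by rw [hχ]; simp
  have hχX₁ := Finset.mem_of_mem_erase hχmem₁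
  have hχX₂ := Finset.mem_of_mem_erase hχmem₂
  refine ⟨M, χ₁, χ₂, η, a χ₁, a χ₂, _, F.modular, F.mem_block _ hχX₁, F.mem_block _ hχX₂, F.eta_block,
    Finset.ne_of_mem_erase hχmem₁, Finset.ne_of_mem_erase hχmem₂, hη1, hχa₁, hχa₂, hε1, F.deg_sub _ hχX₁, F.deg_sub _ hχX₂, ?_⟩
  have h2 := hreg 1 hone
  rw [hχ, Finset.sum_pair hne12, hdη, apply_one_eq_charDegree (IsIrrCharacter.isCharacter χ₁.2),
    apply_one_eq_charDegree (IsIrrCharacter.isCharacter χ₂.2)] at h2
  have h3 : ((((r : ℤ) * d - δ) * (charDegree (η : G → ℂ) : ℤ) + 1 + a χ₁ * charDegree (χ₁ : G → ℂ) + a χ₂ * charDegree (χ₂ : G → ℂ) : ℤ) : ℂ) = ((0 : ℤ) : ℂ) := by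
    push_cast at h2 ⊢
    linear_combination h2
  exact Int.cast_injective h3

end Two

/-- A criterion for a centralizer not to be a `p`-group. -/
theorem not_isPGroup_of_card {H : Type*} [Group H] [Finite H] {c : ℕ} (hH : Nat.card H = p * c) (hc : 1 < c) (hpc : ¬ p ∣ c) :
    ¬ IsPGroup p H := by
  intro h
  obtain ⟨k, hk⟩ := IsPGroup.iff_card.mp h
  rw [hH] at hk
  have h1 : c ∣ p ^ k := ⟨p, by rw [← hk]; ring⟩
  obtain ⟨j, -, rfl⟩ := (Nat.dvd_prime_pow hp.out).mp h1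
  rcases j with _ | j
  · simp at hc
  · exact hpc (dvd_pow_self p (by omega))

theorem degree_coprime {χ : IrrCharacter G} {a : ℤ} (ha : a = 1 ∨ a = -1) (hd : (p : ℤ) ∣ (charDegree (χ : G → ℂ) : ℤ) - a) {N : ℕ}
    (hcard : Nat.card G = p * N) (hN : N ≠ 0) : charDegree (χ : G → ℂ) ∈ Nat.divisors N := by
  have hpr := hp.out
  obtain ⟨k, hk⟩ := hd
  have hcop : Nat.Coprime (charDegree (χ : G → ℂ)) p := by
    rw [Nat.coprime_comm, Nat.Prime.coprime_iff_not_dvd hpr]
    intro h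
    obtain ⟨t, ht⟩ := h
    rw [ht] at hk
    have h1 : (p : ℤ) ∣ a := ⟨t - k, by push_cast at hk; linarith⟩
    rcases ha with rfl | rfl
    · have := Int.le_of_dvd (by norm_num) h1
      have := hpr.two_le
      omega
    · have := Int.le_of_dvd (by norm_num) ((Int.dvd_neg).mpr h1)
      have := hpr.two_le
      omega
  have h2 := charDegree_dvd_card χ.2
  rw [hcard] at h2
  exact Nat.mem_divisors.mpr ⟨hcop.dvd_of_dvd_mul_left h2, hN⟩

theorem mod_of_dvd_one {x : ℕ} (h : (p : ℤ) ∣ (x : ℤ) - 1) : x % p = 1 % p := by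
  have h1 : (1 : ℤ) ≡ (x : ℤ) [ZMOD p] := Int.modEq_iff_dvd.mpr h
  have h2 : (x : ℤ) ≡ ((1 : ℕ) : ℤ) [ZMOD p] := by
    push_cast
    exact h1.symm
  have h3 : x ≡ 1 [MOD p] := (Int.natCast_modEq_iff).mp h2
  exact h3

theorem mod_of_dvd_neg_one {x : ℕ} (h : (p : ℤ) ∣ (x : ℤ) - -1) : x % p = p - 1 := by
  have hp2 := hp.out.two_le
  have h1 : (p : ℤ) ∣ ((x + 1 : ℕ) : ℤ) := by
    push_cast
    have : (x : ℤ) + 1 = (x : ℤ) - -1 := by ring
    rw [this]
    exact h
  have h2 : p ∣ x + 1 := by exact_mod_cast h1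
  obtain ⟨k, hk⟩ := h2
  have hk0 : k ≠ 0 := by
    rintro rfl
    omega
  obtain ⟨j, rfl⟩ := Nat.exists_eq_succ_of_ne_zero hk0
  have h3 : x = p * j + (p - 1) := by
    have : p * j.succ = p * j + p := by rw [Nat.succ_eq_add_one]; ring
    omega
  rw [h3, Nat.mul_add_mod]
  exact Nat.mod_eq_of_lt (by omega)

/-- The case `e = 2`, when the centralizer is not a `p`-group. -/
theorem false_two [IsSimpleGroup G] (hnc : ¬ IsMulCommutative G) (P : Sylow p G) (hP : Nat.card (P : Subgroup G) = p)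
    {N r : ℕ} (hcard : Nat.card G = p * N) (hN : N ≠ 0) (hp2 : p ≠ 2) (hr : 2 * r + 1 = p) (hr1 : 1 < r)
    (hCN : (centralizer ((P : Subgroup G) : Set G)).relIndex (normalizer ((P : Subgroup G) : Set G)) = 2)
    (hC : ¬ IsPGroup p (centralizer ((P : Subgroup G) : Set G)))
    (hchk : ∀ x ∈ Nat.divisors N, (x % p = 1 → (x + 1) ∣ p * N → x < 2 * p ∨ x + 1 < 2 * p) ∧
      (x % p = p - 1 → (x - 1) ∣ p * N → x < 2 * p ∨ x - 1 < 2 * p)) : False := by
  obtain ⟨M, χ, η, a, c, hM, hχ, hη, hχ1, hη1, ha, hd, hy, -, -, -⟩ := two_data hnc P hP hp2 hr hr1 hCN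
  have h1 := le_degree_of_not_isPGroup hnc hM P hC hχ hχ1
  have h2 := le_degree_of_not_isPGroup hnc hM P hC hη hη1
  obtain ⟨h3, h4⟩ := hchk _ (degree_coprime ha hd hcard hN)
  have hyd := charDegree_dvd_card η.2
  rw [hcard] at hyd
  have hp1 := hp.out.one_lt
  rcases ha with rfl | rfl
  · have h5 : charDegree (η : G → ℂ) = charDegree (χ : G → ℂ) + 1 := by exact_mod_cast hy
    rw [h5] at hyd h2
    rcases h3 (by rw [mod_of_dvd_one hd, Nat.mod_eq_of_lt hp1]) hyd with h6 | h6 <;> omega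
  · have h5 : charDegree (η : G → ℂ) = charDegree (χ : G → ℂ) - 1 := by
      have : (charDegree (η : G → ℂ) : ℤ) + 1 = charDegree (χ : G → ℂ) := by linarith
      omega
    rw [h5] at hyd h2
    rcases h4 (mod_of_dvd_neg_one hd) hyd with h6 | h6 <;> omega

/-- The case `e = 3`, when the centralizer is not a `p`-group. -/
theorem false_three [IsSimpleGroup G] (hnc : ¬ IsMulCommutative G) (P : Sylow p G) (hP : Nat.card (P : Subgroup G) = p)
    {N r : ℕ} (hcard : Nat.card G = p * N) (hN : N ≠ 0) (hr : 3 * r + 1 = p) (hr1 : 1 < r)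
    (hCN : (centralizer ((P : Subgroup G) : Set G)).relIndex (normalizer ((P : Subgroup G) : Set G)) = 3)
    (hC : ¬ IsPGroup p (centralizer ((P : Subgroup G) : Set G)))
    (hchk : ∀ x₁ ∈ Nat.divisors N, ∀ x₂ ∈ Nat.divisors N, ∀ a₁ ∈ ({1, -1} : Finset ℤ), ∀ a₂ ∈ ({1, -1} : Finset ℤ),
      ((x₁ : ℤ) - a₁) % p = 0 → ((x₂ : ℤ) - a₂) % p = 0 → x₁ < 2 * p ∨ x₂ < 2 * p ∨
        (1 + a₁ * x₁ + a₂ * x₂).natAbs < 2 * p ∨ ¬ (1 + a₁ * x₁ + a₂ * x₂).natAbs ∣ p * N) : False := by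
  obtain ⟨M, χ₁, χ₂, η, a₁, a₂, ε, hM, h₁, h₂, hη, h₁1, h₂1, hη1, ha₁, ha₂, hε, hd₁, hd₂, hrel⟩ := three_data hnc P hP hr hr1 hCN
  have hx₁ := le_degree_of_not_isPGroup hnc hM P hC h₁ h₁1
  have hx₂ := le_degree_of_not_isPGroup hnc hM P hC h₂ h₂1
  have hy := le_degree_of_not_isPGroup hnc hM P hC hη hη1
  have hyd := charDegree_dvd_card η.2
  rw [hcard] at hyd
  have ha₁' : a₁ ∈ ({1, -1} : Finset ℤ) := by simpa using ha₁
  have ha₂' : a₂ ∈ ({1, -1} : Finset ℤ) := by simpa using ha₂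
  have hval : (1 + a₁ * (charDegree (χ₁ : G → ℂ) : ℤ) + a₂ * (charDegree (χ₂ : G → ℂ) : ℤ)).natAbs = charDegree (η : G → ℂ) := by
    have h1 : 1 + a₁ * (charDegree (χ₁ : G → ℂ) : ℤ) + a₂ * (charDegree (χ₂ : G → ℂ) : ℤ) = - ε * (charDegree (η : G → ℂ) : ℤ) := by linarith
    rw [h1]
    rcases hε with rfl | rfl
    · simp
    · simp
  rcases hchk _ (degree_coprime ha₁ hd₁ hcard hN) _ (degree_coprime ha₂ hd₂ hcard hN) a₁ ha₁' a₂ ha₂'
    (Int.emod_eq_zero_of_dvd hd₁) (Int.emod_eq_zero_of_dvd hd₂) with h | h | h | h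
  · omega
  · omega
  · rw [hval] at h
    omega
  · rw [hval] at h
    exact h hyd

/-- The case `p = 5`, `e = 4`, by parity. -/
theorem false_four [IsSimpleGroup G] (hnc : ¬ IsMulCommutative G) (P : Sylow 5 G) [Fact (Nat.Prime 5)] (hP : Nat.card (P : Subgroup G) = 5)
    {N : ℕ} (hcard : Nat.card G = 5 * N) (hN : N ≠ 0)
    (hCN : (centralizer ((P : Subgroup G) : Set G)).relIndex (normalizer ((P : Subgroup G) : Set G)) = 4)
    (hC : ¬ IsPGroup 5 (centralizer ((P : Subgroup G) : Set G)))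
    (hchk : ∀ x ∈ Nat.divisors N, x % 2 = 1 → x % 5 = 1 ∨ x % 5 = 4 → x < 10) : False := by
  classical
  obtain ⟨M, X, a, c, F, hnorm⟩ := form_full P hP hCN
  have hone : ¬ 5 ∣ orderOf (1 : G) := by
    rw [orderOf_one]
    norm_num
  have h1 := F.reg 1 hone
  simp only [Int.cast_zero, zero_mul, zero_add] at h1
  have h2 : ∑ χ ∈ X, a χ * (charDegree (χ : G → ℂ) : ℤ) = 0 := by
    have h3 : ((∑ χ ∈ X, a χ * (charDegree (χ : G → ℂ) : ℤ) : ℤ) : ℂ) = ((0 : ℤ) : ℂ) := by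
      push_cast
      rw [← h1]
      refine Finset.sum_congr rfl fun χ _ => ?_
      rw [apply_one_eq_charDegree (IsIrrCharacter.isCharacter χ.2)]
    exact Int.cast_injective h3
  rw [← Finset.add_sum_erase _ _ F.one_mem, F.a_one] at h2
  have hdeg1 : charDegree ((one' G : IrrCharacter G) : G → ℂ) = 1 := charDegree_eq (by simp)
  rw [hdeg1] at h2
  have h3 : ∃ χ ∈ X.erase (one' G), ¬ (2 : ℤ) ∣ a χ * (charDegree (χ : G → ℂ) : ℤ) := by
    by_contra hcon
    push Not at hcon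
    have h4 : (2 : ℤ) ∣ ∑ χ ∈ X.erase (one' G), a χ * (charDegree (χ : G → ℂ) : ℤ) := Finset.dvd_sum hcon
    obtain ⟨k, hk⟩ := h4
    rw [hk] at h2
    push_cast at h2
    omega
  obtain ⟨χ, hχ, hodd⟩ := h3
  have hχ1 : χ ≠ one' G := Finset.ne_of_mem_erase hχ
  have hχX := Finset.mem_of_mem_erase hχ
  have ha_odd : ¬ (2 : ℤ) ∣ a χ := fun h => hodd (Dvd.dvd.mul_right h _)
  have hx_odd : ¬ (2 : ℤ) ∣ (charDegree (χ : G → ℂ) : ℤ) := fun h => hodd (Dvd.dvd.mul_left h _)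
  have hsq : a χ ^ 2 ≤ 4 := by
    have h5 : ∑ χ ∈ X, a χ ^ 2 = 1 + ∑ χ ∈ X.erase (one' G), a χ ^ 2 := by
      rw [← Finset.add_sum_erase _ _ F.one_mem, F.a_one]
      norm_num
    have h6 : a χ ^ 2 ≤ ∑ χ ∈ X.erase (one' G), a χ ^ 2 :=
      Finset.single_le_sum (f := fun χ => a χ ^ 2) (fun j _ => sq_nonneg _) hχ
    rw [h5] at hnorm
    push_cast at hnorm
    omega
  have ha : a χ = 1 ∨ a χ = -1 := by
    have h5 : |a χ| < 3 := by
      apply abs_lt_of_sq_lt_sq
      · nlinarith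
      · norm_num
    have h6 := abs_lt.mp h5
    omega
  have hd := F.deg_sub χ hχX
  have hx := le_degree_of_not_isPGroup hnc F.modular P hC (F.mem_block χ hχX) hχ1
  have hmem := degree_coprime ha hd hcard hN
  have hodd' : charDegree (χ : G → ℂ) % 2 = 1 := by omega
  have hmod : charDegree (χ : G → ℂ) % 5 = 1 ∨ charDegree (χ : G → ℂ) % 5 = 4 := by
    rcases ha with ha | ha
    · rw [ha] at hd
      left
      exact mod_of_dvd_one (p := 5) hd
    · rw [ha] at hd
      right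
      exact mod_of_dvd_neg_one (p := 5) hd
  have := hchk _ hmem hodd' hmod
  omega

theorem isSquare_of_mul_sq {a C b : ℕ} (hC : C ≠ 0) (h : a * C ^ 2 = b ^ 2) : ∃ q, a = q * q := by
  have h1 : C ^ 2 ∣ b ^ 2 := ⟨a, by rw [← h]; ring⟩
  obtain ⟨q, rfl⟩ := (Nat.pow_dvd_pow_iff (by norm_num)).mp h1
  refine ⟨q, ?_⟩
  have hC2 : 0 < C ^ 2 := by positivity
  apply Nat.eq_of_mul_eq_mul_right hC2
  rw [h]
  ring

/-- A central involution of a Sylow `2`-subgroup. -/
theorem exists_central_involution [Finite G] (S : Sylow 2 G) (hS : 2 ∣ Nat.card (S : Subgroup G)) :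
    ∃ z : G, orderOf z = 2 ∧ Nat.card (S : Subgroup G) ∣ Nat.card (centralizer ({z} : Set G)) := by
  haveI : Fact (Nat.Prime 2) := ⟨Nat.prime_two⟩
  have hSn : Nontrivial (S : Subgroup G) := by
    apply Finite.one_lt_card_iff_nontrivial.mp
    have := Nat.le_of_dvd Nat.card_pos hS
    omega
  haveI : Nontrivial (center (S : Subgroup G)) := IsPGroup.center_nontrivial S.isPGroup'
  have hpg : IsPGroup 2 (center (S : Subgroup G)) := S.isPGroup'.to_subgroup _
  have h2 : 2 ∣ Nat.card (center (S : Subgroup G)) := by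
    obtain ⟨k, hk⟩ := IsPGroup.iff_card.mp hpg
    have h1 : 1 < Nat.card (center (S : Subgroup G)) := Finite.one_lt_card
    rw [hk] at h1 ⊢
    rcases k with _ | k
    · simp at h1
    · exact dvd_pow_self 2 (by omega)
  obtain ⟨z, hz⟩ := exists_prime_orderOf_dvd_card' 2 h2
  refine ⟨(((z : center (S : Subgroup G)) : (S : Subgroup G)) : G), ?_, ?_⟩
  · rw [Subgroup.orderOf_coe, Subgroup.orderOf_coe, hz]
  · apply Subgroup.card_dvd_of_le
    intro s hs
    rw [mem_centralizer_singleton_iff]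
    have h3 := (Subgroup.mem_center_iff.mp z.2) (⟨s, hs⟩ : (S : Subgroup G))
    exact congrArg Subtype.val h3

/-- An involution exists in every group of even order. -/
theorem exists_involution [Finite G] (h : 2 ∣ Nat.card G) : ∃ t : G, orderOf t = 2 := by
  haveI : Fact (Nat.Prime 2) := ⟨Nat.prime_two⟩
  exact exists_prime_orderOf_dvd_card' 2 h

end Cfsg.Agent.Lib.Small.BD
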