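import Mathlib
import Cfsg.Agent.Lib.Small.BrauerKill2

/-! The case `p = 5`, `N/C` of order four. -/

set_option autoImplicit false
set_option linter.unusedSectionVars false

namespace Cfsg.Agent.Lib.Small.BD

open Cfsg Cfsg.Agent.Lib.Char Cfsg.Agent.Lib.Blocks Subgroup
open scoped ComplexConjugate

universe u

variable {G : Type u} [Group G] [Fintype G]

theorem sorted_four {ι : Type*} [DecidableEq ι] (s : Finset ι) (hs : s.card = 4) (f : ι → ℕ) :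
    ∃ a b c d, s = {a, b, c, d} ∧ a ≠ b ∧ a ≠ c ∧ a ≠ d ∧ b ≠ c ∧ b ≠ d ∧ c ≠ d ∧ f a ≤ f b ∧ f b ≤ f c ∧ f c ≤ f d := by
  have h1 : s.Nonempty := by
    rw [← Finset.card_pos]
    omega
  obtain ⟨a, ha, hamin⟩ := Finset.exists_min_image s f h1
  have hs1 : (s.erase a).card = 3 := by rw [Finset.card_erase_of_mem ha]; omega
  have h2 : (s.erase a).Nonempty := by
    rw [← Finset.card_pos]
    omega
  obtain ⟨b, hb, hbmin⟩ := Finset.exists_min_image _ f h2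
  have hs2 : ((s.erase a).erase b).card = 2 := by rw [Finset.card_erase_of_mem hb]; omega
  have h3 : ((s.erase a).erase b).Nonempty := by
    rw [← Finset.card_pos]
    omega
  obtain ⟨c, hc, hcmin⟩ := Finset.exists_min_image _ f h3
  have hs3 : (((s.erase a).erase b).erase c).card = 1 := by rw [Finset.card_erase_of_mem hc]; omega
  obtain ⟨d, hd⟩ := Finset.card_eq_one.mp hs3
  have hdmem : d ∈ ((s.erase a).erase b).erase c := by rw [hd]; simp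
  have hd1 := Finset.mem_of_mem_erase hdmem
  have hd2 := Finset.mem_of_mem_erase hd1
  have hc1 := Finset.mem_of_mem_erase hc
  have hb' := Finset.mem_of_mem_erase hb
  have hb'' : b ∈ s := hb'
  refine ⟨a, b, c, d, ?_, ?_, ?_, ?_, ?_, ?_, ?_, ?_, ?_, ?_⟩
  · rw [← Finset.insert_erase ha, ← Finset.insert_erase hb, ← Finset.insert_erase hc, hd]
  · exact (Finset.ne_of_mem_erase hb).symm
  · exact (Finset.ne_of_mem_erase hc1).symm
  · exact (Finset.ne_of_mem_erase hd2).symm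
  · exact (Finset.ne_of_mem_erase hc).symm
  · exact (Finset.ne_of_mem_erase hd1).symm
  · exact (Finset.ne_of_mem_erase hdmem).symm
  · exact hamin b (Finset.mem_of_mem_erase hb)
  · exact hbmin c (Finset.mem_of_mem_erase hc)
  · exact hcmin d hd1

theorem sum_degree_sq_le (s : Finset (IrrCharacter G)) :
    ∑ χ ∈ s, (charDegree (χ : G → ℂ) : ℤ) ^ 2 ≤ (Nat.card G : ℤ) := by
  classical
  have h1 := sum_irr_mul_conj_of_isConj (IsConj.refl (1 : G))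
  have h2 : centralizer ({1} : Set G) = ⊤ := by
    ext x
    simp [mem_centralizer_iff]
  rw [h2, Subgroup.card_top] at h1
  have h3 : ∑ χ : IrrCharacter G, (charDegree (χ : G → ℂ) : ℤ) ^ 2 = (Nat.card G : ℤ) := by
    have h4 : ((∑ χ : IrrCharacter G, (charDegree (χ : G → ℂ) : ℤ) ^ 2 : ℤ) : ℂ) = (((Nat.card G : ℕ) : ℤ) : ℂ) := by
      push_cast
      rw [← h1]
      refine Finset.sum_congr rfl fun χ _ => ?_
      rw [apply_one_eq_charDegree (IsIrrCharacter.isCharacter χ.2), Complex.conj_natCast]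
      ring
    exact Int.cast_injective h4
  rw [← h3]
  exact Finset.sum_le_univ_sum_of_nonneg (fun χ => sq_nonneg _)

/-- Involution values in terms of the dimension of the fixed space. -/
theorem involution_value' (χ : IrrCharacter G) {t : G} (ht : orderOf t = 2) :
    ∃ n : ℕ, n ≤ charDegree (χ : G → ℂ) ∧ (χ : G → ℂ) t = ((2 * n - charDegree (χ : G → ℂ) : ℤ) : ℂ) := by
  obtain ⟨u, hu, h1, h2⟩ := involution_value χ ht
  obtain ⟨k, hk⟩ := h2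
  have h3 := abs_le.mp h1
  refine ⟨(charDegree (χ : G → ℂ) - k).toNat, ?_, ?_⟩
  · omega
  · rw [hu]
    congr 1
    omega

/-- An involution in the normalizer inverts the Sylow subgroup when it does not centralize it. -/
theorem inverts_of_not_centralizer {p : ℕ} [hp : Fact p.Prime] (P : Subgroup G) (hP : Nat.card P = p) {t : G} (ht : t * t = 1)
    (htN : t ∈ normalizer (P : Set G)) (htC : t ∉ centralizer (P : Set G)) : ∀ y ∈ P, t * y * t⁻¹ = y⁻¹ := by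
  intro y hy
  have hinv : t⁻¹ = t := inv_eq_of_mul_eq_one_left ht
  have hcomm := comm_of_prime P hP
  have hty : t * y * t⁻¹ ∈ P := by
    have := (mem_normalizer_iff.mp htN y).mp hy
    exact this
  by_contra hne
  have hφ : y * (t * y * t⁻¹) ≠ 1 := by
    intro h
    exact hne (eq_inv_of_mul_eq_one_right h)
  have hφP : y * (t * y * t⁻¹) ∈ P := mul_mem hy hty
  have hfix : t * (y * (t * y * t⁻¹)) * t⁻¹ = y * (t * y * t⁻¹) := by
    rw [hinv]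
    have h1 : t * (y * (t * y * t)) * t = (t * y * t) * y * (t * t) := by group
    rw [h1, ht, mul_one]
    have h2 := hcomm y hy _ hty
    rw [hinv] at h2
    exact h2.symm
  apply htC
  have hz := centralizer_singleton_eq (p := p) P hP hφP hφ
  rw [← hz, mem_centralizer_singleton_iff]
  calc t * (y * (t * y * t⁻¹)) = (t * (y * (t * y * t⁻¹)) * t⁻¹) * t := by group
    _ = _ := by rw [hfix]

/-- Existence of an inverting involution. -/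
theorem exists_inverting {p : ℕ} [hp : Fact p.Prime] (hp2 : p ≠ 2) (P : Subgroup G) (hP : Nat.card P = p)
    (hC : Nat.card (centralizer (P : Set G)) = p) (h2 : 2 ∣ Nat.card (normalizer (P : Set G))) :
    ∃ t : G, orderOf t = 2 ∧ ∀ y ∈ P, t * y * t⁻¹ = y⁻¹ := by
  haveI : Fact (Nat.Prime 2) := ⟨Nat.prime_two⟩
  obtain ⟨t, ht⟩ := exists_prime_orderOf_dvd_card' 2 h2
  have ht' : orderOf (t : G) = 2 := by rw [Subgroup.orderOf_coe, ht]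
  refine ⟨t, ht', ?_⟩
  have ht2 : (t : G) * t = 1 := by rw [← pow_two, ← ht']; exact pow_orderOf_eq_one _
  refine inverts_of_not_centralizer P hP ht2 t.2 ?_
  intro hc
  have h1 := orderOf_dvd_natCard (⟨t, hc⟩ : centralizer (P : Set G))
  rw [Subgroup.orderOf_mk, ht', hC] at h1
  exact hp2 ((Nat.prime_dvd_prime_iff_eq Nat.prime_two hp.out).mp h1).symm

/-- If a Sylow subgroup of odd prime order is self-centralizing, no involution commutes with an element of order `p`. -/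
theorem not_dvd_card_centralizer [Finite G] {p : ℕ} [hp : Fact p.Prime] (hp2 : p ≠ 2) (P : Sylow p G) (hP : Nat.card (P : Subgroup G) = p)
    (hC : Nat.card (centralizer ((P : Subgroup G) : Set G)) = p) {t : G} (ht : orderOf t = 2) :
    ¬ p ∣ Nat.card (centralizer ({t} : Set G)) := by
  intro hd
  obtain ⟨w, hw⟩ := exists_prime_orderOf_dvd_card' p hd
  have hw' : orderOf (w : G) = p := by rw [Subgroup.orderOf_coe, hw]
  have hw1 : (w : G) ≠ 1 := by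
    intro h
    rw [h, orderOf_one] at hw'
    exact hp.out.one_lt.ne hw'
  obtain ⟨Q, hQ⟩ := SmallSimple.exists_sylow_of_orderOf hw'
  obtain ⟨g, hg⟩ := MulAction.exists_smul_eq G P Q
  have hmem : (w : G) ∈ (g • P : Sylow p G) := by rw [hg]; exact hQ
  obtain ⟨y, hy, hyw⟩ : ∃ y ∈ (P : Subgroup G), g * y * g⁻¹ = (w : G) := by
    have h2 : (w : G) ∈ ((g • P : Sylow p G) : Subgroup G) := hmem
    rw [Sylow.coe_subgroup_smul, Subgroup.mem_pointwise_smul_iff_inv_smul_mem] at h2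
    refine ⟨_, h2, ?_⟩
    simp [MulAut.smul_def]
    group
  have hy1 : y ≠ 1 := by
    rintro rfl
    apply hw1
    rw [← hyw]
    group
  have hcard : Nat.card (centralizer ({(w : G)} : Set G)) = p := by
    have h3 : IsConj y (w : G) := isConj_iff.mpr ⟨g, hyw⟩
    have h4 := card_centralizer_congr h3
    rw [h4, centralizer_singleton_eq (p := p) (P : Subgroup G) hP hy hy1]
    exact hC
  have htw : t ∈ centralizer ({(w : G)} : Set G) := by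
    rw [mem_centralizer_singleton_iff]
    have := w.2
    rw [mem_centralizer_singleton_iff] at this
    exact this.symm
  have h5 := orderOf_dvd_natCard (⟨t, htw⟩ : centralizer ({(w : G)} : Set G))
  rw [Subgroup.orderOf_mk, ht, hcard] at h5
  exact hp2 ((Nat.prime_dvd_prime_iff_eq Nat.prime_two hp.out).mp h5).symm

/-- Integer vectors of norm four. -/
theorem sum_sq_eq_four {ι : Type*} [DecidableEq ι] {s : Finset ι} {a : ι → ℤ} (ha : ∀ i ∈ s, a i ≠ 0)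
    (h : ∑ i ∈ s, a i ^ 2 = 4) :
    (∃ i, s = {i} ∧ (a i = 2 ∨ a i = -2)) ∨ (s.card = 4 ∧ ∀ i ∈ s, a i = 1 ∨ a i = -1) := by
  by_cases h2 : ∃ i ∈ s, a i ≠ 1 ∧ a i ≠ -1
  · left
    obtain ⟨i, hi, hi1, hi2⟩ := h2
    have hi3 := ha i hi
    have hsq : 4 ≤ a i ^ 2 := by
      have : 2 ≤ |a i| := by
        by_contra hlt
        have h4 : |a i| < 2 := by omega
        have h5 := abs_lt.mp h4
        omega
      have h6 : |a i| ^ 2 = a i ^ 2 := sq_abs _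
      nlinarith
    have hsplit := Finset.add_sum_erase s (fun j => a j ^ 2) hi
    have hnn : 0 ≤ ∑ j ∈ s.erase i, a j ^ 2 := Finset.sum_nonneg fun j _ => sq_nonneg _
    have hemp : s.erase i = ∅ := by
      by_contra hne
      obtain ⟨j, hj⟩ := Finset.nonempty_iff_ne_empty.mpr hne
      have h1 : a j ^ 2 ≤ ∑ j ∈ s.erase i, a j ^ 2 :=
        Finset.single_le_sum (f := fun j => a j ^ 2) (fun j _ => sq_nonneg _) hj
      have h3 := sq_pos_of_ne_zero (ha j (Finset.mem_of_mem_erase hj))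
      omega
    have hs : s = {i} := by
      rw [← Finset.insert_erase hi, hemp]
      rfl
    refine ⟨i, hs, ?_⟩
    rw [hs, Finset.sum_singleton] at h
    have h5 : (a i - 2) * (a i + 2) = 0 := by linarith
    rcases mul_eq_zero.mp h5 with h6 | h6
    · left; omega
    · right; omega
  · right
    push Not at h2
    have h3 : ∀ i ∈ s, a i = 1 ∨ a i = -1 := by
      intro i hi
      by_cases h4 : a i = 1
      · exact Or.inl h4
      · exact Or.inr (h2 i hi h4)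
    refine ⟨?_, h3⟩
    have h4 : ∑ i ∈ s, a i ^ 2 = ∑ i ∈ s, (1 : ℤ) := by
      refine Finset.sum_congr rfl fun i hi => ?_
      rcases h3 i hi with h5 | h5 <;> rw [h5] <;> norm_num
    rw [h4, Finset.sum_const, nsmul_eq_mul, mul_one] at h
    exact_mod_cast h

section Four

variable [IsSimpleGroup G] (hnc : ¬ IsMulCommutative G)

include hnc

/-- The principal block when `p = 5` and `N/C` has order four. -/
theorem four_data [hp : Fact (Nat.Prime 5)] (P : Sylow 5 G) (hP : Nat.card (P : Subgroup G) = 5)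
    (hCN : (centralizer ((P : Subgroup G) : Set G)).relIndex (normalizer ((P : Subgroup G) : Set G)) = 4) :
    ∃ (M : Ideal AlgInt) (χ₁ χ₂ χ₃ χ₄ : IrrCharacter G) (a₁ a₂ a₃ a₄ : ℤ) (c : ℕ),
      IsPModular 5 M ∧ (χ₁ ∈ principalBlock M G ∧ χ₂ ∈ principalBlock M G ∧ χ₃ ∈ principalBlock M G ∧ χ₄ ∈ principalBlock M G) ∧
      (χ₁ ≠ one' G ∧ χ₂ ≠ one' G ∧ χ₃ ≠ one' G ∧ χ₄ ≠ one' G) ∧
      ((a₁ = 1 ∨ a₁ = -1) ∧ (a₂ = 1 ∨ a₂ = -1) ∧ (a₃ = 1 ∨ a₃ = -1) ∧ (a₄ = 1 ∨ a₄ = -1)) ∧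
      ((5 : ℤ) ∣ (charDegree (χ₁ : G → ℂ) : ℤ) - a₁ ∧ (5 : ℤ) ∣ (charDegree (χ₂ : G → ℂ) : ℤ) - a₂ ∧
        (5 : ℤ) ∣ (charDegree (χ₃ : G → ℂ) : ℤ) - a₃ ∧ (5 : ℤ) ∣ (charDegree (χ₄ : G → ℂ) : ℤ) - a₄) ∧
      1 + a₁ * (charDegree (χ₁ : G → ℂ) : ℤ) + a₂ * (charDegree (χ₂ : G → ℂ) : ℤ) + a₃ * (charDegree (χ₃ : G → ℂ) : ℤ) +
        a₄ * (charDegree (χ₄ : G → ℂ) : ℤ) = 0 ∧
      (charDegree (χ₁ : G → ℂ) ≤ charDegree (χ₂ : G → ℂ) ∧ charDegree (χ₂ : G → ℂ) ≤ charDegree (χ₃ : G → ℂ) ∧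
        charDegree (χ₃ : G → ℂ) ≤ charDegree (χ₄ : G → ℂ)) ∧
      1 + (charDegree (χ₁ : G → ℂ) : ℤ) ^ 2 + (charDegree (χ₂ : G → ℂ) : ℤ) ^ 2 + (charDegree (χ₃ : G → ℂ) : ℤ) ^ 2 +
        (charDegree (χ₄ : G → ℂ) : ℤ) ^ 2 ≤ (Nat.card G : ℤ) ∧
      (∀ z y : G, IsPPart 5 z y → y ∈ (P : Subgroup G) → y ≠ 1 → (χ₁ : G → ℂ) z = (a₁ : ℂ) ∧ (χ₂ : G → ℂ) z = (a₂ : ℂ) ∧
        (χ₃ : G → ℂ) z = (a₃ : ℂ) ∧ (χ₄ : G → ℂ) z = (a₄ : ℂ)) ∧
      Nat.card (centralizer ((P : Subgroup G) : Set G)) = 5 * c ∧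
      ∀ t : G, orderOf t = 2 → ∃ (L n₁ n₂ n₃ n₄ : ℕ), n₁ < charDegree (χ₁ : G → ℂ) ∧ n₂ < charDegree (χ₂ : G → ℂ) ∧
        n₃ < charDegree (χ₃ : G → ℂ) ∧ n₄ < charDegree (χ₄ : G → ℂ) ∧
        (χ₁ : G → ℂ) t = ((2 * n₁ - charDegree (χ₁ : G → ℂ) : ℤ) : ℂ) ∧ (χ₂ : G → ℂ) t = ((2 * n₂ - charDegree (χ₂ : G → ℂ) : ℤ) : ℂ) ∧
        (χ₃ : G → ℂ) t = ((2 * n₃ - charDegree (χ₃ : G → ℂ) : ℤ) : ℂ) ∧ (χ₄ : G → ℂ) t = ((2 * n₄ - charDegree (χ₄ : G → ℂ) : ℤ) : ℂ) ∧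
        1 + a₁ * (2 * n₁ - charDegree (χ₁ : G → ℂ) : ℤ) + a₂ * (2 * n₂ - charDegree (χ₂ : G → ℂ) : ℤ) +
          a₃ * (2 * n₃ - charDegree (χ₃ : G → ℂ) : ℤ) + a₄ * (2 * n₄ - charDegree (χ₄ : G → ℂ) : ℤ) = 0 ∧
        1 + (2 * n₁ - charDegree (χ₁ : G → ℂ) : ℤ) ^ 2 + (2 * n₂ - charDegree (χ₂ : G → ℂ) : ℤ) ^ 2 +
          (2 * n₃ - charDegree (χ₃ : G → ℂ) : ℤ) ^ 2 + (2 * n₄ - charDegree (χ₄ : G → ℂ) : ℤ) ^ 2 ≤
            (Nat.card (centralizer ({t} : Set G)) : ℤ) ∧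
        (L : ℤ) * (Nat.card (centralizer ({t} : Set G)) : ℤ) ^ 2 * charDegree (χ₁ : G → ℂ) * charDegree (χ₂ : G → ℂ) *
            charDegree (χ₃ : G → ℂ) * charDegree (χ₄ : G → ℂ) =
          (Nat.card G : ℤ) * c * ((charDegree (χ₁ : G → ℂ) : ℤ) * charDegree (χ₂ : G → ℂ) * charDegree (χ₃ : G → ℂ) * charDegree (χ₄ : G → ℂ) +
            a₁ * (2 * n₁ - charDegree (χ₁ : G → ℂ) : ℤ) ^ 2 * charDegree (χ₂ : G → ℂ) * charDegree (χ₃ : G → ℂ) * charDegree (χ₄ : G → ℂ) +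
            a₂ * (2 * n₂ - charDegree (χ₂ : G → ℂ) : ℤ) ^ 2 * charDegree (χ₁ : G → ℂ) * charDegree (χ₃ : G → ℂ) * charDegree (χ₄ : G → ℂ) +
            a₃ * (2 * n₃ - charDegree (χ₃ : G → ℂ) : ℤ) ^ 2 * charDegree (χ₁ : G → ℂ) * charDegree (χ₂ : G → ℂ) * charDegree (χ₄ : G → ℂ) +
            a₄ * (2 * n₄ - charDegree (χ₄ : G → ℂ) : ℤ) ^ 2 * charDegree (χ₁ : G → ℂ) * charDegree (χ₂ : G → ℂ) * charDegree (χ₃ : G → ℂ)) ∧
        (c = 1 → L ≤ 5) ∧ (c = 1 → (∀ y ∈ (P : Subgroup G), t * y * t⁻¹ = y⁻¹) → 1 ≤ L) := by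
  classical
  obtain ⟨M, X, a, c, F, hnorm⟩ := form_full (p := 5) P hP (by simpa using hCN)
  have hsum : ∑ χ ∈ X, a χ ^ 2 = 1 + ∑ χ ∈ X.erase (one' G), a χ ^ 2 := by
    rw [← Finset.add_sum_erase _ _ F.one_mem, F.a_one]
    norm_num
  have hone : ¬ 5 ∣ orderOf (1 : G) := by
    rw [orderOf_one]
    norm_num
  have hone' : ∀ g : G, ((one' G : IrrCharacter G) : G → ℂ) g = 1 := fun _ => rfl
  have hreg : ∀ g : G, ¬ 5 ∣ orderOf g → 1 + ∑ χ ∈ X.erase (one' G), (a χ : ℂ) * (χ : G → ℂ) g = 0 := by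
    intro g hg
    have h1 := F.reg g hg
    rw [← Finset.add_sum_erase _ _ F.one_mem, F.a_one, hone'] at h1
    push_cast at h1 ⊢
    linear_combination h1
  have hdeg : ∀ χ : IrrCharacter G, (χ : G → ℂ) 1 = (charDegree (χ : G → ℂ) : ℂ) :=
    fun χ => apply_one_eq_charDegree (IsIrrCharacter.isCharacter χ.2)
  have h4 : ∑ χ ∈ X.erase (one' G), a χ ^ 2 = 4 := by
    rw [hsum] at hnorm
    push_cast at hnorm
    linarith
  rcases sum_sq_eq_four (fun j hj => F.a_ne j (Finset.mem_of_mem_erase hj)) h4 with ⟨χ, hχ, hχa⟩ | ⟨hcard4, ha⟩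
  · exfalso
    have hr := hreg 1 hone
    rw [hχ, Finset.sum_singleton, hdeg] at hr
    have h5 : ((1 + a χ * (charDegree (χ : G → ℂ) : ℤ) : ℤ) : ℂ) = ((0 : ℤ) : ℂ) := by
      push_cast
      exact hr
    have h6 : 1 + a χ * (charDegree (χ : G → ℂ) : ℤ) = 0 := Int.cast_injective h5
    rcases hχa with h7 | h7 <;> rw [h7] at h6 <;> omega
  obtain ⟨χ₁, χ₂, χ₃, χ₄, hX, h12, h13, h14, h23, h24, h34, hs1, hs2, hs3⟩ :=
    sorted_four (X.erase (one' G)) hcard4 (fun χ => charDegree (χ : G → ℂ))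
  have hmem : ∀ χ ∈ ({χ₁, χ₂, χ₃, χ₄} : Finset (IrrCharacter G)), χ ≠ one' G ∧ χ ∈ X := by
    intro χ hχ
    rw [← hX] at hχ
    exact ⟨Finset.ne_of_mem_erase hχ, Finset.mem_of_mem_erase hχ⟩
  have hm1 := hmem χ₁ (by simp)
  have hm2 := hmem χ₂ (by simp)
  have hm3 := hmem χ₃ (by simp)
  have hm4 := hmem χ₄ (by simp)
  have ha1 := ha χ₁ (by rw [hX]; simp)
  have ha2 := ha χ₂ (by rw [hX]; simp)
  have ha3 := ha χ₃ (by rw [hX]; simp)
  have ha4 := ha χ₄ (by rw [hX]; simp)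
  have hsumC : ∀ f : IrrCharacter G → ℂ, ∑ χ ∈ X.erase (one' G), f χ = f χ₁ + f χ₂ + f χ₃ + f χ₄ := by
    intro f
    rw [hX, Finset.sum_insert (by simp [h12, h13, h14]), Finset.sum_insert (by simp [h23, h24]),
      Finset.sum_insert (by simp [h34]), Finset.sum_singleton]
    ring
  have hsumZ : ∀ f : IrrCharacter G → ℤ, ∑ χ ∈ X.erase (one' G), f χ = f χ₁ + f χ₂ + f χ₃ + f χ₄ := by
    intro f
    rw [hX, Finset.sum_insert (by simp [h12, h13, h14]), Finset.sum_insert (by simp [h23, h24]),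
      Finset.sum_insert (by simp [h34]), Finset.sum_singleton]
    ring
  have hreg2 : ∀ g : G, ¬ 5 ∣ orderOf g → 1 + (a χ₁ : ℂ) * (χ₁ : G → ℂ) g + (a χ₂ : ℂ) * (χ₂ : G → ℂ) g +
      (a χ₃ : ℂ) * (χ₃ : G → ℂ) g + (a χ₄ : ℂ) * (χ₄ : G → ℂ) g = 0 := by
    intro g hg
    have h1 := hreg g hg
    rw [hsumC] at h1
    linear_combination h1
  have hxpos : ∀ χ : IrrCharacter G, (charDegree (χ : G → ℂ) : ℂ) ≠ 0 := by
    intro χ h0
    have h1 : charDegree (χ : G → ℂ) = 0 := by exact_mod_cast h0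
    have h2 : 0 < charDegree (χ : G → ℂ) := charDegree_pos χ.2
    omega
  refine ⟨M, χ₁, χ₂, χ₃, χ₄, a χ₁, a χ₂, a χ₃, a χ₄, c, F.modular, ⟨F.mem_block _ hm1.2, F.mem_block _ hm2.2, F.mem_block _ hm3.2, F.mem_block _ hm4.2⟩,
    ⟨hm1.1, hm2.1, hm3.1, hm4.1⟩, ⟨ha1, ha2, ha3, ha4⟩, ⟨F.deg_sub _ hm1.2, F.deg_sub _ hm2.2, F.deg_sub _ hm3.2, F.deg_sub _ hm4.2⟩, ?_, ⟨hs1, hs2, hs3⟩, ?_, ?_, F.card_c, ?_⟩
  · have h1 := hreg2 1 hone
    rw [hdeg, hdeg, hdeg, hdeg] at h1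
    have h5 : ((1 + a χ₁ * (charDegree (χ₁ : G → ℂ) : ℤ) + a χ₂ * (charDegree (χ₂ : G → ℂ) : ℤ) + a χ₃ * (charDegree (χ₃ : G → ℂ) : ℤ) +
        a χ₄ * (charDegree (χ₄ : G → ℂ) : ℤ) : ℤ) : ℂ) = ((0 : ℤ) : ℂ) := by
      push_cast
      exact h1
    exact Int.cast_injective h5
  · have h1 := sum_degree_sq_le X
    rw [← Finset.add_sum_erase _ _ F.one_mem, hsumZ] at h1
    have h2 : charDegree ((one' G : IrrCharacter G) : G → ℂ) = 1 := by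
      have h3 := hdeg (one' G)
      rw [hone'] at h3
      exact_mod_cast h3.symm
    rw [h2] at h1
    simp only [Nat.cast_one, one_pow] at h1
    linarith
  · intro z y hz hy hy1
    exact ⟨F.section_val _ hm1.2 z y hz hy hy1, F.section_val _ hm2.2 z y hz hy hy1, F.section_val _ hm3.2 z y hz hy hy1, F.section_val _ hm4.2 z y hz hy hy1⟩
  · intro t ht
    have hreg_t : ¬ 5 ∣ orderOf t := by
      rw [ht]
      norm_num
    have ht2 : t * t = 1 := by rw [← pow_two, ← ht]; exact pow_orderOf_eq_one t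
    obtain ⟨L, hL, hL2, hL3⟩ := F.count t hreg_t
    obtain ⟨n₁, hn₁, hu₁⟩ := involution_value' χ₁ ht
    obtain ⟨n₂, hn₂, hu₂⟩ := involution_value' χ₂ ht
    obtain ⟨n₃, hn₃, hu₃⟩ := involution_value' χ₃ ht
    obtain ⟨n₄, hn₄, hu₄⟩ := involution_value' χ₄ ht
    have ht1 : t ≠ 1 := by
      rintro rfl
      simp at ht
    have hlt : ∀ (χ : IrrCharacter G) (n : ℕ), χ ≠ one' G → n ≤ charDegree (χ : G → ℂ) →
        (χ : G → ℂ) t = ((2 * n - charDegree (χ : G → ℂ) : ℤ) : ℂ) → n < charDegree (χ : G → ℂ) := by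
      intro χ n hχ hn hu
      refine lt_of_le_of_ne hn ?_
      intro he
      apply ht1
      apply faithful_irr hχ
      rw [hu, hdeg, he]
      push_cast
      ring
    replace hn₁ := hlt χ₁ n₁ hm1.1 hn₁ hu₁
    replace hn₂ := hlt χ₂ n₂ hm2.1 hn₂ hu₂
    replace hn₃ := hlt χ₃ n₃ hm3.1 hn₃ hu₃
    replace hn₄ := hlt χ₄ n₄ hm4.1 hn₄ hu₄
    refine ⟨L, n₁, n₂, n₃, n₄, hn₁, hn₂, hn₃, hn₄, hu₁, hu₂, hu₃, hu₄, ?_, ?_, ?_, fun hc => hL2 hc ht2, fun hc hinv => hL3 hc ht2 (by norm_num) hinv⟩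
    · have h1 := hreg2 t hreg_t
      rw [hu₁, hu₂, hu₃, hu₄] at h1
      have h5 : ((1 + a χ₁ * (2 * n₁ - charDegree (χ₁ : G → ℂ) : ℤ) + a χ₂ * (2 * n₂ - charDegree (χ₂ : G → ℂ) : ℤ) +
          a χ₃ * (2 * n₃ - charDegree (χ₃ : G → ℂ) : ℤ) + a χ₄ * (2 * n₄ - charDegree (χ₄ : G → ℂ) : ℤ) : ℤ) : ℂ) = ((0 : ℤ) : ℂ) := by
        push_cast at h1 ⊢
        exact h1
      exact Int.cast_injective h5
    · have h1 := sum_sq_le_centralizer ht ({one' G, χ₁, χ₂, χ₃, χ₄} : Finset (IrrCharacter G))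
        (fun χ => if χ = one' G then 1 else if χ = χ₁ then (2 * n₁ - charDegree (χ₁ : G → ℂ) : ℤ) else if χ = χ₂ then (2 * n₂ - charDegree (χ₂ : G → ℂ) : ℤ)
          else if χ = χ₃ then (2 * n₃ - charDegree (χ₃ : G → ℂ) : ℤ) else (2 * n₄ - charDegree (χ₄ : G → ℂ) : ℤ)) (by
        intro χ hχ
        simp only [Finset.mem_insert, Finset.mem_singleton] at hχ
        rcases hχ with rfl | rfl | rfl | rfl | rfl
        · simp
        · simp [hm1.1, hu₁]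
        · simp [hm2.1, h12.symm, hu₂]
        · simp [hm3.1, h13.symm, h23.symm, hu₃]
        · simp [hm4.1, h14.symm, h24.symm, h34.symm, hu₄])
      rw [Finset.sum_insert (by simp [hm1.1.symm, hm2.1.symm, hm3.1.symm, hm4.1.symm]), Finset.sum_insert (by simp [h12, h13, h14]),
        Finset.sum_insert (by simp [h23, h24]), Finset.sum_insert (by simp [h34]), Finset.sum_singleton] at h1
      simp only [if_true, hm1.1, hm2.1, hm3.1, hm4.1, if_false, h12.symm, h13.symm, h14.symm, h23.symm, h24.symm, h34.symm] at h1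
      have h6 : (1 : ℤ) ^ 2 = 1 := by norm_num
      rw [h6] at h1
      linarith
    · have hsumX : ∑ χ ∈ X, (a χ : ℂ) * ((χ : G → ℂ) t ^ 2 / (χ : G → ℂ) 1) =
          1 + (a χ₁ : ℂ) * (((2 * n₁ - charDegree (χ₁ : G → ℂ) : ℤ) : ℂ) ^ 2 / (charDegree (χ₁ : G → ℂ) : ℂ)) +
          (a χ₂ : ℂ) * (((2 * n₂ - charDegree (χ₂ : G → ℂ) : ℤ) : ℂ) ^ 2 / (charDegree (χ₂ : G → ℂ) : ℂ)) +
          (a χ₃ : ℂ) * (((2 * n₃ - charDegree (χ₃ : G → ℂ) : ℤ) : ℂ) ^ 2 / (charDegree (χ₃ : G → ℂ) : ℂ)) +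
          (a χ₄ : ℂ) * (((2 * n₄ - charDegree (χ₄ : G → ℂ) : ℤ) : ℂ) ^ 2 / (charDegree (χ₄ : G → ℂ) : ℂ)) := by
        rw [← Finset.add_sum_erase _ _ F.one_mem, F.a_one, hsumC, hu₁, hu₂, hu₃, hu₄, hdeg χ₁, hdeg χ₂, hdeg χ₃, hdeg χ₄, hone' t]
        simp only [Int.cast_one, one_pow, div_one, mul_one]
        ring
      rw [hsumX] at hL
      have hx1 := hxpos χ₁
      have hx2 := hxpos χ₂
      have hx3 := hxpos χ₃
      have hx4 := hxpos χ₄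
      have h3 : (((L : ℤ) * (Nat.card (centralizer ({t} : Set G)) : ℤ) ^ 2 * charDegree (χ₁ : G → ℂ) * charDegree (χ₂ : G → ℂ) *
            charDegree (χ₃ : G → ℂ) * charDegree (χ₄ : G → ℂ) : ℤ) : ℂ) =
          (((Nat.card G : ℤ) * c * ((charDegree (χ₁ : G → ℂ) : ℤ) * charDegree (χ₂ : G → ℂ) * charDegree (χ₃ : G → ℂ) * charDegree (χ₄ : G → ℂ) +
            a χ₁ * (2 * n₁ - charDegree (χ₁ : G → ℂ) : ℤ) ^ 2 * charDegree (χ₂ : G → ℂ) * charDegree (χ₃ : G → ℂ) * charDegree (χ₄ : G → ℂ) +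
            a χ₂ * (2 * n₂ - charDegree (χ₂ : G → ℂ) : ℤ) ^ 2 * charDegree (χ₁ : G → ℂ) * charDegree (χ₃ : G → ℂ) * charDegree (χ₄ : G → ℂ) +
            a χ₃ * (2 * n₃ - charDegree (χ₃ : G → ℂ) : ℤ) ^ 2 * charDegree (χ₁ : G → ℂ) * charDegree (χ₂ : G → ℂ) * charDegree (χ₄ : G → ℂ) +
            a χ₄ * (2 * n₄ - charDegree (χ₄ : G → ℂ) : ℤ) ^ 2 * charDegree (χ₁ : G → ℂ) * charDegree (χ₂ : G → ℂ) * charDegree (χ₃ : G → ℂ)) : ℤ) : ℂ) := by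
        have h7 : (L : ℂ) * (Nat.card (centralizer ({t} : Set G)) : ℂ) ^ 2 = (Nat.card G : ℂ) * (c : ℂ) *
            (1 + (a χ₁ : ℂ) * (((2 * n₁ - charDegree (χ₁ : G → ℂ) : ℤ) : ℂ) ^ 2 / (charDegree (χ₁ : G → ℂ) : ℂ)) +
            (a χ₂ : ℂ) * (((2 * n₂ - charDegree (χ₂ : G → ℂ) : ℤ) : ℂ) ^ 2 / (charDegree (χ₂ : G → ℂ) : ℂ)) +
            (a χ₃ : ℂ) * (((2 * n₃ - charDegree (χ₃ : G → ℂ) : ℤ) : ℂ) ^ 2 / (charDegree (χ₃ : G → ℂ) : ℂ)) +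
            (a χ₄ : ℂ) * (((2 * n₄ - charDegree (χ₄ : G → ℂ) : ℤ) : ℂ) ^ 2 / (charDegree (χ₄ : G → ℂ) : ℂ))) := by
          rw [hL]
          simp
        push_cast
        push_cast at h7
        calc _ = ((L : ℂ) * (Nat.card (centralizer ({t} : Set G)) : ℂ) ^ 2) * charDegree (χ₁ : G → ℂ) * charDegree (χ₂ : G → ℂ) *
            charDegree (χ₃ : G → ℂ) * charDegree (χ₄ : G → ℂ) := by ring
          _ = _ := by
            rw [h7]
            field_simp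
      exact Int.cast_injective h3

end Four

/-- The Boolean search for the class count with four characters. -/
def chkFour (g c x₁ x₂ x₃ x₄ : ℕ) (a₁ a₂ a₃ a₄ : ℤ) (Cs Ls : List ℕ) : Bool :=
  (List.range x₁).all fun n₁ => (List.range x₂).all fun n₂ => (List.range x₃).all fun n₃ =>
    let u₁ : ℤ := 2 * (n₁ : ℤ) - x₁
    let u₂ : ℤ := 2 * (n₂ : ℤ) - x₂
    let u₃ : ℤ := 2 * (n₃ : ℤ) - x₃
    let u₄ : ℤ := -a₄ * (1 + a₁ * u₁ + a₂ * u₂ + a₃ * u₃)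
    let S : ℤ := 1 + u₁ ^ 2 + u₂ ^ 2 + u₃ ^ 2 + u₄ ^ 2
    let R : ℤ := (g : ℤ) * c * ((x₁ : ℤ) * x₂ * x₃ * x₄ + a₁ * u₁ ^ 2 * x₂ * x₃ * x₄ + a₂ * u₂ ^ 2 * x₁ * x₃ * x₄ +
      a₃ * u₃ ^ 2 * x₁ * x₂ * x₄ + a₄ * u₄ ^ 2 * x₁ * x₂ * x₃)
    Cs.all fun C => Ls.all fun L =>
      !(decide (S ≤ (C : ℤ)) && decide ((L : ℤ) * (C : ℤ) ^ 2 * x₁ * x₂ * x₃ * x₄ = R))

theorem chkFour_sound {g c x₁ x₂ x₃ x₄ : ℕ} {a₁ a₂ a₃ a₄ : ℤ} {Cs Ls : List ℕ} (h : chkFour g c x₁ x₂ x₃ x₄ a₁ a₂ a₃ a₄ Cs Ls = true)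
    (ha₄ : a₄ = 1 ∨ a₄ = -1) {n₁ n₂ n₃ n₄ C L : ℕ} (hn₁ : n₁ < x₁) (hn₂ : n₂ < x₂) (hn₃ : n₃ < x₃) (hC : C ∈ Cs) (hL : L ∈ Ls)
    (hrel : 1 + a₁ * (2 * n₁ - x₁ : ℤ) + a₂ * (2 * n₂ - x₂ : ℤ) + a₃ * (2 * n₃ - x₃ : ℤ) + a₄ * (2 * n₄ - x₄ : ℤ) = 0)
    (hS : 1 + (2 * n₁ - x₁ : ℤ) ^ 2 + (2 * n₂ - x₂ : ℤ) ^ 2 + (2 * n₃ - x₃ : ℤ) ^ 2 + (2 * n₄ - x₄ : ℤ) ^ 2 ≤ (C : ℤ))
    (heq : (L : ℤ) * (C : ℤ) ^ 2 * x₁ * x₂ * x₃ * x₄ = (g : ℤ) * c * ((x₁ : ℤ) * x₂ * x₃ * x₄ +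
      a₁ * (2 * n₁ - x₁ : ℤ) ^ 2 * x₂ * x₃ * x₄ + a₂ * (2 * n₂ - x₂ : ℤ) ^ 2 * x₁ * x₃ * x₄ +
      a₃ * (2 * n₃ - x₃ : ℤ) ^ 2 * x₁ * x₂ * x₄ + a₄ * (2 * n₄ - x₄ : ℤ) ^ 2 * x₁ * x₂ * x₃)) : False := by
  have hu₄ : (2 * n₄ - x₄ : ℤ) = -a₄ * (1 + a₁ * (2 * n₁ - x₁ : ℤ) + a₂ * (2 * n₂ - x₂ : ℤ) + a₃ * (2 * n₃ - x₃ : ℤ)) := by
    rcases ha₄ with rfl | rfl <;> linarith
  rw [hu₄] at hS heq
  simp only [chkFour, List.all_eq_true, List.mem_range, Bool.not_eq_true', Bool.and_eq_false_iff, decide_eq_false_iff_not] at h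
  rcases h n₁ hn₁ n₂ hn₂ n₃ hn₃ C hC L hL with h1 | h1
  · exact h1 hS
  · exact h1 heq

/-- The sign forced on a degree by its residue modulo five. -/
def sgnFive (x : ℕ) : ℤ := if x % 5 = 1 then 1 else -1

theorem eq_sgnFive {a : ℤ} {x : ℕ} (ha : a = 1 ∨ a = -1) (hd : (5 : ℤ) ∣ (x : ℤ) - a) : a = sgnFive x ∧ (x % 5 = 1 ∨ x % 5 = 4) := by
  unfold sgnFive
  rcases ha with rfl | rfl
  · have : x % 5 = 1 := by omega
    simp [this]
  · have : x % 5 = 4 := by omega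
    simp [this]

theorem le_of_sq_le {x N B : ℕ} {S : ℤ} (h : S + (x : ℤ) ^ 2 ≤ (N : ℤ)) (hS : 0 ≤ S) (hB : N < (B + 1) * (B + 1)) : x ≤ B := by
  by_contra hc
  have h1 : B + 1 ≤ x := by omega
  have h2 : (B + 1) * (B + 1) ≤ x * x := Nat.mul_le_mul h1 h1
  have h3 : ((B + 1) * (B + 1) : ℤ) ≤ (x : ℤ) * x := by exact_mod_cast h2
  have h4 : ((N : ℤ)) < ((B + 1) * (B + 1) : ℤ) := by exact_mod_cast hB
  nlinarith

end Cfsg.Agent.Lib.Small.BD
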