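import Mathlib
import Cfsg.Agent.Lib.SmallSimple.Fixed

/-! No group has exactly 21 Sylow 5-subgroups, part 1: action lemmas, the Sylow 5-subgroups have order 5. -/

set_option autoImplicit false

namespace Cfsg.Agent.Lib.Small.Syl21

open Subgroup MulAction

instance fact5 : Fact (Nat.Prime 5) := ⟨by norm_num⟩
instance fact7 : Fact (Nat.Prime 7) := ⟨by norm_num⟩

section Generic

variable {H X : Type*} [Group H] [MulAction H X]

theorem card_orbit_mul [Finite H] (x : X) :
    Nat.card (orbit H x) * Nat.card (stabilizer H x) = Nat.card H := by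
  classical
  have := Fintype.ofFinite H
  have : Finite (orbit H x) := (Set.finite_range (fun h : H => h • x)).to_subtype
  have := Fintype.ofFinite (orbit H x)
  have := Fintype.ofFinite (stabilizer H x)
  simp only [Nat.card_eq_fintype_card]
  exact card_orbit_mul_card_stabilizer_eq_card_group H x

theorem card_filter_mem {Y : Type*} [Fintype Y] (A : Set Y) [DecidablePred (· ∈ A)] :
    (Finset.univ.filter (· ∈ A)).card = Nat.card A := by
  rw [Nat.card_eq_fintype_card]
  exact (Fintype.card_subtype _).symm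

/-- A free action on an invariant finite set: the order of the group divides the size of the set. -/
theorem card_dvd_of_free [Finite H] [DecidableEq X] (A : Finset X)
    (hinv : ∀ (h : H), ∀ x ∈ A, h • x ∈ A) (hfree : ∀ (h : H), ∀ x ∈ A, h • x = x → h = 1) :
    Nat.card H ∣ A.card := by
  classical
  have := Fintype.ofFinite H
  induction' hn : A.card using Nat.strong_induction_on with n ih generalizing A
  rcases A.eq_empty_or_nonempty with rfl | ⟨x, hx⟩
  · simp at hn
    subst hn
    exact dvd_zero _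
  · let O : Finset X := Finset.univ.image (fun h : H => h • x)
    have hO : O.card = Nat.card H := by
      rw [Nat.card_eq_fintype_card, Finset.card_image_of_injective, Finset.card_univ]
      intro a b hab
      have h1 : (b⁻¹ * a) • x = x := by
        rw [mul_smul, show a • x = b • x from hab, inv_smul_smul]
      have := hfree _ x hx h1
      exact (inv_mul_eq_one.mp this).symm
    have hOA : O ⊆ A := by
      intro y hy
      obtain ⟨h, -, rfl⟩ := Finset.mem_image.mp hy
      exact hinv h x hx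
    have hcard : (A \ O).card + O.card = A.card := Finset.card_sdiff_add_card_eq_card hOA
    have hOpos : 0 < O.card := Finset.card_pos.mpr ⟨x, Finset.mem_image.mpr ⟨1, Finset.mem_univ _, one_smul _ _⟩⟩
    have h1 : Nat.card H ∣ (A \ O).card := by
      refine ih (A \ O).card (by omega) (A \ O) ?_ ?_ rfl
      · intro h y hy
        obtain ⟨hyA, hyO⟩ := Finset.mem_sdiff.mp hy
        refine Finset.mem_sdiff.mpr ⟨hinv h y hyA, fun hc => hyO ?_⟩
        obtain ⟨k, -, hk⟩ := Finset.mem_image.mp hc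
        refine Finset.mem_image.mpr ⟨h⁻¹ * k, Finset.mem_univ _, ?_⟩
        rw [mul_smul, hk, inv_smul_smul]
      · intro h y hy
        exact hfree h y (Finset.mem_sdiff.mp hy).1
    rw [← hn, ← hcard, hO]
    exact dvd_add h1 (dvd_refl _)

/-- Congruence for a `p`-group on an invariant set. -/
theorem card_inv_modEq [Finite X] {p : ℕ} [Fact p.Prime] (hH : IsPGroup p H) (A : Set X)
    (hA : ∀ (h : H), ∀ x ∈ A, h • x ∈ A) :
    Nat.card A ≡ Nat.card {x // x ∈ A ∧ ∀ h : H, h • x = x} [MOD p] := by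
  let B : SubMulAction H X := ⟨A, fun h {x} hx => hA h x hx⟩
  have key := hH.card_modEq_card_fixedPoints B
  have e1 : Nat.card B = Nat.card A := rfl
  have e2 : Nat.card (fixedPoints H B) = Nat.card {x // x ∈ A ∧ ∀ h : H, h • x = x} := by
    apply Nat.card_congr
    refine ⟨fun x => ⟨x.1.1, x.1.2, fun h => ?_⟩, fun x => ⟨⟨x.1, x.2.1⟩, fun h => ?_⟩, ?_, ?_⟩
    · have := x.2 h
      exact congrArg Subtype.val this
    · exact Subtype.ext (x.2.2 h)
    · intro x; rfl
    · intro x; rfl
  rwa [e1, e2] at key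

/-- A set with all points fixed -/
theorem card_inv_modEq_zero [Finite X] {p : ℕ} [Fact p.Prime] (hH : IsPGroup p H) (A : Set X)
    (hA : ∀ (h : H), ∀ x ∈ A, h • x ∈ A) (hno : ∀ x ∈ A, ∃ h : H, h • x ≠ x) :
    p ∣ Nat.card A := by
  have h1 := card_inv_modEq hH A hA
  have h2 : Nat.card {x // x ∈ A ∧ ∀ h : H, h • x = x} = 0 := by
    have : IsEmpty {x // x ∈ A ∧ ∀ h : H, h • x = x} :=
      ⟨fun x => by
        obtain ⟨h, hh⟩ := hno x.1 x.2.1
        exact hh (x.2.2 h)⟩
    exact Nat.card_of_isEmpty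
  rw [h2] at h1
  exact (Nat.modEq_zero_iff_dvd).mp h1

/-- With a unique fixed point. -/
theorem card_inv_modEq_one [Finite X] {p : ℕ} [Fact p.Prime] (hH : IsPGroup p H) (A : Set X)
    (hA : ∀ (h : H), ∀ x ∈ A, h • x ∈ A) (a : X) (ha : a ∈ A) (hfix : ∀ h : H, h • a = a)
    (hno : ∀ x ∈ A, x ≠ a → ∃ h : H, h • x ≠ x) :
    Nat.card A ≡ 1 [MOD p] := by
  have h1 := card_inv_modEq hH A hA
  have h2 : Nat.card {x // x ∈ A ∧ ∀ h : H, h • x = x} = 1 := by
    rw [Nat.card_eq_one_iff_unique]
    refine ⟨⟨?_⟩, ⟨⟨a, ha, hfix⟩⟩⟩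
    intro x y
    have hx : x.1 = a := by
      by_contra hc
      obtain ⟨h, hh⟩ := hno x.1 x.2.1 hc
      exact hh (x.2.2 h)
    have hy : y.1 = a := by
      by_contra hc
      obtain ⟨h, hh⟩ := hno y.1 y.2.1 hc
      exact hh (y.2.2 h)
    exact Subtype.ext (hx.trans hy.symm)
  rwa [h2] at h1

end Generic

variable {G : Type*} [Group G] [Finite G]

theorem smul_eq_iff {g : G} {R : Sylow 5 G} : g • R = R ↔ g ∈ normalizer ((R : Subgroup G) : Set G) :=
  Sylow.smul_eq_iff_mem_normalizer

theorem smul_self {g : G} {R : Sylow 5 G} (hg : g ∈ (R : Subgroup G)) : g • R = R := by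
  rw [smul_eq_iff]
  exact Subgroup.le_normalizer hg

/-- Fixed point of a Sylow subgroup. -/
theorem eq_of_le_normalizer {α R : Sylow 5 G} (h : ∀ a ∈ (α : Subgroup G), a • R = R) : α = R := by
  have h1 : (α : Subgroup G) ≤ (R : Subgroup G) := by
    intro a ha
    exact SmallSimple.mem_of_mem_normalizer_sylow α R ha (smul_eq_iff.mp (h a ha))
  apply Sylow.ext
  exact α.3 R.2 h1 |>.symm

/-- The action of the subgroup. -/
theorem sub_smul {K : Subgroup G} (a : K) (R : Sylow 5 G) : a • R = (a : G) • R := rfl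

section Main

variable (h21 : Nat.card (Sylow 5 G) = 21)

include h21

theorem exists_ne_sylow (α : Sylow 5 G) : ∃ β : Sylow 5 G, β ≠ α := by
  have : Nontrivial (Sylow 5 G) := by
    rw [← Finite.one_lt_card_iff_nontrivial, h21]
    norm_num
  exact exists_ne α

variable [IsSimpleGroup G]

theorem faithful {g : G} (hg : ∀ R : Sylow 5 G, g • R = R) : g = 1 := by
  rcases (MulAction.toPermHom G (Sylow 5 G)).normal_ker.eq_bot_or_eq_top with h | h
  · have h1 : g ∈ (MulAction.toPermHom G (Sylow 5 G)).ker := by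
      rw [MonoidHom.mem_ker]
      ext R : 1
      exact hg R
    rw [h] at h1
    exact h1
  · exfalso
    obtain ⟨P⟩ : Nonempty (Sylow 5 G) := inferInstance
    obtain ⟨Q, hQ⟩ := exists_ne_sylow h21 P
    obtain ⟨x, hx⟩ := MulAction.exists_smul_eq G P Q
    have h1 : x ∈ (MulAction.toPermHom G (Sylow 5 G)).ker := by rw [h]; trivial
    rw [MonoidHom.mem_ker] at h1
    have h2 : x • P = P := congrArg (fun f : Equiv.Perm (Sylow 5 G) => f P) h1
    exact hQ (hx.symm.trans h2)

omit [IsSimpleGroup G] in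
theorem card_orbit_five (α β : Sylow 5 G) (hne : α ≠ β) :
    Nat.card (orbit (α : Subgroup G) β) = 5 := by
  classical
  have := Fintype.ofFinite (Sylow 5 G)
  have h1 := card_orbit_mul (H := (α : Subgroup G)) β
  obtain ⟨n, hn⟩ := IsPGroup.iff_card.mp α.isPGroup'
  have h2 : Nat.card (orbit (α : Subgroup G) β) ∣ 5 ^ n := by
    rw [← hn, ← h1]
    exact dvd_mul_right _ _
  obtain ⟨e, -, he⟩ := (Nat.dvd_prime_pow (by norm_num : Nat.Prime 5)).mp h2
  have h3 : Nat.card (orbit (α : Subgroup G) β) ≤ 20 := by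
    have h4 : orbit (α : Subgroup G) β ⊆ ({α}ᶜ : Set (Sylow 5 G)) := by
      have key : ∀ b : G, b ∈ (α : Subgroup G) → b • β ≠ α := by
        intro b hb h5
        have h6 : b⁻¹ • α = α := smul_self (inv_mem hb)
        have h7 : b⁻¹ • (b • β) = β := inv_smul_smul _ _
        rw [h5, h6] at h7
        exact hne h7
      rintro _ ⟨a, rfl⟩ h
      exact key a.1 a.2 h
    have h5 := Nat.card_mono (Set.toFinite _) h4
    have h6 : Nat.card (({α}ᶜ : Set (Sylow 5 G))) = 20 := by
      rw [Nat.card_coe_set_eq, Set.ncard_compl, Set.ncard_singleton, h21]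
    have : Nat.card (orbit (α : Subgroup G) β) = Nat.card ((orbit (α : Subgroup G) β : Set (Sylow 5 G))) := rfl
    omega
  have h4 : e ≠ 0 := by
    rintro rfl
    rw [pow_zero] at he
    apply hne
    apply eq_of_le_normalizer
    intro a ha
    have h5 : Subsingleton (orbit (α : Subgroup G) β) := (Nat.card_eq_one_iff_unique.mp he).1
    have h6 : (⟨(⟨a, ha⟩ : (α : Subgroup G)) • β, mem_orbit _ _⟩ : orbit (α : Subgroup G) β) = ⟨β, mem_orbit_self _⟩ :=
      Subsingleton.elim _ _
    exact congrArg Subtype.val h6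
  have h5 : e < 2 := by
    by_contra hc
    have : 5 ^ 2 ≤ 5 ^ e := Nat.pow_le_pow_right (by norm_num) (by omega)
    rw [he] at h3
    omega
  have h6 : e = 1 := by omega
  rw [he, h6, pow_one]

omit [IsSimpleGroup G] in
theorem card_eq_five_mul (α β : Sylow 5 G) (hne : α ≠ β) :
    Nat.card (α : Subgroup G) = 5 * Nat.card ((α : Subgroup G) ⊓ (β : Subgroup G) : Subgroup G) := by
  have h1 := card_orbit_mul (H := (α : Subgroup G)) β
  rw [card_orbit_five h21 α β hne] at h1
  rw [← h1]
  congr 1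
  rw [SmallSimple.stabilizer_sylow_eq]
  rw [← Nat.card_congr (Subgroup.subgroupOfEquivOfLe (inf_le_left : (α : Subgroup G) ⊓ (β : Subgroup G) ≤ α)).toEquiv]
  rw [Subgroup.inf_subgroupOf_left]

omit h21 [IsSimpleGroup G] in
theorem smul_ne_of_ne (Γ δ : Sylow 5 G) (hne : Γ ≠ δ) {b : G} (hb : b ∈ (Γ : Subgroup G)) : b • δ ≠ Γ := by
  intro h5
  have h6 : b⁻¹ • Γ = Γ := smul_self (inv_mem hb)
  have h7 : b⁻¹ • (b • δ) = δ := inv_smul_smul _ _
  rw [h5, h6] at h7
  exact hne h7

omit [IsSimpleGroup G] in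
/-- Separated points lie in distinct orbits of size five. -/
theorem sep_card_le (Γ : Sylow 5 G) (L : Finset (Sylow 5 G)) (hΓ : Γ ∉ L)
    (hsep : ∀ δ ∈ L, ∀ δ' ∈ L, ∀ h ∈ (Γ : Subgroup G), h • δ = δ' → δ = δ') : L.card ≤ 4 := by
  classical
  have := Fintype.ofFinite (Sylow 5 G)
  let O : Sylow 5 G → Finset (Sylow 5 G) :=
    fun δ => Finset.univ.filter (fun R => R ∈ orbit (Γ : Subgroup G) δ)
  have hO : ∀ δ ∈ L, (O δ).card = 5 := by
    intro δ hδ
    have hne : Γ ≠ δ := fun h => hΓ (h ▸ hδ)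
    exact (card_filter_mem _).trans (card_orbit_five h21 Γ δ hne)
  have hdisj : ∀ x ∈ L, ∀ y ∈ L, x ≠ y → Disjoint (O x) (O y) := by
    intro x hx y hy hxy
    rw [Finset.disjoint_left]
    intro R hR hR'
    have h1 : R ∈ orbit (Γ : Subgroup G) x := (Finset.mem_filter.mp hR).2
    have h2 : R ∈ orbit (Γ : Subgroup G) y := (Finset.mem_filter.mp hR').2
    have h3 : orbit (Γ : Subgroup G) x = orbit (Γ : Subgroup G) y :=
      (orbit_eq_iff.mpr h1).symm.trans (orbit_eq_iff.mpr h2)
    have h4 : y ∈ orbit (Γ : Subgroup G) x := by rw [h3]; exact mem_orbit_self _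
    obtain ⟨a, ha⟩ := h4
    exact hxy (hsep x hx y hy a.1 a.2 ha)
  have hcard := Finset.card_biUnion hdisj
  have hsum : ∑ u ∈ L, (O u).card = L.card * 5 := by
    rw [Finset.sum_congr rfl hO, Finset.sum_const, smul_eq_mul]
  have hsub : L.biUnion O ⊆ Finset.univ.erase Γ := by
    intro R hR
    obtain ⟨δ, hδ, hRδ⟩ := Finset.mem_biUnion.mp hR
    obtain ⟨a, rfl⟩ := (Finset.mem_filter.mp hRδ).2
    refine Finset.mem_erase.mpr ⟨?_, Finset.mem_univ _⟩
    exact smul_ne_of_ne Γ δ (fun h => hΓ (h ▸ hδ)) a.2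
  have h2 := Finset.card_le_card hsub
  rw [Finset.card_erase_of_mem (Finset.mem_univ _), Finset.card_univ, ← Nat.card_eq_fintype_card, h21] at h2
  omega

omit h21 [IsSimpleGroup G] in
theorem mem_smul_iff {g x : G} {R : Sylow 5 G} :
    x ∈ ((g • R : Sylow 5 G) : Subgroup G) ↔ g⁻¹ * x * g ∈ (R : Subgroup G) := by
  rw [Sylow.coe_subgroup_smul, Subgroup.mem_pointwise_smul_iff_inv_smul_mem]
  rfl

/-- **All Sylow 5-subgroups have order 5.** -/
theorem card_sylow (α : Sylow 5 G) : Nat.card (α : Subgroup G) = 5 := by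
  classical
  have := Fintype.ofFinite (Sylow 5 G)
  obtain ⟨β, hβ⟩ := exists_ne_sylow h21 α
  have h1 := card_eq_five_mul h21 α β hβ.symm
  by_contra hne
  set D : Subgroup G := (α : Subgroup G) ⊓ (β : Subgroup G) with hDdef
  have hD : Nat.card D ≠ 1 := by
    intro h
    rw [h] at h1
    exact hne h1
  have hcard : ∀ R : Sylow 5 G, Nat.card (R : Subgroup G) = Nat.card (α : Subgroup G) := by
    intro R
    rw [Sylow.card_eq_multiplicity, Sylow.card_eq_multiplicity]
  have hinter : ∀ R R' : Sylow 5 G, R ≠ R' →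
      Nat.card ((R : Subgroup G) ⊓ (R' : Subgroup G) : Subgroup G) = Nat.card D := by
    intro R R' h
    have h2 := card_eq_five_mul h21 R R' h
    rw [hcard R] at h2
    omega
  -- `D` is normal in every Sylow subgroup containing it with index 5
  have hnorm : ∀ R R' : Sylow 5 G, R ≠ R' → (R : Subgroup G) ≤
      normalizer (((R : Subgroup G) ⊓ (R' : Subgroup G) : Subgroup G) : Set G) := by
    intro R R' h
    obtain ⟨n, hn⟩ := IsPGroup.iff_card.mp R.isPGroup'
    have h2 := card_eq_five_mul h21 R R' h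
    have hn0 : n ≠ 0 := by
      rintro rfl
      rw [pow_zero] at hn
      omega
    exact SmallSimple.le_normalizer_of_card (by norm_num) hn0 inf_le_left hn (by rw [← hn, h2, mul_comm])
  let L : Finset (Sylow 5 G) := Finset.univ.filter (fun R => D ≤ (R : Subgroup G))
  -- six points in L
  have hL6 : 6 ≤ L.card := by
    let O : Finset (Sylow 5 G) := Finset.univ.filter (fun R => R ∈ orbit (α : Subgroup G) β)
    have hO : O.card = 5 := by
      exact (card_filter_mem _).trans (card_orbit_five h21 α β hβ.symm)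
    have hαO : α ∉ O := by
      intro h
      obtain ⟨a, ha⟩ := (Finset.mem_filter.mp h).2
      exact smul_ne_of_ne α β hβ.symm a.2 ha
    have hsub : insert α O ⊆ L := by
      intro R hR
      rcases Finset.mem_insert.mp hR with rfl | hR
      · exact Finset.mem_filter.mpr ⟨Finset.mem_univ _, inf_le_left⟩
      · obtain ⟨a, rfl⟩ := (Finset.mem_filter.mp hR).2
        refine Finset.mem_filter.mpr ⟨Finset.mem_univ _, ?_⟩
        intro x hx
        show x ∈ (((a : G) • β : Sylow 5 G) : Subgroup G)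
        rw [mem_smul_iff]
        have h4 := hnorm α β hβ.symm (inv_mem a.2)
        have h5 := (mem_set_normalizer_iff.mp h4 x).mp hx
        simp only [inv_inv] at h5
        exact h5.2
    have h2 := Finset.card_le_card hsub
    rw [Finset.card_insert_of_notMem hαO, hO] at h2
    exact h2
  -- a point outside L
  obtain ⟨Γ, hΓ⟩ : ∃ Γ : Sylow 5 G, ¬ D ≤ (Γ : Subgroup G) := by
    by_contra hc
    push Not at hc
    have hD1 : D = ⊥ := by
      rw [eq_bot_iff]
      intro x hx
      have := faithful h21 (g := x) (fun R => smul_self (hc R hx))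
      exact this
    apply hD
    rw [hD1]
    exact Nat.card_unique
  have hΓL : Γ ∉ L := fun h => hΓ (Finset.mem_filter.mp h).2
  have hsep : ∀ δ ∈ L, ∀ δ' ∈ L, ∀ h ∈ (Γ : Subgroup G), h • δ = δ' → δ = δ' := by
    intro δ hδ δ' hδ' h hh hh'
    by_contra hdd
    have hδD : D ≤ (δ : Subgroup G) := (Finset.mem_filter.mp hδ).2
    have hδ'D : D ≤ (δ' : Subgroup G) := (Finset.mem_filter.mp hδ').2
    have hΓδ : Γ ≠ δ := fun hc => hΓL (hc ▸ hδ)
    have hDle : D ≤ (δ : Subgroup G) ⊓ (δ' : Subgroup G) := le_inf hδD hδ'D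
    have hDeq : D = (δ : Subgroup G) ⊓ (δ' : Subgroup G) :=
      Subgroup.eq_of_le_of_card_ge hDle (by rw [hinter δ δ' hdd])
    have hEle : (Γ : Subgroup G) ⊓ (δ : Subgroup G) ≤ (δ : Subgroup G) ⊓ (δ' : Subgroup G) := by
      intro x hx
      refine ⟨hx.2, ?_⟩
      show x ∈ (δ' : Subgroup G)
      rw [← hh', mem_smul_iff]
      have h4 := hnorm Γ δ hΓδ (inv_mem hh)
      have h5 := (mem_set_normalizer_iff.mp h4 x).mp hx
      simp only [inv_inv] at h5
      exact h5.2
    have hEeq : (Γ : Subgroup G) ⊓ (δ : Subgroup G) = (δ : Subgroup G) ⊓ (δ' : Subgroup G) :=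
      Subgroup.eq_of_le_of_card_ge hEle (by rw [hinter δ δ' hdd, hinter Γ δ hΓδ])
    apply hΓ
    rw [hDeq, ← hEeq]
    exact inf_le_left
  have := sep_card_le h21 Γ L hΓL hsep
  omega

end Main

end Cfsg.Agent.Lib.Small.Syl21
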