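import Mathlib
import Cfsg.Agent.Lib.Small.BrauerFour
import Cfsg.Agent.Lib.Small.Syl21a

/-! Small-index lemmas: `n_p = 2 p + 1` forces a small centralizer; sections and defect zero. -/

set_option autoImplicit false
set_option linter.unusedSectionVars false

namespace Cfsg.Agent.Lib.Small.BD

open Cfsg Cfsg.Agent.Lib.Char Cfsg.Agent.Lib.Blocks Subgroup MulAction
open scoped ComplexConjugate

universe u

variable {G : Type u} [Group G] [Finite G]

section Orbits

variable {p : ℕ} [hp : Fact p.Prime]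

theorem sylow_smul_self {g : G} {R : Sylow p G} (hg : g ∈ (R : Subgroup G)) : g • R = R := by
  rw [Sylow.smul_eq_iff_mem_normalizer]
  exact Subgroup.le_normalizer hg

theorem sylow_smul_of_centralizer (P : Sylow p G) {g : G} (hg : g ∈ centralizer ((P : Subgroup G) : Set G)) : g • P = P := by
  rw [Sylow.smul_eq_iff_mem_normalizer]
  exact Subgroup.centralizer_le_normalizer _ hg

theorem sylow_eq_of_fix (P Q : Sylow p G) (hP : Nat.card (P : Subgroup G) = p) {u : G} (hu : u ∈ (P : Subgroup G)) (hu1 : u ≠ 1)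
    (hfix : u • Q = Q) : P = Q := by
  have h1 : u ∈ (Q : Subgroup G) :=
    SmallSimple.mem_of_mem_normalizer_sylow P Q hu (Sylow.smul_eq_iff_mem_normalizer.mp hfix)
  have h2 : (P : Subgroup G) ≤ (Q : Subgroup G) := by
    intro x hx
    have h4 : (⟨x, hx⟩ : (P : Subgroup G)) ∈ Subgroup.zpowers (⟨u, hu⟩ : (P : Subgroup G)) :=
      mem_zpowers_of_prime_card hP (fun e => hu1 (congrArg Subtype.val e))
    obtain ⟨k, hk⟩ := Subgroup.mem_zpowers_iff.mp h4
    have h5 : u ^ k = x := by
      have := congrArg Subtype.val hk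
      simpa using this
    rw [← h5]
    exact zpow_mem h1 k
  apply Sylow.ext
  exact P.3 Q.2 h2 |>.symm

/-- Commuting elements agree on a point for all powers. -/
theorem fix_of_eq_smul (P Q : Sylow p G) (hP : Nat.card (P : Subgroup G) = p) {g x : G}
    (hg : g ∈ centralizer ((P : Subgroup G) : Set G)) (hgp : ¬ p ∣ orderOf g) (hx : x ∈ (P : Subgroup G)) (h : g • Q = x • Q) : g • Q = Q := by
  by_cases hQ : P = Q
  · subst hQ
    exact sylow_smul_of_centralizer P hg
  by_cases hx1 : x = 1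
  · rw [h, hx1, one_smul]
  exfalso
  have hcomm : Commute x g := (mem_centralizer_iff.mp hg x hx)
  have hpow : ∀ k : ℕ, g ^ k • Q = x ^ k • Q := by
    intro k
    induction k with
    | zero => simp
    | succ k ih =>
      rw [pow_succ, mul_smul, h, ← mul_smul, (hcomm.symm.pow_left k).eq, mul_smul, ih, ← mul_smul, ← pow_succ']
  have h1 := hpow (orderOf g)
  rw [pow_orderOf_eq_one, one_smul] at h1
  have hord : orderOf x = p := by
    have h2 : orderOf x ∣ p := by
      have h3 := orderOf_dvd_natCard (⟨x, hx⟩ : (P : Subgroup G))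
      rwa [Subgroup.orderOf_mk, hP] at h3
    rcases (Nat.dvd_prime hp.out).mp h2 with h3 | h3
    · exact (hx1 (orderOf_eq_one_iff.mp h3)).elim
    · exact h3
  have hu1 : x ^ orderOf g ≠ 1 := by
    intro h4
    have h5 := orderOf_dvd_of_pow_eq_one h4
    rw [hord] at h5
    exact hgp h5
  exact hQ (sylow_eq_of_fix P Q hP (pow_mem hx _) hu1 h1.symm)

theorem card_orbit_sylow_of_ne (P Q : Sylow p G) (hP : Nat.card (P : Subgroup G) = p) (hne : P ≠ Q) :
    Nat.card (orbit (P : Subgroup G) Q) = p := by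
  classical
  have h1 := Cfsg.Agent.Lib.Small.Syl21.card_orbit_mul (H := (P : Subgroup G)) Q
  rw [hP] at h1
  have h2 : Nat.card (stabilizer (P : Subgroup G) Q) = 1 := by
    rw [Nat.card_eq_one_iff_unique]
    refine ⟨⟨?_⟩, ⟨1, one_mem _⟩⟩
    rintro ⟨a, ha⟩ ⟨b, hb⟩
    have key : ∀ a ∈ stabilizer (P : Subgroup G) Q, a = 1 := by
      intro a ha
      by_contra ha1
      have h3 : ((a : (P : Subgroup G)) : G) • Q = Q := ha
      exact hne (sylow_eq_of_fix P Q hP a.2 (fun e => ha1 (Subtype.ext e)) h3)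
    rw [Subtype.mk.injEq, key a ha, key b hb]
  rwa [h2, mul_one] at h1

theorem orbit_trichotomy (P Q R : Sylow p G) (hP : Nat.card (P : Subgroup G) = p) (h : Nat.card (Sylow p G) = 2 * p + 1)
    (hQ : P ≠ Q) (hR : P ≠ R) (hRQ : R ∉ orbit (P : Subgroup G) Q) (T : Sylow p G) :
    T = P ∨ T ∈ orbit (P : Subgroup G) Q ∨ T ∈ orbit (P : Subgroup G) R := by
  classical
  have hA : (orbit (P : Subgroup G) Q).ncard = p := by
    rw [← Nat.card_coe_set_eq]
    exact card_orbit_sylow_of_ne P Q hP hQ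
  have hB : (orbit (P : Subgroup G) R).ncard = p := by
    rw [← Nat.card_coe_set_eq]
    exact card_orbit_sylow_of_ne P R hP hR
  have hPA : ∀ {S : Sylow p G}, P ≠ S → P ∉ orbit (P : Subgroup G) S := by
    intro S hS hmem
    obtain ⟨x, hx⟩ := hmem
    apply hS
    have h2 : ((x : (P : Subgroup G)) : G) • S = P := hx
    have h3 : S = P := calc
      S = ((x : (P : Subgroup G)) : G)⁻¹ • (((x : (P : Subgroup G)) : G) • S) := (inv_smul_smul _ _).symm
      _ = ((x : (P : Subgroup G)) : G)⁻¹ • P := by rw [h2]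
      _ = P := sylow_smul_self (inv_mem x.2)
    exact h3.symm
  have hdisj : Disjoint (orbit (P : Subgroup G) Q) (orbit (P : Subgroup G) R) := by
    rw [Set.disjoint_left]
    intro a ha hb
    apply hRQ
    have h1 : orbit (P : Subgroup G) R = orbit (P : Subgroup G) Q := by
      exact (orbit_eq_iff.mpr hb).symm.trans (orbit_eq_iff.mpr ha)
    rw [← h1]
    exact mem_orbit_self R
  have hcard : ((insert P (orbit (P : Subgroup G) Q ∪ orbit (P : Subgroup G) R)) : Set (Sylow p G)).ncard = 2 * p + 1 := by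
    rw [Set.ncard_insert_of_notMem, Set.ncard_union_eq hdisj, hA, hB]
    · ring
    · rintro (h1 | h1)
      · exact hPA hQ h1
      · exact hPA hR h1
  have huniv : (insert P (orbit (P : Subgroup G) Q ∪ orbit (P : Subgroup G) R) : Set (Sylow p G)) = Set.univ := by
    apply Set.eq_of_subset_of_ncard_le (Set.subset_univ _)
    rw [hcard, Set.ncard_univ, h]
  have hT : T ∈ (insert P (orbit (P : Subgroup G) Q ∪ orbit (P : Subgroup G) R) : Set (Sylow p G)) := by
    rw [huniv]
    trivial
  exact hT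

theorem sylow_faithful [IsSimpleGroup G] (h : 1 < Nat.card (Sylow p G)) {g : G} (hg : ∀ R : Sylow p G, g • R = R) : g = 1 := by
  rcases (MulAction.toPermHom G (Sylow p G)).normal_ker.eq_bot_or_eq_top with h1 | h1
  · have h2 : g ∈ (MulAction.toPermHom G (Sylow p G)).ker := by
      rw [MonoidHom.mem_ker]
      ext R : 1
      exact hg R
    rw [h1] at h2
    exact h2
  · exfalso
    haveI : Nontrivial (Sylow p G) := Finite.one_lt_card_iff_nontrivial.mp h
    obtain ⟨P⟩ : Nonempty (Sylow p G) := inferInstance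
    obtain ⟨Q, hQ⟩ := exists_ne P
    obtain ⟨x, hx⟩ := MulAction.exists_smul_eq G P Q
    have h2 : x ∈ (MulAction.toPermHom G (Sylow p G)).ker := by rw [h1]; trivial
    rw [MonoidHom.mem_ker] at h2
    have h3 : x • P = P := congrArg (fun f : Equiv.Perm (Sylow p G) => f P) h2
    exact hQ (hx.symm.trans h3)

/-- Fixing one point off `P` fixes all. -/
theorem eq_one_of_fix [IsSimpleGroup G] (P Q : Sylow p G) (hP : Nat.card (P : Subgroup G) = p) (h : Nat.card (Sylow p G) = 2 * p + 1)
    (hQ : P ≠ Q) {g : G} (hg : g ∈ centralizer ((P : Subgroup G) : Set G)) (hgp : ¬ p ∣ orderOf g) (hfix : g • Q = Q) : g = 1 := by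
  have hfO : ∀ S ∈ orbit (P : Subgroup G) Q, g • S = S := by
    rintro S ⟨x, rfl⟩
    have hcomm : Commute (x : G) g := (mem_centralizer_iff.mp hg x x.2)
    show g • ((x : G) • Q) = (x : G) • Q
    rw [← mul_smul, ← hcomm.eq, mul_smul, hfix]
  apply sylow_faithful (p := p) (by rw [h]; have := hp.out.pos; omega)
  intro R
  by_cases hRP : R = P
  · rw [hRP]
    exact sylow_smul_of_centralizer P hg
  by_cases hRQ : R ∈ orbit (P : Subgroup G) Q
  · exact hfO R hRQ
  have hPR : P ≠ R := fun e => hRP e.symm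
  rcases orbit_trichotomy P Q R hP h hQ hPR hRQ (g • R) with h1 | h1 | h1
  · exfalso
    apply hRP
    have h2 := sylow_smul_of_centralizer P hg
    rw [← h2] at h1
    exact smul_left_cancel g h1
  · exfalso
    apply hRQ
    have h2 := hfO _ h1
    rw [smul_left_cancel_iff] at h2
    rwa [← h2]
  · obtain ⟨x, hx⟩ := h1
    exact fix_of_eq_smul P R hP hg hgp x.2 hx.symm

/-- A `p'`-subgroup centralizing `P` has at most two elements when `n_p = 2 p + 1`. -/
theorem card_le_two_of_two_orbits [IsSimpleGroup G] (h : Nat.card (Sylow p G) = 2 * p + 1)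
    (P : Sylow p G) (hP : Nat.card (P : Subgroup G) = p) (K : Subgroup G) (hK : K ≤ centralizer ((P : Subgroup G) : Set G))
    (hKp : ¬ p ∣ Nat.card K) : Nat.card K ≤ 2 := by
  classical
  have hn : 1 < Nat.card (Sylow p G) := by
    rw [h]
    have := hp.out.pos
    omega
  haveI : Nontrivial (Sylow p G) := Finite.one_lt_card_iff_nontrivial.mp hn
  obtain ⟨Q, hQ⟩ := exists_ne P
  have hQ' : P ≠ Q := fun e => hQ e.symm
  have hpK : ∀ g ∈ K, ¬ p ∣ orderOf g := by
    intro g hg hd
    apply hKp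
    have h1 := orderOf_dvd_natCard (⟨g, hg⟩ : K)
    rw [Subgroup.orderOf_mk] at h1
    exact hd.trans h1
  have hone : ∀ g ∈ K, g • Q ∈ orbit (P : Subgroup G) Q → g = 1 := by
    intro g hg hmem
    obtain ⟨x, hx⟩ := hmem
    exact eq_one_of_fix P Q hP h hQ' (hK hg) (hpK g hg) (fix_of_eq_smul P Q hP (hK hg) (hpK g hg) x.2 hx.symm)
  -- two nontrivial elements coincide
  have huniq : ∀ g ∈ K, ∀ k ∈ K, g ≠ 1 → k ≠ 1 → g = k := by
    intro g hg k hk hg1 hk1
    have hgO : g • Q ∉ orbit (P : Subgroup G) Q := fun hm => hg1 (hone g hg hm)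
    have hkO : k • Q ∉ orbit (P : Subgroup G) Q := fun hm => hk1 (hone k hk hm)
    have hPne : P ≠ g • Q := by
      intro e
      apply hQ'
      have h2 : g⁻¹ • P = P := sylow_smul_of_centralizer P (hK (inv_mem hg))
      have h3 : g⁻¹ • (g • Q) = Q := inv_smul_smul _ _
      rw [← e, h2] at h3
      exact h3
    rcases orbit_trichotomy P Q (g • Q) hP h hQ' hPne hgO (k • Q) with h1 | h1 | h1
    · exfalso
      apply hk1
      apply hone k hk
      exfalso
      apply hQ'
      have h2 : k⁻¹ • P = P := sylow_smul_of_centralizer P (hK (inv_mem hk))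
      have h3 : k⁻¹ • (k • Q) = Q := inv_smul_smul _ _
      rw [h1, h2] at h3
      exact h3
    · exact (hkO h1).elim
    · obtain ⟨x, hx⟩ := h1
      have hx' : ((x : (P : Subgroup G)) : G) • (g • Q) = k • Q := hx
      have hcomm : Commute ((x : (P : Subgroup G)) : G) g := mem_centralizer_iff.mp (hK hg) x x.2
      have h2 : (g⁻¹ * k) • Q = ((x : (P : Subgroup G)) : G) • Q := by
        rw [mul_smul, ← hx', ← mul_smul ((x : (P : Subgroup G)) : G), hcomm.eq, mul_smul, inv_smul_smul]
      have h3 := hone (g⁻¹ * k) (mul_mem (inv_mem hg) hk) ⟨x, h2.symm⟩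
      exact (eq_of_inv_mul_eq_one h3)
  by_contra hlt
  haveI := Fintype.ofFinite K
  have h3 : 2 < (Finset.univ : Finset K).card := by
    rw [Finset.card_univ, ← Nat.card_eq_fintype_card]
    omega
  obtain ⟨a, -, b, -, c, -, hab, hac, hbc⟩ := Finset.two_lt_card.mp h3
  have hne : ∀ {u v : K}, u ≠ v → (u : G) ≠ (v : G) := fun h e => h (Subtype.ext e)
  by_cases ha1 : (a : G) = 1
  · have hb1 : (b : G) ≠ 1 := fun e => hne hab (ha1.trans e.symm)
    have hc1 : (c : G) ≠ 1 := fun e => hne hac (ha1.trans e.symm)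
    exact hne hbc (huniq b b.2 c c.2 hb1 hc1)
  · by_cases hb1 : (b : G) = 1
    · have hc1 : (c : G) ≠ 1 := fun e => hne hbc (hb1.trans e.symm)
      exact hne hac (huniq a a.2 c c.2 ha1 hc1)
    · exact hne hab (huniq a a.2 b b.2 ha1 hb1)

end Orbits

/-- Uniqueness of the involution when a subgroup of odd index-two order is central. -/
theorem involution_unique (C P : Subgroup G) (hPC : P ≤ C) (hC : C ≤ centralizer (P : Set G))
    (hidx : Nat.card C = 2 * Nat.card P) (hodd : Odd (Nat.card P)) {a b : G} (ha : a ∈ C) (hb : b ∈ C)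
    (ha2 : orderOf a = 2) (hb2 : orderOf b = 2) : a = b := by
  have hindex : (P.subgroupOf C).index = 2 := by
    have h1 := Subgroup.card_mul_index (P.subgroupOf C)
    rw [Nat.card_congr (Subgroup.subgroupOfEquivOfLe hPC).toEquiv, hidx] at h1
    have hpos : 0 < Nat.card P := Nat.card_pos
    have h2 : Nat.card P * (P.subgroupOf C).index = Nat.card P * 2 := by rw [h1]; ring
    exact Nat.eq_of_mul_eq_mul_left hpos h2
  have hnot : ∀ c : G, orderOf c = 2 → c ∉ P := by
    intro c hc hcP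
    have h1 := orderOf_dvd_natCard (⟨c, hcP⟩ : P)
    rw [Subgroup.orderOf_mk, hc] at h1
    rcases hodd with ⟨k, hk⟩
    omega
  have hmul : a * b ∈ P := by
    have h1 := Subgroup.mul_mem_iff_of_index_two hindex (a := (⟨a, ha⟩ : C)) (b := (⟨b, hb⟩ : C))
    have h2 : (⟨a * b, mul_mem ha hb⟩ : C) ∈ P.subgroupOf C ↔ (((⟨a, ha⟩ : C) ∈ P.subgroupOf C) ↔ ((⟨b, hb⟩ : C) ∈ P.subgroupOf C)) := h1
    rw [Subgroup.mem_subgroupOf, Subgroup.mem_subgroupOf, Subgroup.mem_subgroupOf] at h2
    exact h2.mpr (iff_of_false (hnot a ha2) (hnot b hb2))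
  have ha1 : a * a = 1 := by rw [← pow_two, ← ha2]; exact pow_orderOf_eq_one a
  have hb1 : b * b = 1 := by rw [← pow_two, ← hb2]; exact pow_orderOf_eq_one b
  have hcomm : (a * b) * a = a * (a * b) := mem_centralizer_iff.mp (hC ha) _ hmul
  have hsq : (a * b) * (a * b) = 1 := by
    calc (a * b) * (a * b) = ((a * b) * a) * b := by group
      _ = (a * (a * b)) * b := by rw [hcomm]
      _ = (a * a) * (b * b) := by group
      _ = 1 := by rw [ha1, hb1, mul_one]
  have h1 : orderOf (a * b) ∣ 2 := orderOf_dvd_of_pow_eq_one (by rw [pow_two]; exact hsq)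
  have h2 : orderOf (a * b) ∣ Nat.card P := by
    have h3 := orderOf_dvd_natCard (⟨a * b, hmul⟩ : P)
    rwa [Subgroup.orderOf_mk] at h3
  have h3 : orderOf (a * b) = 1 := by
    rcases (Nat.dvd_prime Nat.prime_two).mp h1 with h4 | h4
    · exact h4
    · rw [h4] at h2
      rcases hodd with ⟨k, hk⟩
      omega
  have h4 : a * b = 1 := orderOf_eq_one_iff.mp h3
  calc a = a * (b * b) := by rw [hb1, mul_one]
    _ = (a * b) * b := by group
    _ = b := by rw [h4, one_mul]

/-- The normalizer of `P` centralizes the involution of `C(P)` when `|C(P)| = 2 |P|`. -/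
theorem normalizer_dvd_centralizer {P : Subgroup G} (hodd : Odd (Nat.card P)) (hcomm : ∀ x ∈ P, ∀ y ∈ P, x * y = y * x)
    (hidx : Nat.card (centralizer (P : Set G)) = 2 * Nat.card P) :
    ∃ z : G, orderOf z = 2 ∧ Nat.card (normalizer (P : Set G)) ∣ Nat.card (centralizer ({z} : Set G)) := by
  have hPC : P ≤ centralizer (P : Set G) := fun x hx => mem_centralizer_iff.mpr (fun y hy => hcomm y hy x hx)
  haveI : Fact (Nat.Prime 2) := ⟨Nat.prime_two⟩
  obtain ⟨z, hz⟩ := exists_prime_orderOf_dvd_card' (G := centralizer (P : Set G)) 2 (by rw [hidx]; exact dvd_mul_right _ _)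
  have hz2 : orderOf (z : G) = 2 := by rw [Subgroup.orderOf_coe, hz]
  refine ⟨z, hz2, Subgroup.card_dvd_of_le ?_⟩
  intro g hg
  rw [mem_centralizer_singleton_iff]
  have hconj : g * (z : G) * g⁻¹ ∈ centralizer (P : Set G) := by
    rw [mem_centralizer_iff]
    intro y hy
    have h1 : g⁻¹ * y * g ∈ P := by
      have h2 := (mem_normalizer_iff.mp hg (g⁻¹ * y * g)).mpr (by
        have : g * (g⁻¹ * y * g) * g⁻¹ = y := by group
        rw [this]
        exact hy)
      exact h2
    have h3 : (g⁻¹ * y * g) * (z : G) = (z : G) * (g⁻¹ * y * g) := mem_centralizer_iff.mp z.2 _ h1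
    calc y * (g * (z : G) * g⁻¹) = g * ((g⁻¹ * y * g) * (z : G)) * g⁻¹ := by group
      _ = g * ((z : G) * (g⁻¹ * y * g)) * g⁻¹ := by rw [h3]
      _ = g * (z : G) * g⁻¹ * y := by group
  have hord : orderOf (g * (z : G) * g⁻¹) = 2 := by
    have h1 : g * (z : G) * g⁻¹ = (MulAut.conj g) (z : G) := rfl
    rw [h1, MulEquiv.orderOf_eq, hz2]
  have h1 := involution_unique _ P hPC le_rfl hidx hodd hconj z.2 hord hz2
  calc g * (z : G) = (g * (z : G) * g⁻¹) * g := by group
    _ = (z : G) * g := by rw [h1]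

theorem pow_factorization_dvd_of_sq {q N x : ℕ} (hq : q.Prime) (hN : N ≠ 0) (h : ¬ q ^ 2 ∣ N) (hd : q ∣ x) : q ^ N.factorization q ∣ x := by
  have h1 : N.factorization q < 2 := by
    by_contra hc
    exact h ((hq.pow_dvd_iff_le_factorization hN).mpr (by omega))
  interval_cases hf : N.factorization q
  · simp
  · simpa using hd

variable [Fintype G]

/-- A section value cannot be nonzero on a character of `q`-defect zero when `q` divides `|C(P)|`. -/
theorem false_of_section_defect {p q : ℕ} [hp : Fact p.Prime] [hq : Fact q.Prime] (hpq : p ≠ q) (P : Subgroup G) (hP : Nat.card P = p)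
    (χ : IrrCharacter G) {a : ℤ} (ha : a ≠ 0) (hsec : ∀ z y : G, IsPPart p z y → y ∈ P → y ≠ 1 → (χ : G → ℂ) z = (a : ℂ))
    (hqc : q ∣ Nat.card (centralizer (P : Set G))) (hdef : q ^ (Nat.card G).factorization q ∣ charDegree (χ : G → ℂ)) : False := by
  obtain ⟨w, hw⟩ := exists_prime_orderOf_dvd_card' q hqc
  have hw' : orderOf (w : G) = q := by rw [Subgroup.orderOf_coe, hw]
  have hne : Nontrivial P := by
    apply Finite.one_lt_card_iff_nontrivial.mp
    rw [hP]
    exact hp.out.one_lt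
  obtain ⟨y, hy⟩ := exists_ne (1 : P)
  have hy1 : (y : G) ≠ 1 := fun e => hy (Subtype.ext e)
  have hyo : orderOf (y : G) = p := by
    have h2 : orderOf (y : G) ∣ p := by
      have h3 := orderOf_dvd_natCard y
      rwa [← Subgroup.orderOf_coe, hP] at h3
    rcases (Nat.dvd_prime hp.out).mp h2 with h3 | h3
    · exact (hy1 (orderOf_eq_one_iff.mp h3)).elim
    · exact h3
  have hcomm : Commute (y : G) (w : G) := mem_centralizer_iff.mp w.2 y y.2
  have hpart : IsPPart p ((y : G) * (w : G)) (y : G) := by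
    refine Cfsg.Agent.Lib.Blocks.isPPart_mul hcomm (k := 1) (by rw [hyo, pow_one]) ?_
    rw [hw']
    intro h
    exact hpq ((Nat.prime_dvd_prime_iff_eq hp.out hq.out).mp h)
  have h1 := hsec _ _ hpart y.2 hy1
  have hdvd : q ∣ orderOf ((y : G) * (w : G)) := by
    have hcop : Nat.Coprime (orderOf (y : G)) (orderOf (w : G)) := by
      rw [hyo, hw']
      exact (Nat.coprime_primes hp.out hq.out).mpr hpq
    rw [hcomm.orderOf_mul_eq_mul_orderOf_of_coprime hcop, hw']
    exact dvd_mul_left _ _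
  have h2 := apply_eq_zero_of_defect_zero χ.2 hq.out hdef hdvd
  rw [h2] at h1
  exact ha (by exact_mod_cast h1.symm)

/-- Sum of squares at a fully conjugate element of `P`. -/
theorem sq_le_of_full {p : ℕ} [hp : Fact p.Prime] (P : Sylow p G) (hP : Nat.card (P : Subgroup G) = p)
    (hCN : (centralizer ((P : Subgroup G) : Set G)).relIndex (normalizer ((P : Subgroup G) : Set G)) = p - 1)
    (χ : IrrCharacter G) : ∃ a : ℤ, (p : ℤ) ∣ (charDegree (χ : G → ℂ) : ℤ) - a ∧ a ^ 2 ≤ (Nat.card (centralizer ((P : Subgroup G) : Set G)) : ℤ) := by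
  classical
  have hne : Nontrivial (P : Subgroup G) := by
    apply Finite.one_lt_card_iff_nontrivial.mp
    rw [hP]
    exact hp.out.one_lt
  obtain ⟨y, hy⟩ := exists_ne (1 : (P : Subgroup G))
  have hy1 : (y : G) ≠ 1 := fun e => hy (Subtype.ext e)
  have hval : ∀ ψ : IrrCharacter G, ∃ b : ℤ, ∀ y' ∈ (P : Subgroup G), y' ≠ 1 → (ψ : G → ℂ) y' = (b : ℂ) := by
    intro ψ
    have hconst : ∀ y' ∈ (P : Subgroup G), y' ≠ 1 → (ψ : G → ℂ) y' = (ψ : G → ℂ) y := by
      intro y' hy' hy1'
      obtain ⟨c, hc⟩ := isConj_iff.mp (isConj_of_full P hP hCN y.2 hy1 hy' hy1')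
      rw [← hc, IsCharacter.isClassFunction (IsIrrCharacter.isCharacter ψ.2)]
    obtain ⟨b, hb⟩ := const_value_int (P : Subgroup G) hP ψ _ hconst
    exact ⟨b, fun y' hy' hy1' => by rw [hconst y' hy' hy1', hb]⟩
  choose τ hτ using hval
  refine ⟨τ χ, dvd_degree_sub (P : Subgroup G) hP χ (τ χ) (hτ χ), ?_⟩
  have h1 := sum_irr_mul_conj_of_isConj (IsConj.refl (y : G))
  rw [centralizer_singleton_eq (p := p) (P : Subgroup G) hP y.2 hy1] at h1
  simp only [hτ _ (y : G) y.2 hy1, map_intCast] at h1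
  have h2 : (((∑ ψ : IrrCharacter G, τ ψ * τ ψ : ℤ)) : ℂ) = (((Nat.card (centralizer ((P : Subgroup G) : Set G)) : ℕ) : ℤ) : ℂ) := by
    push_cast
    exact h1
  have h3 : ∑ ψ : IrrCharacter G, τ ψ * τ ψ = (Nat.card (centralizer ((P : Subgroup G) : Set G)) : ℤ) := Int.cast_injective h2
  rw [← h3, pow_two]
  exact Finset.single_le_sum (f := fun ψ => τ ψ * τ ψ) (fun ψ _ => mul_self_nonneg _) (Finset.mem_univ χ)

end Cfsg.Agent.Lib.Small.BD
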