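import Mathlib
import Cfsg.Agent.Lib.Small.BrauerOrbit
import Cfsg.Agent.Lib.Char.Ind
import Cfsg.Agent.Lib.SmallSimple.Intersect

/-! Characters induced from linear characters of `N_G(P)/P`, `|P| = p`, `C_G(P) = P`. -/

set_option autoImplicit false
set_option linter.unusedSectionVars false
set_option linter.unusedVariables false

namespace Cfsg.Agent.Lib.Small.BD

open Cfsg Cfsg.Agent.Lib.Char Cfsg.Agent.Lib.Blocks Subgroup
open scoped ComplexConjugate

universe u

variable {G : Type u} [Group G] [Fintype G]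

section Ind

variable (P : Subgroup G)

/-- The quotient `N/P`. -/
abbrev NQ : Type u := normalizer (P : Set G) ⧸ (P.subgroupOf (normalizer (P : Set G)))

/-- The map to the quotient. -/
noncomputable abbrev toNQ : normalizer (P : Set G) →* NQ P := QuotientGroup.mk' _

/-- Linear function on the normalizer. -/
noncomputable def linN (ψ : NQ P →* ℂˣ) (g : normalizer (P : Set G)) : ℂ := ((ψ (toNQ P g) : ℂˣ) : ℂ)

/-- The induced function. -/
noncomputable def indL (ψ : NQ P →* ℂˣ) : G → ℂ := indFun (normalizer (P : Set G)) (linN P ψ)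

theorem linN_isIrr (ψ : NQ P →* ℂˣ) : IsIrrCharacter (normalizer (P : Set G)) (linN P ψ) :=
  isIrrCharacter_of_monoidHom (ψ.comp (toNQ P))

theorem isCharacter_indL (ψ : NQ P →* ℂˣ) : IsCharacter G (indL P ψ) :=
  isCharacter_indFun _ (IsIrrCharacter.isCharacter (linN_isIrr P ψ))

theorem indL_apply_one (ψ : NQ P →* ℂˣ) : indL P ψ 1 = ((normalizer (P : Set G)).index : ℂ) := by
  classical
  letI : Fintype (normalizer (P : Set G)) := Fintype.ofFinite _
  rw [indL, indFun_one]
  have h : linN P ψ 1 = 1 := by simp [linN]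
  rw [h, mul_one]

theorem toNQ_eq_one_iff {g : normalizer (P : Set G)} : toNQ P g = 1 ↔ (g : G) ∈ P := by
  simp [toNQ, QuotientGroup.eq_one_iff, Subgroup.mem_subgroupOf]

theorem card_NQ_mul : Nat.card (NQ P) * Nat.card P = Nat.card (normalizer (P : Set G)) := by
  have h1 := Subgroup.index_mul_card (P.subgroupOf (normalizer (P : Set G)))
  have h2 : Nat.card (P.subgroupOf (normalizer (P : Set G))) = Nat.card P :=
    Nat.card_congr (Subgroup.subgroupOfEquivOfLe (Subgroup.le_normalizer)).toEquiv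
  rw [h2] at h1
  rw [← h1]
  rfl

/-- The inner product with an induced function. -/
theorem classInner_indL [Fintype (normalizer (P : Set G))] (ψ : NQ P →* ℂˣ) {χ : G → ℂ} (hχ : IsClassFunction G χ) :
    classInner (indL P ψ) χ = (Nat.card (normalizer (P : Set G)) : ℂ)⁻¹ *
      ∑ g : normalizer (P : Set G), linN P ψ g * conj (χ g) :=
  classInner_indFun_left _ _ χ hχ

variable {P}

/-- The coset sums. -/
theorem sum_coset [Fintype (P : Subgroup G)] [Fintype (NQ P →* ℂˣ)]
    (hcomm : ∀ a b : NQ P, a * b = b * a) {χ : G → ℂ} (hχ : IsClassFunction G χ)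
    (h : normalizer (P : Set G)) :
    ∑ ψ : NQ P →* ℂˣ, conj (linN P ψ h) * classInner (indL P ψ) χ =
      (Nat.card P : ℂ)⁻¹ * ∑ y : P, conj (χ ((h : G) * y)) := by
  classical
  letI : Fintype (normalizer (P : Set G)) := Fintype.ofFinite _
  letI : Fintype (NQ P) := Fintype.ofFinite _
  have hN : (Nat.card (normalizer (P : Set G)) : ℂ) ≠ 0 := by exact_mod_cast Nat.card_pos.ne'
  have hP : (Nat.card P : ℂ) ≠ 0 := by exact_mod_cast Nat.card_pos.ne'
  have hA : (Nat.card (NQ P) : ℂ) ≠ 0 := by exact_mod_cast Nat.card_pos.ne'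
  have hcard : (Nat.card (NQ P) : ℂ) * (Nat.card P : ℂ) = (Nat.card (normalizer (P : Set G)) : ℂ) := by
    exact_mod_cast card_NQ_mul P
  simp only [classInner_indL P _ hχ]
  have h1 : ∀ ψ : NQ P →* ℂˣ, conj (linN P ψ h) * ((Nat.card (normalizer (P : Set G)) : ℂ)⁻¹ *
      ∑ g : normalizer (P : Set G), linN P ψ g * conj (χ g)) =
      (Nat.card (normalizer (P : Set G)) : ℂ)⁻¹ * ∑ g : normalizer (P : Set G),
        linVal ψ ((toNQ P h)⁻¹ * toNQ P g) * conj (χ g) := by
    intro ψ
    rw [mul_left_comm, Finset.mul_sum]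
    congr 1
    refine Finset.sum_congr rfl fun g _ => ?_
    rw [linVal_mul, linVal_inv]
    simp only [linN, linVal]
    ring
  simp only [h1]
  rw [← Finset.mul_sum, Finset.sum_comm]
  have h2 : ∀ g : normalizer (P : Set G), ∑ ψ : NQ P →* ℂˣ, linVal ψ ((toNQ P h)⁻¹ * toNQ P g) * conj (χ g) =
      if (h : G)⁻¹ * g ∈ P then (Nat.card (NQ P) : ℂ) * conj (χ g) else 0 := by
    intro g
    rw [← Finset.sum_mul, sum_dual_apply hcomm]
    have h3 : (toNQ P h)⁻¹ * toNQ P g = 1 ↔ (h : G)⁻¹ * g ∈ P := by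
      rw [← map_inv, ← map_mul, toNQ_eq_one_iff]
      simp
    by_cases h4 : (h : G)⁻¹ * g ∈ P
    · rw [if_pos (h3.mpr h4), if_pos h4]
    · rw [if_neg (fun e => h4 (h3.mp e)), if_neg h4, zero_mul]
  simp only [h2]
  rw [← Finset.sum_filter]
  have h5 : ∑ g ∈ Finset.univ.filter (fun g : normalizer (P : Set G) => (h : G)⁻¹ * g ∈ P),
      (Nat.card (NQ P) : ℂ) * conj (χ g) = ∑ y : P, (Nat.card (NQ P) : ℂ) * conj (χ ((h : G) * y)) := by
    symm
    refine Finset.sum_bij (fun (y : P) _ => h * ⟨(y : G), Subgroup.le_normalizer y.2⟩) ?_ ?_ ?_ ?_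
    · intro y _
      refine Finset.mem_filter.mpr ⟨Finset.mem_univ _, ?_⟩
      simp
    · intro y _ y' _ e
      have h6 := congrArg Subtype.val (mul_left_cancel e)
      exact Subtype.ext h6
    · intro g hg
      have hg' := (Finset.mem_filter.mp hg).2
      refine ⟨⟨(h : G)⁻¹ * g, hg'⟩, Finset.mem_univ _, ?_⟩
      apply Subtype.ext
      simp
    · intro y _
      simp
  rw [h5, ← Finset.mul_sum, ← mul_assoc, ← hcard]
  field_simp

/-- Conjugates in a coset of `P`. -/
theorem isConj_mul_of_notMem {p : ℕ} [hp : Fact p.Prime] (hP : Nat.card P = p)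
    (hC : ∀ x, x ∈ centralizer (P : Set G) → x ∈ P) {h : G} (hh : h ∈ normalizer (P : Set G)) (hhP : h ∉ P)
    {y : G} (hy : y ∈ P) : IsConj h (h * y) := by
  classical
  have hcomm := comm_of_prime (p := p) P hP
  have hmem : ∀ w ∈ P, h⁻¹ * w * h ∈ P := by
    intro w hw
    have h1 := (mem_normalizer_iff.mp (inv_mem hh) w).mp hw
    simpa using h1
  let f : P → P := fun w => ⟨h⁻¹ * w * h * (w : G)⁻¹, mul_mem (hmem _ w.2) (inv_mem w.2)⟩
  have hinj : Function.Injective f := by
    intro w w' e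
    have e1 : h⁻¹ * (w : G) * h * (w : G)⁻¹ = h⁻¹ * (w' : G) * h * (w' : G)⁻¹ := congrArg Subtype.val e
    -- `u = w'⁻¹ w` commutes with `h`
    set u : G := (w' : G)⁻¹ * w with hu
    have huP : u ∈ P := mul_mem (inv_mem w'.2) w.2
    have hu2 : h⁻¹ * u * h = u := by
      have h2 : h⁻¹ * u * h = (h⁻¹ * (w' : G)⁻¹ * h) * (h⁻¹ * w * h) := by
        rw [hu]; group
      have h3 : h⁻¹ * (w : G) * h = h⁻¹ * (w' : G) * h * (w' : G)⁻¹ * w := by
        rw [← e1]; group
      rw [h2, h3]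
      have h4 := hcomm _ (hmem _ w'.2) _ (inv_mem w'.2)
      have h5 : h⁻¹ * (w' : G)⁻¹ * h = (h⁻¹ * w' * h)⁻¹ := by group
      rw [h5]
      rw [hu]
      group
    by_contra hne
    have hu1 : u ≠ 1 := by
      intro e2
      apply hne
      apply Subtype.ext
      have : (w : G) = w' := by
        have h6 : (w' : G) * u = w := by rw [hu]; group
        rw [← h6, e2, mul_one]
      exact this
    apply hhP
    apply hC
    rw [← centralizer_singleton_eq (p := p) P hP huP hu1, mem_centralizer_singleton_iff]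
    calc h * u = h * (h⁻¹ * u * h) := by rw [hu2]
      _ = u * h := by group
  obtain ⟨w, hw⟩ := (Finite.injective_iff_surjective.mp hinj) ⟨y, hy⟩
  have hw' : h⁻¹ * (w : G) * h * (w : G)⁻¹ = y := congrArg Subtype.val hw
  refine isConj_iff.mpr ⟨w, ?_⟩
  rw [← hw']
  group

/-- Nonzero multiplicity from a nonzero sum over `P`. -/
theorem exists_inner_ne_zero {p : ℕ} [hp : Fact p.Prime]
    (hcomm : ∀ a b : NQ P, a * b = b * a) {χ : G → ℂ} (hχ : IsClassFunction G χ) [Fintype (P : Subgroup G)]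
    (hs : ∑ y : P, χ y ≠ 0) : ∃ ψ : NQ P →* ℂˣ, classInner (indL P ψ) χ ≠ 0 := by
  classical
  letI : Fintype (NQ P →* ℂˣ) := Fintype.ofFinite _
  by_contra hall
  push Not at hall
  have h1 := sum_coset hcomm hχ (1 : normalizer (P : Set G))
  simp only [hall, mul_zero, Finset.sum_const_zero] at h1
  have hP : (Nat.card P : ℂ) ≠ 0 := by exact_mod_cast Nat.card_pos.ne'
  have h2 := (mul_eq_zero.mp h1.symm).resolve_left (inv_ne_zero hP)
  apply hs
  have h3 : conj (∑ y : P, χ y) = 0 := by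
    rw [map_sum]
    rw [← h2]
    simp
  exact (map_eq_zero (starRingEnd ℂ)).mp h3

/-- Vanishing on the normalizer. -/
theorem vanish_of_sum_eq_zero {p : ℕ} [hp : Fact p.Prime] (hP : Nat.card P = p)
    (hC : ∀ x, x ∈ centralizer (P : Set G) → x ∈ P)
    (hcomm : ∀ a b : NQ P, a * b = b * a) {χ : G → ℂ} (hχ : IsCharacter G χ) [Fintype (P : Subgroup G)]
    (hs : ∑ y : P, χ y = 0) {h : G} (hh : h ∈ normalizer (P : Set G)) (hhP : h ∉ P) : χ h = 0 := by
  classical
  letI : Fintype (NQ P →* ℂˣ) := Fintype.ofFinite _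
  have hcl := IsCharacter.isClassFunction hχ
  have hnat : ∀ ψ : NQ P →* ℂˣ, ∃ n : ℕ, classInner (indL P ψ) χ = n := fun ψ =>
    IsCharacter.classInner_nat (isCharacter_indL P ψ) hχ
  choose n hn using hnat
  have hzero : ∀ ψ : NQ P →* ℂˣ, classInner (indL P ψ) χ = 0 := by
    have h1 := sum_coset hcomm hcl (1 : normalizer (P : Set G))
    have h2 : ∑ y : P, conj (χ (((1 : normalizer (P : Set G)) : G) * y)) = 0 := by
      have h3 : conj (∑ y : P, χ y) = 0 := by rw [hs]; simp
      rw [map_sum] at h3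
      rw [← h3]
      simp
    rw [h2, mul_zero] at h1
    have h3 : ∑ ψ : NQ P →* ℂˣ, ((n ψ : ℕ) : ℂ) = 0 := by
      rw [← h1]
      refine Finset.sum_congr rfl fun ψ _ => ?_
      rw [hn ψ]
      simp [linN]
    have h4 : ∑ ψ : NQ P →* ℂˣ, n ψ = 0 := by exact_mod_cast h3
    intro ψ
    rw [hn ψ, (Finset.sum_eq_zero_iff.mp h4) ψ (Finset.mem_univ _)]
    simp
  have h1 := sum_coset hcomm hcl (⟨h, hh⟩ : normalizer (P : Set G))
  simp only [hzero, mul_zero, Finset.sum_const_zero] at h1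
  have hP0 : (Nat.card P : ℂ) ≠ 0 := by exact_mod_cast Nat.card_pos.ne'
  have h2 := (mul_eq_zero.mp h1.symm).resolve_left (inv_ne_zero hP0)
  have h3 : ∀ y : P, conj (χ (h * y)) = conj (χ h) := by
    intro y
    obtain ⟨c, hc⟩ := isConj_iff.mp (isConj_mul_of_notMem hP hC hh hhP y.2)
    rw [← hc, IsCharacter.isClassFunction hχ]
  simp only [h3, Finset.sum_const, Finset.card_univ, nsmul_eq_mul] at h2
  have h4 := (mul_eq_zero.mp h2).resolve_left (by
    rw [← Nat.card_eq_fintype_card]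
    exact hP0)
  simpa using h4


/-- The quotient `N/P` is commutative. -/
theorem commNQ {p : ℕ} [hp : Fact p.Prime] (hP : Nat.card P = p)
    (hC : ∀ x, x ∈ centralizer (P : Set G) → x ∈ P) : ∀ a b : NQ P, a * b = b * a := by
  classical
  haveI hcyc3 : IsCyclic P := isCyclic_of_prime_card hP
  haveI hcyc2 : IsCyclic (MulAut P) := by
    haveI h1 : IsCyclic (ZMod (Nat.card P))ˣ := by
      rw [hP]
      exact ZMod.isCyclic_units_prime Fact.out
    exact isCyclic_of_injective (IsCyclic.mulAutMulEquiv P).toMonoidHom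
      (IsCyclic.mulAutMulEquiv P).injective
  have hc : ∀ u v : MulAut P, u * v = v * u := fun u v => by
    letI := hcyc2.commGroup
    exact mul_comm u v
  intro a b
  obtain ⟨x, rfl⟩ := QuotientGroup.mk'_surjective (P.subgroupOf (normalizer (P : Set G))) a
  obtain ⟨y, rfl⟩ := QuotientGroup.mk'_surjective (P.subgroupOf (normalizer (P : Set G))) b
  rw [← map_mul, ← map_mul]
  have h1 : (y * x)⁻¹ * (x * y) ∈ (normalizerMonoidHom P).ker := by
    rw [MonoidHom.mem_ker, map_mul, map_inv, map_mul, map_mul, hc (normalizerMonoidHom P y), inv_mul_cancel]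
  rw [normalizerMonoidHom_ker, mem_subgroupOf] at h1
  have h2 : (((y * x)⁻¹ * (x * y) : normalizer (P : Set G)) : G) ∈ P := hC _ h1
  have h3 : toNQ P ((y * x)⁻¹ * (x * y)) = 1 := (toNQ_eq_one_iff P).mpr h2
  rw [map_mul, map_inv] at h3
  exact (inv_mul_eq_one.mp h3).symm

/-- Elements of the normalizer outside `P` are regular. -/
theorem not_dvd_orderOf_of_normalizer {p : ℕ} [hp : Fact p.Prime] (P' : Sylow p G)
    (hP : Nat.card (P' : Subgroup G) = p)
    (hC : ∀ x, x ∈ centralizer ((P' : Subgroup G) : Set G) → x ∈ (P' : Subgroup G)) {h : G}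
    (hh : h ∈ normalizer ((P' : Subgroup G) : Set G)) (hhP : h ∉ (P' : Subgroup G)) : ¬ p ∣ orderOf h := by
  classical
  intro hd
  have hg : orderOf (h ^ (orderOf h / p)) = p := orderOf_pow_orderOf_div (orderOf_pos h).ne' hd
  set g := h ^ (orderOf h / p) with hgdef
  have hgN : g ∈ normalizer ((P' : Subgroup G) : Set G) := pow_mem hh _
  have hgp : IsPGroup p (zpowers g) := by
    refine IsPGroup.iff_card.mpr ⟨1, ?_⟩
    rw [Nat.card_zpowers, hg, pow_one]
  obtain ⟨Q, hQ⟩ := hgp.exists_le_sylow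
  have hgQ : g ∈ (Q : Subgroup G) := hQ (mem_zpowers g)
  have hgP : g ∈ (P' : Subgroup G) := SmallSimple.mem_of_mem_normalizer_sylow Q P' hgQ hgN
  have hg1 : g ≠ 1 := by
    intro e
    rw [e, orderOf_one] at hg
    exact hp.out.one_lt.ne hg
  apply hhP
  apply hC
  rw [← centralizer_singleton_eq (p := p) (P' : Subgroup G) hP hgP hg1, mem_centralizer_singleton_iff]
  exact (Commute.pow_right (Commute.refl h) _).eq

end Ind

/-- A character with the right degree is the sum of the constituents. -/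
theorem eq_sum_of_inner {π : G → ℂ} (hπ : IsCharacter G π) (S : Finset (IrrCharacter G))
    (h : ∀ χ ∈ S, classInner π (χ : G → ℂ) ≠ 0) (hdeg : π 1 = ∑ χ ∈ S, (χ : G → ℂ) 1) :
    π = ∑ χ ∈ S, (χ : G → ℂ) := by
  classical
  obtain ⟨m, hm, hsum⟩ := IsCharacter.exists_eq_sum hπ
  have hdegπ : ∀ χ : IrrCharacter G, (χ : G → ℂ) 1 = (charDegree (χ : G → ℂ) : ℂ) := fun χ =>
    apply_one_eq_charDegree (IsIrrCharacter.isCharacter χ.2)
  have h1 : ∑ ψ : IrrCharacter G, m ψ * charDegree (ψ : G → ℂ) = ∑ χ ∈ S, charDegree (χ : G → ℂ) := by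
    have h2 : (((∑ ψ : IrrCharacter G, m ψ * charDegree (ψ : G → ℂ) : ℕ)) : ℂ) = ((∑ χ ∈ S, charDegree (χ : G → ℂ) : ℕ) : ℂ) := by
      push_cast
      simp only [← hdegπ]
      rw [← hdeg, hsum]
      simp [Finset.sum_apply]
    exact_mod_cast h2
  have hposm : ∀ χ ∈ S, 1 ≤ m χ := by
    intro χ hχ
    have h2 := h χ hχ
    rw [hm] at h2
    have : m χ ≠ 0 := fun e => h2 (by simp [e])
    omega
  have hle : ∀ ψ ∈ (Finset.univ : Finset (IrrCharacter G)), (if ψ ∈ S then charDegree (ψ : G → ℂ) else 0) ≤ m ψ * charDegree (ψ : G → ℂ) := by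
    intro ψ _
    by_cases hψ : ψ ∈ S
    · rw [if_pos hψ]
      exact Nat.le_mul_of_pos_left _ (hposm ψ hψ)
    · rw [if_neg hψ]
      exact Nat.zero_le _
  have hsum2 : ∑ ψ : IrrCharacter G, (if ψ ∈ S then charDegree (ψ : G → ℂ) else 0) = ∑ ψ : IrrCharacter G, m ψ * charDegree (ψ : G → ℂ) := by
    rw [h1, Finset.sum_ite_mem]
    simp
  have heq := (Finset.sum_eq_sum_iff_of_le hle).mp hsum2
  have hm2 : ∀ ψ : IrrCharacter G, m ψ = if ψ ∈ S then 1 else 0 := by
    intro ψ
    have h3 := heq ψ (Finset.mem_univ _)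
    have hpos := charDegree_pos ψ.2
    by_cases hψ : ψ ∈ S
    · rw [if_pos hψ] at h3 ⊢
      nlinarith
    · rw [if_neg hψ] at h3 ⊢
      have := (Nat.mul_eq_zero.mp h3.symm).resolve_right hpos.ne'
      exact this
  rw [hsum]
  have h4 : ∀ ψ : IrrCharacter G, m ψ • (ψ : G → ℂ) = if ψ ∈ S then (ψ : G → ℂ) else 0 := by
    intro ψ
    rw [hm2]
    by_cases hψ : ψ ∈ S <;> simp [hψ]
  simp only [h4]
  rw [Finset.sum_ite_mem]
  simp

section Invol

variable {P : Subgroup G} {p : ℕ} [hp : Fact p.Prime]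

omit [Fintype G] in
theorem mem_normalizer_of_inverts {t : G} (ht : t * t = 1) (hinv : ∀ y ∈ P, t * y * t⁻¹ = y⁻¹) :
    t ∈ normalizer (P : Set G) := by
  rw [mem_normalizer_iff]
  intro y
  have htinv : t⁻¹ = t := inv_eq_of_mul_eq_one_left ht
  constructor
  · intro hy
    rw [hinv y hy]
    exact inv_mem hy
  · intro hy
    have h1 := hinv _ hy
    have h2 : t * (t * y * t⁻¹) * t⁻¹ = y := by
      rw [htinv]
      calc t * (t * y * t) * t = (t * t) * y * (t * t) := by group
        _ = y := by rw [ht]; group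
    rw [h2] at h1
    rw [h1]
    exact inv_mem hy

/-- An involution conjugate to `t` in the normalizer lies in `tP`. -/
theorem mem_of_isConj (hP : Nat.card P = p) (hp2 : p ≠ 2)
    (hC : ∀ x, x ∈ centralizer (P : Set G) → x ∈ P) {t : G} (ht : t * t = 1)
    (hinv : ∀ y ∈ P, t * y * t⁻¹ = y⁻¹) {x : G} (hx : x ∈ normalizer (P : Set G)) (hxt : IsConj t x) :
    t⁻¹ * x ∈ P := by
  have htinv : t⁻¹ = t := inv_eq_of_mul_eq_one_left ht
  obtain ⟨c, rfl⟩ := isConj_iff.mp hxt
  set x := c * t * c⁻¹ with hxdef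
  have hx2 : x * x = 1 := by
    rw [hxdef]
    calc c * t * c⁻¹ * (c * t * c⁻¹) = c * (t * t) * c⁻¹ := by group
      _ = 1 := by rw [ht]; group
  have hx1 : x ≠ 1 := by
    intro e
    have h1 : t = 1 := by
      have h2 : c * t * c⁻¹ = 1 := e
      have h3 : t = c⁻¹ * (c * t * c⁻¹) * c := by group
      rw [h3, h2]
      group
    rw [h1] at hinv
    have hne : (P : Subgroup G) ≠ ⊥ := by
      intro h
      rw [h] at hP
      simp at hP
      exact hp.out.ne_one hP.symm
    obtain ⟨⟨y, hy⟩, hy1⟩ := Subgroup.ne_bot_iff_exists_ne_one.mp hne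
    have hy1' : y ≠ 1 := fun e => hy1 (Subtype.ext e)
    have h4 := hinv y hy
    simp only [one_mul, inv_one, mul_one] at h4
    have h5 : y * y = 1 := by
      nth_rewrite 1 [h4]
      simp
    have h6 : orderOf y ∣ 2 := orderOf_dvd_of_pow_eq_one (by rw [pow_two, h5])
    have h7 : orderOf (⟨y, hy⟩ : P) ∣ Nat.card P := orderOf_dvd_natCard _
    rw [hP, Subgroup.orderOf_mk] at h7
    rcases (Nat.dvd_prime hp.out).mp h7 with h8 | h8
    · exact hy1' (orderOf_eq_one_iff.mp h8)
    · rw [h8] at h6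
      have := (Nat.prime_dvd_prime_iff_eq hp.out Nat.prime_two).mp h6
      exact hp2 this
  have hxC : x ∉ centralizer (P : Set G) := by
    intro hxc
    have hxP := hC x hxc
    have h6 : orderOf x ∣ 2 := orderOf_dvd_of_pow_eq_one (by rw [pow_two, hx2])
    have h7 : orderOf (⟨x, hxP⟩ : P) ∣ Nat.card P := orderOf_dvd_natCard _
    rw [hP, Subgroup.orderOf_mk] at h7
    rcases (Nat.dvd_prime hp.out).mp h7 with h8 | h8
    · exact hx1 (orderOf_eq_one_iff.mp h8)
    · rw [h8] at h6
      exact hp2 ((Nat.prime_dvd_prime_iff_eq hp.out Nat.prime_two).mp h6)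
  have hxinv := inverts_of_not_centralizer (p := p) P hP hx2 hx hxC
  apply hC
  rw [mem_centralizer_iff]
  intro y hy
  have h1 : x * y * x⁻¹ = y⁻¹ := hxinv y hy
  have hxi : x⁻¹ = x := inv_eq_of_mul_eq_one_left hx2
  have h2 : x * y = y⁻¹ * x := by
    rw [← h1, hxi]
    calc x * y = x * y * (x * x) := by rw [hx2, mul_one]
      _ = x * y * x * x := by group
  have h3 := hinv y⁻¹ (inv_mem hy)
  rw [inv_inv] at h3
  rw [htinv] at h3 ⊢
  have h4 : t * y⁻¹ = y * t := by
    calc t * y⁻¹ = t * y⁻¹ * (t * t) := by rw [ht, mul_one]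
      _ = t * y⁻¹ * t * t := by group
      _ = y * t := by rw [h3]
  calc y * (t * x) = (y * t) * x := by group
    _ = (t * y⁻¹) * x := by rw [h4]
    _ = t * (y⁻¹ * x) := by group
    _ = t * (x * y) := by rw [h2]
    _ = t * x * y := by group

/-- The elements of `tP` are conjugate to `t`. -/
theorem isConj_mul_of_inverts (hP : Nat.card P = p) (hp2 : p ≠ 2) {t : G} (ht : t * t = 1)
    (hinv : ∀ y ∈ P, t * y * t⁻¹ = y⁻¹) {y : G} (hy : y ∈ P) : IsConj t (t * y) := by
  obtain ⟨w, hw, rfl⟩ := exists_sq_root (p := p) P hP hp2 hy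
  have htinv : t⁻¹ = t := inv_eq_of_mul_eq_one_left ht
  refine isConj_iff.mpr ⟨w⁻¹, ?_⟩
  have h1 := hinv w hw
  rw [htinv] at h1
  have h2 : t * w = w⁻¹ * t := by
    rw [← h1]
    calc t * w = t * w * (t * t) := by rw [ht, mul_one]
      _ = t * w * t * t := by group
  have h3 : w⁻¹ * t = t * w := h2.symm
  calc w⁻¹ * t * w⁻¹⁻¹ = (w⁻¹ * t) * w := by group
    _ = t * w * w := by rw [h3]
    _ = t * (w * w) := by group

/-- Fibres of conjugation. -/
theorem card_filter_conj_eq [DecidableEq G] {t u : G} (h : IsConj t u) :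
    (Finset.univ.filter fun x : G => x⁻¹ * t * x = u).card = Nat.card (centralizer ({t} : Set G)) := by
  classical
  letI : Fintype (centralizer ({t} : Set G)) := Fintype.ofFinite _
  obtain ⟨c, rfl⟩ := isConj_iff.mp h
  rw [Nat.card_eq_fintype_card, ← Finset.card_univ]
  symm
  refine Finset.card_bij (fun x _ => (x : G) * c⁻¹) ?_ ?_ ?_
  · intro x _
    refine Finset.mem_filter.mpr ⟨Finset.mem_univ _, ?_⟩
    have hx : (x : G) * t = t * x := by
      have := mem_centralizer_singleton_iff.mp x.2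
      exact this
    calc ((x : G) * c⁻¹)⁻¹ * t * ((x : G) * c⁻¹) = c * ((x : G)⁻¹ * (t * x)) * c⁻¹ := by group
      _ = c * ((x : G)⁻¹ * ((x : G) * t)) * c⁻¹ := by rw [hx]
      _ = c * t * c⁻¹ := by group
  · intro x _ x' _ e
    exact Subtype.ext (mul_right_cancel e)
  · intro x hx
    have hx' := (Finset.mem_filter.mp hx).2
    refine ⟨⟨x * c, ?_⟩, Finset.mem_univ _, ?_⟩
    · rw [mem_centralizer_singleton_iff]
      have h1 : t * (x * c) = x * (x⁻¹ * t * x) * c := by group
      rw [h1, hx']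
      group
    · simp

/-- The linear character is determined at an involution. -/
theorem indL_apply_invol (hP : Nat.card P = p) (hp2 : p ≠ 2)
    (hC : ∀ x, x ∈ centralizer (P : Set G) → x ∈ P) {t : G} (ht : t * t = 1)
    (hinv : ∀ y ∈ P, t * y * t⁻¹ = y⁻¹) (ψ : NQ P →* ℂˣ) :
    indL P ψ t = linN P ψ ⟨t, mem_normalizer_of_inverts ht hinv⟩ * indL P 1 t := by
  classical
  simp only [indL, indFun_apply]
  rw [mul_left_comm (linN P ψ _), Finset.mul_sum (a := linN P ψ _)]
  congr 1
  refine Finset.sum_congr rfl fun x _ => ?_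
  by_cases hx : x⁻¹ * t * x ∈ normalizer (P : Set G)
  · rw [extendByZero_of_mem _ _ hx, extendByZero_of_mem _ _ hx]
    have h1 : t⁻¹ * (x⁻¹ * t * x) ∈ P := mem_of_isConj hP hp2 hC ht hinv hx
      (isConj_iff.mpr ⟨x⁻¹, by group⟩)
    have h2 : toNQ P ⟨x⁻¹ * t * x, hx⟩ = toNQ P ⟨t, mem_normalizer_of_inverts ht hinv⟩ := by
      have h3 := (toNQ_eq_one_iff P (g := (⟨t, mem_normalizer_of_inverts ht hinv⟩ : normalizer (P : Set G))⁻¹ * ⟨x⁻¹ * t * x, hx⟩)).mpr (by simpa using h1)
      rw [map_mul, map_inv] at h3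
      exact (inv_mul_eq_one.mp h3).symm
    simp only [linN, h2]
    simp
  · rw [extendByZero_of_notMem _ _ hx, extendByZero_of_notMem _ _ hx, mul_zero]

/-- The value of the permutation character at an involution. -/
theorem indL_one_mul (hP : Nat.card P = p) (hp2 : p ≠ 2)
    (hC : ∀ x, x ∈ centralizer (P : Set G) → x ∈ P) {t : G} (ht : t * t = 1)
    (hinv : ∀ y ∈ P, t * y * t⁻¹ = y⁻¹) {m : ℕ} (hm : Nat.card (normalizer (P : Set G)) = p * m) :
    indL P 1 t * (m : ℂ) = (Nat.card (centralizer ({t} : Set G)) : ℂ) := by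
  classical
  letI : Fintype P := Fintype.ofFinite _
  have hp0 : (p : ℂ) ≠ 0 := by exact_mod_cast hp.out.ne_zero
  have hmpos : 0 < m := by
    rcases Nat.eq_zero_or_pos m with h | h
    · rw [h, mul_zero] at hm
      have := Nat.card_pos (α := normalizer (P : Set G))
      omega
    · exact h
  have hm0 : (m : ℂ) ≠ 0 := by exact_mod_cast hmpos.ne'
  have htN := mem_normalizer_of_inverts (P := P) ht hinv
  let U : Finset G := Finset.univ.image (fun y : P => t * (y : G))
  have hU : U.card = p := by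
    rw [Finset.card_image_of_injective _ (fun a b e => Subtype.ext (mul_left_cancel e)), Finset.card_univ,
      ← Nat.card_eq_fintype_card, hP]
  have hmemU : ∀ u : G, IsConj t u → (u ∈ normalizer (P : Set G) ↔ u ∈ U) := by
    intro u hu
    constructor
    · intro h1
      refine Finset.mem_image.mpr ⟨⟨t⁻¹ * u, mem_of_isConj hP hp2 hC ht hinv h1 hu⟩, Finset.mem_univ _, ?_⟩
      simp
    · intro h1
      obtain ⟨y, -, rfl⟩ := Finset.mem_image.mp h1
      exact mul_mem htN (Subgroup.le_normalizer y.2)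
  have hcount : (Finset.univ.filter fun x : G => x⁻¹ * t * x ∈ normalizer (P : Set G)).card =
      p * Nat.card (centralizer ({t} : Set G)) := by
    have h1 : (Finset.univ.filter fun x : G => x⁻¹ * t * x ∈ normalizer (P : Set G)) =
        (Finset.univ.filter fun x : G => x⁻¹ * t * x ∈ U) := by
      ext x
      simp only [Finset.mem_filter, Finset.mem_univ, true_and]
      exact hmemU _ (isConj_iff.mpr ⟨x⁻¹, by group⟩)
    have hf := Finset.card_eq_sum_card_fiberwise (f := fun x : G => x⁻¹ * t * x) (s := Finset.univ.filter fun x : G => x⁻¹ * t * x ∈ U) (t := U)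
      (fun x hx => (Finset.mem_filter.mp (Finset.mem_coe.mp hx)).2)
    rw [h1, hf]
    have h2 : ∀ u ∈ U, ((Finset.univ.filter fun x : G => x⁻¹ * t * x ∈ U).filter fun x => x⁻¹ * t * x = u).card =
        Nat.card (centralizer ({t} : Set G)) := by
      intro u hu
      rw [← card_filter_conj_eq (t := t) (u := u) (by
        obtain ⟨y, -, rfl⟩ := Finset.mem_image.mp hu
        exact isConj_mul_of_inverts hP hp2 ht hinv y.2)]
      congr 1
      ext x
      simp only [Finset.mem_filter, Finset.mem_univ, true_and]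
      constructor
      · exact fun h => h.2
      · intro h
        exact ⟨by rw [h]; exact hu, h⟩
    rw [Finset.sum_congr rfl h2, Finset.sum_const, hU, smul_eq_mul]
  have h3 : ∑ x : G, extendByZero (normalizer (P : Set G)) (linN P (1 : NQ P →* ℂˣ)) (x⁻¹ * t * x) =
      (p : ℂ) * (Nat.card (centralizer ({t} : Set G)) : ℂ) := by
    have h4 : ∀ x : G, extendByZero (normalizer (P : Set G)) (linN P (1 : NQ P →* ℂˣ)) (x⁻¹ * t * x) =
        if x⁻¹ * t * x ∈ normalizer (P : Set G) then 1 else 0 := by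
      intro x
      by_cases hx : x⁻¹ * t * x ∈ normalizer (P : Set G)
      · rw [extendByZero_of_mem _ _ hx, if_pos hx]
        simp [linN]
      · rw [extendByZero_of_notMem _ _ hx, if_neg hx]
    simp only [h4]
    rw [Finset.sum_boole, hcount]
    push_cast
    rfl
  rw [indL, indFun_apply, h3, hm]
  push_cast
  field_simp

/-- Exact count of pairs for an inverting involution. -/
theorem pairCount_eq_of_inverts {t : G} [DecidableEq G] [Fintype {x : G // IsConj t x}] (hP : Nat.card P = p) (hp2 : p ≠ 2)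
    (hC : ∀ x, x ∈ centralizer (P : Set G) → x ∈ P) (ht : t * t = 1)
    (hinv : ∀ y ∈ P, t * y * t⁻¹ = y⁻¹) {z : G} (hz : z ∈ P) (hz1 : z ≠ 1) : pairCount t z = p := by
  classical
  letI : Fintype P := Fintype.ofFinite _
  have htinv : t⁻¹ = t := inv_eq_of_mul_eq_one_left ht
  have hconj : ∀ y ∈ P, IsConj t (t * y) := fun y hy => isConj_mul_of_inverts hP hp2 ht hinv hy
  have hinvol : ∀ x : G, IsConj t x → x * x = 1 := by
    intro x hx
    obtain ⟨c, rfl⟩ := isConj_iff.mp hx
    calc c * t * c⁻¹ * (c * t * c⁻¹) = c * (t * t) * c⁻¹ := by group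
      _ = 1 := by rw [ht]; group
  have hcomm := comm_of_prime (p := p) P hP
  rw [pairCount, ← hP, Nat.card_eq_fintype_card, ← Finset.card_univ]
  symm
  refine Finset.card_bij (fun (y : P) _ => ((⟨t * y, hconj y y.2⟩, ⟨t * (y * z), hconj _ (mul_mem y.2 hz)⟩) :
    {x : G // IsConj t x} × {x : G // IsConj t x})) ?_ ?_ ?_
  · intro y _
    refine Finset.mem_filter.mpr ⟨Finset.mem_univ _, ?_⟩
    show t * (y : G) * (t * ((y : G) * z)) = z
    have h1 := hinv y y.2
    rw [htinv] at h1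
    calc t * (y : G) * (t * ((y : G) * z)) = (t * (y : G) * t) * ((y : G) * z) := by group
      _ = z := by rw [h1]; group
  · intro y _ y' _ e
    have h1 := congrArg (fun q : {x : G // IsConj t x} × {x : G // IsConj t x} => ((q.1 : G))) e
    exact Subtype.ext (mul_left_cancel h1)
  · intro q hq
    have hq' : (q.1 : G) * (q.2 : G) = z := (Finset.mem_filter.mp hq).2
    have h1 := hinvol _ q.1.2
    have h2 := hinvol _ q.2.2
    have h1i : (q.1 : G)⁻¹ = q.1 := inv_eq_of_mul_eq_one_left h1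
    have h2i : (q.2 : G)⁻¹ = q.2 := inv_eq_of_mul_eq_one_left h2
    -- `q.1` inverts `z`
    have hzinv : (q.1 : G) * z * (q.1 : G)⁻¹ = z⁻¹ := by
      rw [← hq', h1i, mul_inv_rev, h1i, h2i]
      calc (q.1 : G) * ((q.1 : G) * (q.2 : G)) * (q.1 : G) = ((q.1 : G) * (q.1 : G)) * (q.2 : G) * (q.1 : G) := by group
        _ = _ := by rw [h1, one_mul]
    have hN : (q.1 : G) ∈ normalizer (P : Set G) := by
      have hgen : ∀ y ∈ P, (q.1 : G) * y * (q.1 : G)⁻¹ ∈ P := by
        intro y hy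
        have h4 : (⟨y, hy⟩ : P) ∈ Subgroup.zpowers (⟨z, hz⟩ : P) :=
          mem_zpowers_of_prime_card hP (fun e => hz1 (congrArg Subtype.val e))
        obtain ⟨k, hk⟩ := Subgroup.mem_zpowers_iff.mp h4
        have h5 : z ^ k = y := by
          have := congrArg Subtype.val hk
          simpa using this
        rw [← h5, ← conj_zpow, hzinv]
        exact zpow_mem (inv_mem hz) k
      rw [mem_normalizer_iff]
      intro y
      refine ⟨hgen y, fun hy => ?_⟩
      have h6 := hgen _ hy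
      rw [h1i] at h6
      have h7 : (q.1 : G) * ((q.1 : G) * y * (q.1 : G)) * (q.1 : G) = y := by
        calc (q.1 : G) * ((q.1 : G) * y * (q.1 : G)) * (q.1 : G) = ((q.1 : G) * (q.1 : G)) * y * ((q.1 : G) * (q.1 : G)) := by group
          _ = y := by rw [h1]; group
      rwa [h7] at h6
    have hm := mem_of_isConj hP hp2 hC ht hinv hN q.1.2
    refine ⟨⟨t⁻¹ * (q.1 : G), hm⟩, Finset.mem_univ _, ?_⟩
    have e1 : t * (t⁻¹ * (q.1 : G)) = q.1 := by group
    have e2 : t * (t⁻¹ * (q.1 : G) * z) = q.2 := by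
      rw [← hq']
      calc t * (t⁻¹ * (q.1 : G) * ((q.1 : G) * (q.2 : G))) = ((q.1 : G) * (q.1 : G)) * (q.2 : G) := by group
        _ = _ := by rw [h1, one_mul]
    exact Prod.ext (Subtype.ext e1) (Subtype.ext e2)

end Invol

end Cfsg.Agent.Lib.Small.BD
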