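import Mathlib
import Cfsg.Agent.Lib.Small.BrauerInd
import Cfsg.Agent.Lib.Blocks.PrincipalFinal

/-! The shape of the principal block when `C_G(P) = P`, `|P| = p`. -/

set_option autoImplicit false
set_option linter.unusedSectionVars false
set_option linter.unusedVariables false

namespace Cfsg.Agent.Lib.Small.BD

open Cfsg Cfsg.Agent.Lib.Char Cfsg.Agent.Lib.Blocks Subgroup
open scoped ComplexConjugate

universe u

variable {G : Type u} [Group G] [Fintype G] {p : ℕ} [hp : Fact p.Prime]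

/-- Characters outside the principal block vanish on `P` when `C_G(P) = P`. -/
theorem vanish_off_principal {M : Ideal AlgInt} {Q : Subgroup G} (h : FrobSetup p M Q) (hP : Nat.card Q = p)
    (hC : Nat.card (centralizer (Q : Set G)) = p) {χ : IrrCharacter G} (hχ : χ ∉ principalBlock M G) {y : G} (hy : y ∈ Q)
    (hy1 : y ≠ 1) : (χ : G → ℂ) y = 0 := by
  classical
  have h1 := h.sum_norm hy hy1
  have h2 := sum_irr_mul_conj_of_isConj (IsConj.refl y)
  rw [centralizer_singleton_eq (p := p) Q hP hy hy1, hC] at h2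
  rw [hP] at h1
  have h3 : ∑ ξ : IrrCharacter G, (((if ξ ∈ principalBlock M G then 0 else ‖(ξ : G → ℂ) y‖ ^ 2 : ℝ)) : ℂ) = 0 := by
    have h4 : ∀ ξ : IrrCharacter G, (((if ξ ∈ principalBlock M G then 0 else ‖(ξ : G → ℂ) y‖ ^ 2 : ℝ)) : ℂ) =
        (ξ : G → ℂ) y * conj ((ξ : G → ℂ) y) - indic (principalBlock M G) ξ * ((ξ : G → ℂ) y * conj ((ξ : G → ℂ) y)) := by
      intro ξ
      by_cases hξ : ξ ∈ principalBlock M G
      · rw [if_pos hξ, indic_apply_of_mem hξ]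
        simp
      · rw [if_neg hξ, indic_apply_of_notMem hξ, Complex.mul_conj, Complex.normSq_eq_norm_sq]
        simp
    simp only [h4]
    rw [Finset.sum_sub_distrib, h1, h2, sub_self]
  have h5 : ∑ ξ : IrrCharacter G, (if ξ ∈ principalBlock M G then 0 else ‖(ξ : G → ℂ) y‖ ^ 2 : ℝ) = 0 := by
    have : ((∑ ξ : IrrCharacter G, (if ξ ∈ principalBlock M G then 0 else ‖(ξ : G → ℂ) y‖ ^ 2 : ℝ) : ℝ) : ℂ) = 0 := by
      rw [Complex.ofReal_sum]
      exact h3
    exact_mod_cast this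
  have h6 := (Finset.sum_eq_zero_iff_of_nonneg (fun ξ _ => by
    split_ifs
    · exact le_rfl
    · positivity)).mp h5 χ (Finset.mem_univ _)
  rw [if_neg hχ] at h6
  have h7 : ‖(χ : G → ℂ) y‖ = 0 := by
    exact pow_eq_zero_iff (two_ne_zero) |>.mp h6
  exact norm_eq_zero.mp h7

/-- The data for `r ≥ 2`. -/
structure CoreData (P : Sylow p G) (m r : ℕ) (X Y : Finset (IrrCharacter G)) (δ : IrrCharacter G → ℤ) (ε : ℤ) : Prop where
  one_mem : one' G ∈ X
  disj : Disjoint X Y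
  cardX : X.card = m
  cardY : Y.card = r
  sign : ∀ χ ∈ X, δ χ = 1 ∨ δ χ = -1
  val : ∀ χ ∈ X, ∀ y ∈ (P : Subgroup G), y ≠ 1 → (χ : G → ℂ) y = (δ χ : ℂ)
  eps : ε = 1 ∨ ε = -1
  regY : ∀ θ ∈ Y, ∀ θ' ∈ Y, ∀ g : G, ¬ p ∣ orderOf g → (θ : G → ℂ) g = (θ' : G → ℂ) g
  reg : ∀ θ ∈ Y, ∀ g : G, ¬ p ∣ orderOf g → (ε : ℂ) * (θ : G → ℂ) g = ∑ χ ∈ X, (δ χ : ℂ) * (χ : G → ℂ) g
  vanish : ∀ χ : IrrCharacter G, χ ∉ X → χ ∉ Y → ∀ y ∈ (P : Subgroup G), y ≠ 1 → (χ : G → ℂ) y = 0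
  sumY : ∀ y ∈ (P : Subgroup G), y ≠ 1 → ∑ θ ∈ Y, (θ : G → ℂ) y = -(ε : ℂ)
  kY : ∀ (_ : Fintype (P : Subgroup G)), ∀ θ ∈ Y, ∀ θ' ∈ Y,
    ∑ y : (P : Subgroup G), (θ : G → ℂ) y = ∑ y : (P : Subgroup G), (θ' : G → ℂ) y

section RTwo

variable {M : Ideal AlgInt} {Q : Subgroup G} [Fintype Q] [Fintype (normalizer (Q : Set G))] [Fintype (Q →* ℂˣ)] {r : ℕ}

/-- The sum of an orbit function over `Q`. -/
theorem sum_orbVal (hψ : ∀ ψ : Q →* ℂˣ, True) {ψ : Q →* ℂˣ} (hne : ψ ≠ 1) : ∑ y : Q, orbVal ψ y = 0 := by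
  classical
  simp only [orbVal]
  rw [← Finset.mul_sum, Finset.sum_comm]
  have h1 : ∀ x : normalizer (Q : Set G), ∑ y : Q, linVal ψ (conjQ Q x y) = 0 := by
    intro x
    have hb : Function.Bijective (conjQ Q x) := by
      refine ⟨?_, ?_⟩
      · intro a b hab
        have h2 : (x : G) * (a : G) * (x : G)⁻¹ = (x : G) * (b : G) * (x : G)⁻¹ := congrArg Subtype.val hab
        apply Subtype.ext
        exact mul_left_cancel (mul_right_cancel h2)
      · intro y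
        refine ⟨conjQ Q x⁻¹ y, ?_⟩
        apply Subtype.ext
        simp only [coe_conjQ, Subgroup.coe_inv]
        group
    rw [Function.Bijective.sum_comp hb (fun y => linVal ψ y)]
    have h3 := sum_linVal_mul_conj ψ 1
    rw [if_neg hne] at h3
    rw [← h3]
    refine Finset.sum_congr rfl fun y _ => ?_
    simp [linVal]
  simp only [h1, Finset.sum_const_zero, mul_zero]

theorem orbVal_one (ψ : Q →* ℂˣ) : orbVal ψ 1 =
    (Nat.card (centralizer (Q : Set G)) : ℂ)⁻¹ * (Nat.card (normalizer (Q : Set G)) : ℂ) := by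
  classical
  simp only [orbVal, map_one, linVal_one, Finset.sum_const, Finset.card_univ, nsmul_eq_mul, mul_one,
    Nat.card_eq_fintype_card]

/-- All members of the exceptional family have the same sum over `Q`. -/
theorem sum_mu_eq (D : BrauerData p M Q r) (j j' : Fin r) :
    ∑ y : Q, (D.μ j : G → ℂ) y = ∑ y : Q, (D.μ j' : G → ℂ) y := by
  classical
  have key : ∀ i : Fin r, ∑ y : Q, (D.μ i : G → ℂ) y = (D.μ i : G → ℂ) 1 + ∑ y ∈ (Finset.univ : Finset Q).erase 1,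
      ((D.dval : ℂ) + (D.E : ℂ) * orbVal (D.rep i) y) := by
    intro i
    rw [← Finset.add_sum_erase _ _ (Finset.mem_univ (1 : Q))]
    congr 1
    refine Finset.sum_congr rfl fun y hy => ?_
    rw [D.apply_μ i y (Finset.ne_of_mem_erase hy), D.valD_μ_eq]
  have key2 : ∀ i : Fin r, ∑ y ∈ (Finset.univ : Finset Q).erase 1, orbVal (D.rep i) y =
      -((Nat.card (centralizer (Q : Set G)) : ℂ)⁻¹ * (Nat.card (normalizer (Q : Set G)) : ℂ)) := by
    intro i
    have h1 := sum_orbVal (fun _ => trivial) (D.rep_ne i)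
    rw [← Finset.add_sum_erase _ _ (Finset.mem_univ (1 : Q)), orbVal_one] at h1
    linear_combination h1
  rw [key j, key j']
  have hone : ¬ p ∣ orderOf (1 : G) := by
    rw [orderOf_one]
    exact hp.out.one_lt.ne' ∘ Nat.dvd_one.mp
  rw [D.μ_regular j j' hone, Finset.sum_add_distrib, Finset.sum_add_distrib, ← Finset.mul_sum, ← Finset.mul_sum, key2, key2]

end RTwo

/-- Existence of the data. -/
theorem exists_coreData {M : Ideal AlgInt} (hM : IsPModular p M) (P : Sylow p G) (hP : Nat.card (P : Subgroup G) = p)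
    (hC : Nat.card (centralizer ((P : Subgroup G) : Set G)) = p) {m r : ℕ} (hm : m * r + 1 = p) (hr : 2 ≤ r)
    (hCN : (centralizer ((P : Subgroup G) : Set G)).relIndex (normalizer ((P : Subgroup G) : Set G)) = m) :
    ∃ (X Y : Finset (IrrCharacter G)) (δ : IrrCharacter G → ℤ) (ε : ℤ), CoreData P m r X Y δ ε := by
  classical
  letI : Fintype ↥(P : Subgroup G) := Fintype.ofFinite _
  letI : Fintype ↥(normalizer ((P : Subgroup G) : Set G)) := Fintype.ofFinite _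
  letI : Fintype (↥(P : Subgroup G) →* ℂˣ) := Fintype.ofFinite _
  have := isPrime_of_modular hM
  have hpp : p.Prime := hp.out
  have hp2 := hpp.two_le
  have hP1 : Nat.card (P : Subgroup G) ≠ 1 := by
    rw [hP]
    omega
  have hsetup := frobSetup_of_card hM P hP
  obtain ⟨r', rep, idx, hrep, hidx, hiff, hcard⟩ := hsetup.exists_orbit_data hP1
  have hmm : Nat.card (normalizer ((P : Subgroup G) : Set G)) = m * Nat.card (centralizer ((P : Subgroup G) : Set G)) := by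
    have h1 := Subgroup.relIndex_mul_relIndex ⊥ (centralizer ((P : Subgroup G) : Set G)) (normalizer ((P : Subgroup G) : Set G)) bot_le (centralizer_le_normalizer_coe _)
    rw [Subgroup.relIndex_bot_left, Subgroup.relIndex_bot_left, hCN] at h1
    rw [← h1, mul_comm]
  have hCpos : 0 < Nat.card (centralizer ((P : Subgroup G) : Set G)) := Nat.card_pos
  have hmpos : 0 < m := by
    rcases Nat.eq_zero_or_pos m with h | h
    · rw [h] at hm
      omega
    · exact h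
  have hrr : r' = r := by
    rw [hmm, ← mul_assoc, hP] at hcard
    have h1 := Nat.eq_of_mul_eq_mul_right hCpos hcard
    have h2 : p - 1 = m * r := by omega
    rw [h2] at h1
    have h3 : r' * m = r * m := by rw [h1]; ring
    exact Nat.eq_of_mul_eq_mul_right hmpos h3
  subst hrr
  obtain ⟨D⟩ := exists_brauerData hsetup (by omega) rep idx hrep hidx hiff
  have hcardm := D.card_Xf_ge hr hP
  rw [hCN] at hcardm
  obtain ⟨hX, ha, hε⟩ := D.final_numbers hr hmm hcardm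
  refine ⟨D.Xf, Finset.univ.image D.μ, D.valD, D.E - (r' : ℤ) * D.dval, ?_⟩
  have hone : ¬ p ∣ orderOf (1 : G) := by
    rw [orderOf_one]
    exact hpp.one_lt.ne' ∘ Nat.dvd_one.mp
  have hmemY : ∀ χ, χ ∈ Finset.univ.image D.μ ↔ χ ∈ Set.range D.μ := by
    intro χ
    simp
  have hreg : ∀ χ ∈ Finset.univ.image D.μ, ∀ g : G, ¬ p ∣ orderOf g → (((D.E - (r' : ℤ) * D.dval : ℤ)) : ℂ) * (χ : G → ℂ) g = ∑ χ ∈ D.Xf, (D.valD χ : ℂ) * (χ : G → ℂ) g := by
    intro χ hχ g hg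
    obtain ⟨j, -, rfl⟩ := Finset.mem_image.mp hχ
    have h1 := D.regular_identity j hg
    push_cast
    linear_combination -h1
  have hsplit := D.sum_indic_split
  have hdeg : ∀ χ : IrrCharacter G, conj ((χ : G → ℂ) 1) = (χ : G → ℂ) 1 := by
    intro χ
    rw [apply_one_eq_charDegree (IsIrrCharacter.isCharacter χ.2), Complex.conj_natCast]
  have hval : ∀ χ ∈ D.Xf, ∀ y ∈ (P : Subgroup G), y ≠ 1 → (χ : G → ℂ) y = (D.valD χ : ℂ) := by
    intro χ hχ y hy hy1
    obtain ⟨hB, hY⟩ := D.mem_Xf.mp hχ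
    exact D.apply_eq_of_notMem_range hB hY ⟨y, hy⟩ (fun e => hy1 (congrArg Subtype.val e))
  have hk : ∀ j j', ∑ y : (P : Subgroup G), (D.μ j : G → ℂ) y = ∑ y : (P : Subgroup G), (D.μ j' : G → ℂ) y :=
    fun j j' => sum_mu_eq D j j'
  refine ⟨?_, ?_, hX, ?_, ha, hval, hε, ?_, hreg, ?_, ?_, ?_⟩
  · have h0 : one' G = oneIrr G := rfl
    rw [h0]
    exact D.mem_Xf.mpr ⟨self_mem_blockOf (oneIrr G), D.one_notMem_range⟩
  · rw [Finset.disjoint_left]
    intro χ h1 h2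
    exact (D.mem_Xf.mp h1).2 ((hmemY χ).mp h2)
  · rw [Finset.card_image_of_injective _ D.μ_inj, Finset.card_univ, Fintype.card_fin]
  · intro θ hθ θ' hθ' g hg
    obtain ⟨j, -, rfl⟩ := Finset.mem_image.mp hθ
    obtain ⟨j', -, rfl⟩ := Finset.mem_image.mp hθ'
    exact D.μ_regular j j' hg
  · intro χ hχ hχ' y hy hy1
    apply vanish_off_principal hsetup hP hC _ hy hy1
    intro hB
    by_cases h2 : χ ∈ Set.range D.μ
    · exact hχ' ((hmemY χ).mpr h2)
    · exact hχ (D.mem_Xf.mpr ⟨hB, h2⟩)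
  · intro y hy hy1
    have h1 := hsetup.column_one hy hy1
    rw [hsplit (fun χ => (χ : G → ℂ) y * conj ((χ : G → ℂ) 1))] at h1
    have h2 : ∑ χ ∈ D.Xf, (χ : G → ℂ) y * conj ((χ : G → ℂ) 1) = ∑ χ ∈ D.Xf, (D.valD χ : ℂ) * (χ : G → ℂ) 1 := by
      refine Finset.sum_congr rfl fun χ hχ => ?_
      rw [hval χ hχ y hy hy1, hdeg]
    have h3 : ∑ j, (D.μ j : G → ℂ) y * conj ((D.μ j : G → ℂ) 1) = (∑ j, (D.μ j : G → ℂ) y) * (D.μ D.i₀ : G → ℂ) 1 := by
      rw [Finset.sum_mul]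
      refine Finset.sum_congr rfl fun j _ => ?_
      rw [hdeg, D.μ_regular j D.i₀ hone]
    rw [h2, h3] at h1
    have h4 := hreg (D.μ D.i₀) (Finset.mem_image_of_mem _ (Finset.mem_univ _)) 1 hone
    have hη1 : (D.μ D.i₀ : G → ℂ) 1 ≠ 0 := IsIrrCharacter.apply_one_ne_zero (D.μ D.i₀).2
    rw [Finset.sum_image (fun a _ b _ e => D.μ_inj e)]
    apply mul_right_cancel₀ hη1
    linear_combination h1 + h4
  · intro inst θ hθ θ' hθ'
    obtain ⟨j, -, rfl⟩ := Finset.mem_image.mp hθ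
    obtain ⟨j', -, rfl⟩ := Finset.mem_image.mp hθ'
    have h1 := hk j j'
    convert h1

/-- The data for `r = 1`. -/
structure CoreOne (P : Sylow p G) (X : Finset (IrrCharacter G)) (δ : IrrCharacter G → ℤ) : Prop where
  one_mem : one' G ∈ X
  cardX : X.card = p
  sign : ∀ χ ∈ X, δ χ = 1 ∨ δ χ = -1
  val : ∀ χ ∈ X, ∀ y ∈ (P : Subgroup G), y ≠ 1 → (χ : G → ℂ) y = (δ χ : ℂ)
  reg : ∀ g : G, ¬ p ∣ orderOf g → ∑ χ ∈ X, (δ χ : ℂ) * (χ : G → ℂ) g = 0
  vanish : ∀ χ : IrrCharacter G, χ ∉ X → ∀ y ∈ (P : Subgroup G), y ≠ 1 → (χ : G → ℂ) y = 0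

/-- Existence of the data when `r = 1`. -/
theorem exists_coreOne {M : Ideal AlgInt} (hM : IsPModular p M) (hp2 : p ≠ 2) (P : Sylow p G) (hP : Nat.card (P : Subgroup G) = p)
    (hC : Nat.card (centralizer ((P : Subgroup G) : Set G)) = p)
    (hCN : (centralizer ((P : Subgroup G) : Set G)).relIndex (normalizer ((P : Subgroup G) : Set G)) = p - 1) :
    ∃ (X : Finset (IrrCharacter G)) (δ : IrrCharacter G → ℤ), CoreOne P X δ := by
  classical
  have hpp : p.Prime := hp.out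
  have hp1 := hpp.two_le
  have hsetup := frobSetup_of_card hM P hP
  have := isPrime_of_modular hM
  obtain ⟨X₀, Y₀, hB, hdis, hXc, hYc, δ₀, ε, hδ, hε, hdeg, hagree, hrel⟩ := principalConclusion hM hp2 P hP hCN
  have hY1 : Nat.card Y₀ = 1 := by
    rw [hYc]
    exact Nat.div_self (by omega)
  rw [Nat.card_coe_set_eq] at hY1
  obtain ⟨θ, hYeq⟩ := Set.ncard_eq_one.mp hY1
  have hθ : θ ∈ Y₀ := by rw [hYeq]; rfl
  have hXf : X₀.Finite := Set.toFinite X₀
  have hθX : θ ∉ hXf.toFinset := by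
    intro h
    exact Set.disjoint_left.mp hdis (hXf.mem_toFinset.mp h) hθ
  have hone : ¬ p ∣ orderOf (1 : G) := by
    rw [orderOf_one]
    exact hpp.one_lt.ne' ∘ Nat.dvd_one.mp
  have hval₀ : ∀ χ ∈ X₀, ∀ y ∈ (P : Subgroup G), y ≠ 1 → (χ : G → ℂ) y = (δ₀ χ : ℂ) := by
    intro χ hχ y hy hy1
    have h1 := (hδ χ hχ).2.2 y hy hy1 1 (one_mem _) hone
    simpa using h1
  have hdegc : ∀ χ : IrrCharacter G, conj ((χ : G → ℂ) 1) = (χ : G → ℂ) 1 := by
    intro χ
    rw [apply_one_eq_charDegree (IsIrrCharacter.isCharacter χ.2), Complex.conj_natCast]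
  have hreg₀ : ∀ g : G, ¬ p ∣ orderOf g → (ε : ℂ) * (θ : G → ℂ) g = ∑ χ ∈ hXf.toFinset, (δ₀ χ : ℂ) * (χ : G → ℂ) g := by
    intro g hg
    rw [hrel θ hθ g hg, finsum_mem_eq_finite_toFinset_sum _ hXf]
  have hsplit : ∀ F : IrrCharacter G → ℂ, ∑ χ : IrrCharacter G, indic (principalBlock M G) χ * F χ =
      ∑ χ ∈ hXf.toFinset, F χ + F θ := by
    intro F
    have hYf : Y₀.Finite := Set.toFinite Y₀
    rw [← finsum_mem_eq_sum_indic, hB, finsum_mem_union hdis hXf hYf,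
      finsum_mem_eq_finite_toFinset_sum _ hXf, hYeq, finsum_mem_singleton]
  have hvalθ : ∀ y ∈ (P : Subgroup G), y ≠ 1 → (θ : G → ℂ) y = ((-ε : ℤ) : ℂ) := by
    intro y hy hy1
    have h1 := hsetup.column_one hy hy1
    rw [hsplit (fun χ => (χ : G → ℂ) y * conj ((χ : G → ℂ) 1))] at h1
    have h2 : ∑ χ ∈ hXf.toFinset, (χ : G → ℂ) y * conj ((χ : G → ℂ) 1) = ∑ χ ∈ hXf.toFinset, (δ₀ χ : ℂ) * (χ : G → ℂ) 1 := by
      refine Finset.sum_congr rfl fun χ hχ => ?_
      rw [hval₀ χ (hXf.mem_toFinset.mp hχ) y hy hy1, hdegc]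
    rw [h2, ← hreg₀ 1 hone, hdegc] at h1
    have hη1 : (θ : G → ℂ) 1 ≠ 0 := IsIrrCharacter.apply_one_ne_zero θ.2
    apply mul_right_cancel₀ hη1
    push_cast
    linear_combination h1
  let δ : IrrCharacter G → ℤ := fun χ => if χ = θ then -ε else δ₀ χ
  have hδX : ∀ χ ∈ hXf.toFinset, δ χ = δ₀ χ := by
    intro χ hχ
    have : χ ≠ θ := fun e => hθX (e ▸ hχ)
    simp [δ, this]
  have hδθ : δ θ = -ε := by simp [δ]
  refine ⟨insert θ hXf.toFinset, δ, ?_, ?_, ?_, ?_, ?_, ?_⟩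
  · have h1 : one' G ∈ principalBlock M G := self_mem_blockOf (oneIrr G)
    rw [hB] at h1
    rcases h1 with h1 | h1
    · exact Finset.mem_insert_of_mem (hXf.mem_toFinset.mpr h1)
    · rw [hYeq] at h1
      rw [Set.mem_singleton_iff.mp h1]
      exact Finset.mem_insert_self _ _
  · rw [Finset.card_insert_of_notMem hθX, ← Set.ncard_eq_toFinset_card _ hXf, ← Nat.card_coe_set_eq, hXc]
    omega
  · intro χ hχ
    rcases Finset.mem_insert.mp hχ with rfl | h
    · rw [hδθ]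
      rcases hε with h | h <;> simp [h]
    · rw [hδX χ h]
      exact (hδ χ (hXf.mem_toFinset.mp h)).1
  · intro χ hχ y hy hy1
    rcases Finset.mem_insert.mp hχ with rfl | h
    · rw [hδθ]
      exact hvalθ y hy hy1
    · rw [hδX χ h]
      exact hval₀ χ (hXf.mem_toFinset.mp h) y hy hy1
  · intro g hg
    rw [Finset.sum_insert hθX, hδθ, Finset.sum_congr rfl (fun χ hχ => by rw [hδX χ hχ]), ← hreg₀ g hg]
    push_cast
    ring
  · intro χ hχ y hy hy1
    apply vanish_off_principal hsetup hP hC _ hy hy1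
    intro hB'
    rw [hB] at hB'
    rcases hB' with h1 | h1
    · exact hχ (Finset.mem_insert_of_mem (hXf.mem_toFinset.mpr h1))
    · rw [hYeq] at h1
      rw [Set.mem_singleton_iff.mp h1] at hχ
      exact hχ (Finset.mem_insert_self _ _)

end Cfsg.Agent.Lib.Small.BD
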