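import Mathlib
import Cfsg.Agent.Lib.Small.BrauerInd
import Cfsg.Agent.Lib.Small.BrauerKill2
import Cfsg.Agent.S1230

/-! The group-theoretic end of Brauer's theorem. -/

set_option autoImplicit false
set_option linter.unusedSectionVars false
set_option linter.unusedVariables false

namespace Cfsg.Agent.Lib.Small.BD

open Cfsg Cfsg.Agent.Lib.Char Subgroup
open scoped Pointwise

universe u

variable {G : Type u} [Group G] {p : ℕ} [hp : Fact p.Prime]

section Basic

variable {P : Subgroup G} {t : G}

theorem eq_one_of_mul_self (hP : Nat.card P = p) (hp2 : p ≠ 2) {y : G} (hy : y ∈ P) (h : y * y = 1) : y = 1 := by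
  have h6 : orderOf y ∣ 2 := orderOf_dvd_of_pow_eq_one (by rw [pow_two, h])
  have h7 : orderOf (⟨y, hy⟩ : P) ∣ Nat.card P := orderOf_dvd_natCard _
  rw [hP, Subgroup.orderOf_mk] at h7
  rcases (Nat.dvd_prime hp.out).mp h7 with h8 | h8
  · exact orderOf_eq_one_iff.mp h8
  · rw [h8] at h6
    exact absurd ((Nat.prime_dvd_prime_iff_eq hp.out Nat.prime_two).mp h6) hp2

/-- An element of the coset `tP` commuting with `t` is `t`. -/
theorem eq_of_commute_mul (hP : Nat.card P = p) (hp2 : p ≠ 2) (ht : t * t = 1) (hinv : ∀ y ∈ P, t * y * t⁻¹ = y⁻¹)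
    {y : G} (hy : y ∈ P) (hc : t * (t * y) = (t * y) * t) : y = 1 := by
  have htinv : t⁻¹ = t := inv_eq_of_mul_eq_one_left ht
  have h1 := hinv y hy
  rw [htinv] at h1
  have h2 : y = t * y * t := by
    calc y = (t * t) * y := by rw [ht, one_mul]
      _ = t * (t * y) := by group
      _ = t * y * t := hc
  rw [← h2] at h1
  apply eq_one_of_mul_self hP hp2 hy
  nth_rewrite 1 [h1]
  simp

/-- An involution of the normalizer lies in `tP`. -/
theorem mem_of_invol [Fintype G] (hP : Nat.card P = p) (hp2 : p ≠ 2)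
    (hC : ∀ x, x ∈ centralizer (P : Set G) → x ∈ P) (ht : t * t = 1)
    (hinv : ∀ y ∈ P, t * y * t⁻¹ = y⁻¹) {x : G} (hx : x ∈ normalizer (P : Set G)) (hx2 : x * x = 1) (hx1 : x ≠ 1) :
    t⁻¹ * x ∈ P := by
  have htinv : t⁻¹ = t := inv_eq_of_mul_eq_one_left ht
  have hxC : x ∉ centralizer (P : Set G) := by
    intro hxc
    exact hx1 (eq_one_of_mul_self hP hp2 (hC x hxc) hx2)
  have hxinv := inverts_of_not_centralizer (p := p) P hP hx2 hx hxC
  apply hC
  rw [mem_centralizer_iff]
  intro y hy
  have h1 : x * y * x⁻¹ = y⁻¹ := hxinv y hy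
  have hxi : x⁻¹ = x := inv_eq_of_mul_eq_one_left hx2
  have h2 : x * y = y⁻¹ * x := by
    rw [← h1, hxi]
    calc x * y = x * y * (x * x) := by rw [hx2, mul_one]
      _ = x * y * x * x := by group
  have h3 := hinv y⁻¹ (inv_mem hy)
  rw [inv_inv] at h3
  rw [htinv] at h3 ⊢
  have h4 : t * y⁻¹ = y * t := by
    calc t * y⁻¹ = t * y⁻¹ * (t * t) := by rw [ht, mul_one]
      _ = t * y⁻¹ * t * t := by group
      _ = y * t := by rw [h3]
  calc y * (t * x) = (y * t) * x := by group
    _ = (t * y⁻¹) * x := by rw [h4]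
    _ = t * (y⁻¹ * x) := by group
    _ = t * (x * y) := by rw [h2]
    _ = t * x * y := by group

end Basic

section End

variable [Fintype G] {P : Subgroup G} {t : G} [DecidableEq G] [Fintype {x : G // IsConj t x}]

omit [Fintype G] [DecidableEq G] in
theorem commute_of_pair {u v t : G} (hu : u * u = 1) (hv : v * v = 1) (h : u * v = t) (ht : t * t = 1) : u * t = t * u := by
  subst h
  have h1 : u * v * u = v := by
    calc u * v * u = u * v * u * (v * v) := by rw [hv, mul_one]
      _ = (u * v) * (u * v) * v := by group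
      _ = v := by rw [ht, one_mul]
  calc u * (u * v) = (u * u) * v := by group
    _ = v := by rw [hu, one_mul]
    _ = u * v * u := h1.symm

/-- The fibres of conjugation on the normalizer. -/
theorem le_card_inter {m : ℕ} [DecidablePred fun x : G => x ∈ centralizer ({t} : Set G) ∧ x ∈ normalizer (P : Set G)]
    (hP : Nat.card P = p) (hp2 : p ≠ 2) (hC : ∀ x, x ∈ centralizer (P : Set G) → x ∈ P) (ht : t * t = 1)
    (hinv : ∀ y ∈ P, t * y * t⁻¹ = y⁻¹) (hm : Nat.card (normalizer (P : Set G)) = p * m) :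
    m ≤ (Finset.univ.filter fun x : G => x ∈ centralizer ({t} : Set G) ∧ x ∈ normalizer (P : Set G)).card := by
  classical
  letI : Fintype P := Fintype.ofFinite _
  set T := Finset.univ.filter fun x : G => x ∈ centralizer ({t} : Set G) ∧ x ∈ normalizer (P : Set G) with hT
  set N' := Finset.univ.filter fun x : G => x ∈ normalizer (P : Set G) with hN'
  have hN'card : N'.card = p * m := by
    rw [← hm, Nat.card_eq_fintype_card, Fintype.card_subtype]
  let U : Finset G := Finset.univ.image (fun y : P => t * (y : G))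
  have hU : U.card ≤ p := by
    refine (Finset.card_image_le).trans ?_
    rw [Finset.card_univ, ← Nat.card_eq_fintype_card, hP]
  have htN := mem_normalizer_of_inverts (P := P) ht hinv
  have hmap : ∀ a ∈ N', a * t * a⁻¹ ∈ U := by
    intro a ha
    have ha' := (Finset.mem_filter.mp ha).2
    have h1 : a * t * a⁻¹ ∈ normalizer (P : Set G) := mul_mem (mul_mem ha' htN) (inv_mem ha')
    have h2 := mem_of_isConj hP hp2 hC ht hinv h1 (isConj_iff.mpr ⟨a, rfl⟩)
    refine Finset.mem_image.mpr ⟨⟨_, h2⟩, Finset.mem_univ _, ?_⟩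
    simp
  have hfib : ∀ b ∈ U, (N'.filter fun a => a * t * a⁻¹ = b).card ≤ T.card := by
    intro b _
    by_cases hne : (N'.filter fun a => a * t * a⁻¹ = b).Nonempty
    · obtain ⟨a₀, ha₀⟩ := hne
      have ha₀N := (Finset.mem_filter.mp (Finset.mem_filter.mp ha₀).1).2
      have ha₀b := (Finset.mem_filter.mp ha₀).2
      refine Finset.card_le_card_of_injOn (fun a => a₀⁻¹ * a) ?_ ?_
      · intro a ha
        have ha1 := Finset.mem_coe.mp ha
        have haN := (Finset.mem_filter.mp (Finset.mem_filter.mp ha1).1).2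
        have hab := (Finset.mem_filter.mp ha1).2
        refine Finset.mem_coe.mpr (Finset.mem_filter.mpr ⟨Finset.mem_univ _, ?_, mul_mem (inv_mem ha₀N) haN⟩)
        rw [mem_centralizer_singleton_iff]
        have h3 : a * t * a⁻¹ = a₀ * t * a₀⁻¹ := by rw [hab, ha₀b]
        have h4 : a₀⁻¹ * (a * t * a⁻¹) * a₀ = t := by
          rw [h3]
          group
        show a₀⁻¹ * a * t = t * (a₀⁻¹ * a)
        calc a₀⁻¹ * a * t = (a₀⁻¹ * (a * t * a⁻¹) * a₀) * (a₀⁻¹ * a) := by group
          _ = t * (a₀⁻¹ * a) := by rw [h4]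
      · intro a _ a' _ e
        exact mul_left_cancel e
    · rw [Finset.not_nonempty_iff_eq_empty.mp hne]
      simp
  have h := Finset.card_le_mul_card_image_of_maps_to hmap T.card hfib
  rw [hN'card] at h
  have h2 : T.card * U.card ≤ T.card * p := Nat.mul_le_mul_left _ hU
  have h3 : p * m ≤ p * T.card := by
    rw [mul_comm p T.card]
    exact h.trans h2
  exact Nat.le_of_mul_le_mul_left h3 hp.out.pos

/-- The end. -/
theorem group_end {m r n : ℕ} (hP : Nat.card P = p) (hp2 : p ≠ 2)
    (hC : ∀ x, x ∈ centralizer (P : Set G) → x ∈ P) (ht : t * t = 1) (ht1 : t ≠ 1)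
    (hinv : ∀ y ∈ P, t * y * t⁻¹ = y⁻¹) (hm : Nat.card (normalizer (P : Set G)) = p * m) (hm0 : 0 < m)
    (hCt : Nat.card (centralizer ({t} : Set G)) = m * r) (hL : pairCount t t = m * n) (hn : n + 1 = r) (hn2 : 2 ≤ n) :
    m = 2 ∧ ∀ x ∈ centralizer ({t} : Set G), x = 1 ∨ IsConj t x := by
  classical
  have htinv : t⁻¹ = t := inv_eq_of_mul_eq_one_left ht
  have htN := mem_normalizer_of_inverts (P := P) ht hinv
  have hinvol : ∀ x : G, IsConj t x → x * x = 1 := by
    intro x hx
    obtain ⟨c, rfl⟩ := isConj_iff.mp hx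
    calc c * t * c⁻¹ * (c * t * c⁻¹) = c * (t * t) * c⁻¹ := by group
      _ = 1 := by rw [ht]; group
  set H := centralizer ({t} : Set G) with hH
  set N := normalizer (P : Set G) with hN
  set T := Finset.univ.filter fun x : G => x ∈ H ∧ x ∈ N with hT
  set S := Finset.univ.filter fun x : G => x ∈ H ∧ x ∉ N with hS
  have hTle : m ≤ T.card := le_card_inter hP hp2 hC ht hinv hm
  have hTS : T.card + S.card = m * r := by
    rw [← hCt, hT, hS, Nat.card_eq_fintype_card, Fintype.card_subtype, ← Finset.card_union_of_disjoint]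
    · congr 1
      ext x
      simp only [Finset.mem_union, Finset.mem_filter, Finset.mem_univ, true_and]
      tauto
    · rw [Finset.disjoint_left]
      intro x h1 h2
      exact (Finset.mem_filter.mp h2).2.2 (Finset.mem_filter.mp h1).2.2
  -- the first members of pairs
  set Q := (Finset.univ : Finset ({x : G // IsConj t x} × {x : G // IsConj t x})).filter
    (fun q => (q.1 : G) * (q.2 : G) = t) with hQ
  have hQc : Q.card = m * n := hL
  let e : {x : G // IsConj t x} × {x : G // IsConj t x} → G := fun q => (q.1 : G)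
  have hinj : Set.InjOn e Q := by
    intro q hq q' hq' heq
    have h1 := (Finset.mem_filter.mp (Finset.mem_coe.mp hq)).2
    have h2 := (Finset.mem_filter.mp (Finset.mem_coe.mp hq')).2
    have h3 : (q.1 : G) = q'.1 := heq
    refine Prod.ext (Subtype.ext h3) (Subtype.ext ?_)
    rw [h3] at h1
    exact mul_left_cancel (h1.trans h2.symm)
  have hmaps : ∀ q ∈ Q, e q ∈ S := by
    intro q hq
    have h1 := (Finset.mem_filter.mp hq).2
    have hu := hinvol _ q.1.2
    have hv := hinvol _ q.2.2
    have hcomm : (q.1 : G) * t = t * q.1 := commute_of_pair hu hv h1 ht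
    refine Finset.mem_filter.mpr ⟨Finset.mem_univ _, ?_, ?_⟩
    · rw [hH, mem_centralizer_singleton_iff]
      exact hcomm
    · intro hN1
      have h6 := mem_of_isConj hP hp2 hC ht hinv hN1 q.1.2
      have h7 := eq_of_commute_mul hP hp2 ht hinv h6 (by
        have e1 : t * (t⁻¹ * (q.1 : G)) = q.1 := by group
        rw [e1]
        exact hcomm.symm)
      have h8 : (q.1 : G) = t := by
        have e1 : t * (t⁻¹ * (q.1 : G)) = q.1 := by group
        rw [← e1, h7, mul_one]
      rw [h8] at h1
      have h9 : (q.2 : G) = 1 := by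
        apply mul_left_cancel (a := t)
        rw [h1, mul_one]
      obtain ⟨c, hc⟩ := isConj_iff.mp q.2.2
      apply ht1
      rw [h9] at hc
      calc t = c⁻¹ * (c * t * c⁻¹) * c := by group
        _ = 1 := by rw [hc]; group
  have hQS : Q.card ≤ S.card := Finset.card_le_card_of_injOn e hmaps hinj
  have hrr : m * r = m * n + m := by rw [← hn]; ring
  have hScard : S.card = m * n := by omega
  have hTcard : T.card = m := by omega
  have himg : Q.image e = S := by
    apply Finset.eq_of_subset_of_card_le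
    · intro x hx
      obtain ⟨q, hq, rfl⟩ := Finset.mem_image.mp hx
      exact hmaps q hq
    · rw [Finset.card_image_of_injOn hinj, hQc, hScard]
  have hconjS : ∀ x ∈ S, IsConj t x := by
    intro x hx
    rw [← himg] at hx
    obtain ⟨q, -, rfl⟩ := Finset.mem_image.mp hx
    exact q.1.2
  have hS2 : ∀ x ∈ S, x * x = 1 := fun x hx => hinvol x (hconjS x hx)
  have hmn : m * 2 ≤ m * n := Nat.mul_le_mul_left _ hn2
  have hSne : S.Nonempty := by
    rw [← Finset.card_pos]
    omega
  obtain ⟨c, hc⟩ := hSne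
  have hcH := (Finset.mem_filter.mp hc).2.1
  have hcN := (Finset.mem_filter.mp hc).2.2
  obtain ⟨c', hc', hc'T⟩ := Finset.exists_mem_notMem_of_card_lt_card (s := T.image (fun x => c * x)) (t := S) (by
    have := Finset.card_image_le (s := T) (f := fun x => c * x)
    omega)
  have hc'H := (Finset.mem_filter.mp hc').2.1
  have hc'N := (Finset.mem_filter.mp hc').2.2
  have hcc : c * c = 1 := hS2 c hc
  have hcc' : c' * c' = 1 := hS2 c' hc'
  have hprodS : c * c' ∈ S := by
    refine Finset.mem_filter.mpr ⟨Finset.mem_univ _, mul_mem hcH hc'H, ?_⟩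
    intro hN1
    apply hc'T
    refine Finset.mem_image.mpr ⟨c * c', Finset.mem_filter.mpr ⟨Finset.mem_univ _, mul_mem hcH hc'H, hN1⟩, ?_⟩
    rw [← mul_assoc, hcc, one_mul]
  have hmulS : ∀ u ∈ S, ∀ x ∈ T, u * x ∈ S := by
    intro u hu x hx
    have huH := (Finset.mem_filter.mp hu).2.1
    have huN := (Finset.mem_filter.mp hu).2.2
    have hxH := (Finset.mem_filter.mp hx).2.1
    have hxN := (Finset.mem_filter.mp hx).2.2
    refine Finset.mem_filter.mpr ⟨Finset.mem_univ _, mul_mem huH hxH, ?_⟩
    intro h1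
    apply huN
    have h2 := mul_mem h1 (inv_mem hxN)
    simpa using h2
  have hexp : ∀ x ∈ T, x * x = 1 := by
    intro x hx
    have h1 : c * x * (c * x) = 1 := hS2 _ (hmulS c hc x hx)
    have h2 : c' * x * (c' * x) = 1 := hS2 _ (hmulS c' hc' x hx)
    have h3 : c * c' * x * (c * c' * x) = 1 := hS2 _ (hmulS _ hprodS x hx)
    have h4 : c * c' * (c * c') = 1 := hS2 _ hprodS
    -- `c x c = x⁻¹`
    have e1 : c * x * c = x⁻¹ := by
      apply mul_right_cancel (b := x)
      rw [inv_mul_cancel, ← h1]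
      group
    have e2 : c' * x * c' = x⁻¹ := by
      apply mul_right_cancel (b := x)
      rw [inv_mul_cancel, ← h2]
      group
    have e3 : (c * c') * x * (c * c') = x⁻¹ := by
      apply mul_right_cancel (b := x)
      rw [inv_mul_cancel, ← h3]
      group
    have e4 : c' * c = c * c' := by
      have h5 : (c * c')⁻¹ = c * c' := inv_eq_of_mul_eq_one_left h4
      rw [mul_inv_rev, inv_eq_of_mul_eq_one_left hcc', inv_eq_of_mul_eq_one_left hcc] at h5
      exact h5
    have e5 : (c * c') * x * (c * c') = x := by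
      have hc1 : c⁻¹ = c := inv_eq_of_mul_eq_one_left hcc
      calc (c * c') * x * (c * c') = (c * c') * x * (c' * c) := by rw [e4]
        _ = c * (c' * x * c') * c := by group
        _ = c * x⁻¹ * c := by rw [e2]
        _ = (c * x * c)⁻¹ := by
          rw [mul_inv_rev, mul_inv_rev, hc1]
          group
        _ = x := by rw [e1, inv_inv]
    rw [e3] at e5
    nth_rewrite 1 [← e5]
    simp
  have hTsub : ∀ x ∈ T, x = 1 ∨ x = t := by
    intro x hx
    by_cases hx1 : x = 1
    · exact Or.inl hx1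
    · right
      have hxH := (Finset.mem_filter.mp hx).2.1
      have hxN := (Finset.mem_filter.mp hx).2.2
      have h1 := mem_of_invol hP hp2 hC ht hinv hxN (hexp x hx) hx1
      have e1 : t * (t⁻¹ * x) = x := by group
      have h2 := eq_of_commute_mul hP hp2 ht hinv h1 (by
        rw [e1]
        exact (mem_centralizer_singleton_iff.mp hxH).symm)
      rw [← e1, h2, mul_one]
  have h1T : (1 : G) ∈ T := Finset.mem_filter.mpr ⟨Finset.mem_univ _, one_mem _, one_mem _⟩
  have htT : t ∈ T := Finset.mem_filter.mpr ⟨Finset.mem_univ _, by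
    rw [hH, mem_centralizer_singleton_iff], htN⟩
  have hTeq : T = {1, t} := by
    ext x
    simp only [Finset.mem_insert, Finset.mem_singleton]
    constructor
    · exact hTsub x
    · rintro (rfl | rfl)
      · exact h1T
      · exact htT
  constructor
  · rw [← hTcard, hTeq, Finset.card_pair (Ne.symm ht1)]
  · intro x hx
    by_cases hxN : x ∈ N
    · rcases hTsub x (Finset.mem_filter.mpr ⟨Finset.mem_univ _, hx, hxN⟩) with h | h
      · exact Or.inl h
      · rw [h]
        exact Or.inr (IsConj.refl t)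
    · exact Or.inr (hconjS x (Finset.mem_filter.mpr ⟨Finset.mem_univ _, hx, hxN⟩))

end End

/-- Once the centralizer of `t` consists of `1` and conjugates of `t`, the group is `PSL(2, 2^k)`. -/
theorem psl_of_exp [Finite G] [IsSimpleGroup G] (hnc : ¬ IsMulCommutative G) {t : G} (ht : orderOf t = 2)
    (hexp : ∀ x ∈ centralizer ({t} : Set G), x = 1 ∨ IsConj t x) {c : ℕ}
    (hcard : Nat.card G = Nat.card (centralizer ({t} : Set G)) * c) (hc : ¬ 2 ∣ c)
    (h2 : 2 < Nat.card (centralizer ({t} : Set G))) :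
    ∃ (k : ℕ) (F : Type) (_ : Field F) (_ : Fintype F), Fintype.card F = 2 ^ k ∧
      Nat.card (centralizer ({t} : Set G)) = 2 ^ k ∧ Nonempty (G ≃* Matrix.ProjectiveSpecialLinearGroup (Fin 2) F) := by
  classical
  set H := centralizer ({t} : Set G) with hH
  have ht2 : t * t = 1 := by
    rw [← pow_two, ← ht]
    exact pow_orderOf_eq_one t
  have hconj2 : ∀ x : G, IsConj t x → x * x = 1 := by
    intro x hx
    obtain ⟨a, rfl⟩ := isConj_iff.mp hx
    calc a * t * a⁻¹ * (a * t * a⁻¹) = a * (t * t) * a⁻¹ := by group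
      _ = 1 := by rw [ht2]; group
  have hH2 : ∀ x ∈ H, x * x = 1 := by
    intro x hx
    rcases hexp x hx with h | h
    · rw [h, one_mul]
    · exact hconj2 x h
  have hHp : IsPGroup 2 H := by
    intro x
    refine ⟨1, ?_⟩
    apply Subtype.ext
    simp only [pow_one, pow_two, Subgroup.coe_mul, Subgroup.coe_one]
    exact hH2 x x.2
  obtain ⟨T, hT⟩ := hHp.exists_le_sylow
  have hTeq : (T : Subgroup G) = H := by
    symm
    obtain ⟨k, hk⟩ := Subgroup.card_dvd_of_le hT
    obtain ⟨a, ha⟩ := IsPGroup.iff_card.mp T.isPGroup'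
    have hTG := Subgroup.card_subgroup_dvd_card (T : Subgroup G)
    rw [hcard, hk] at hTG
    have h3 : k ∣ c := Nat.dvd_of_mul_dvd_mul_left Nat.card_pos hTG
    have h4 : k ∣ 2 ^ a := ⟨Nat.card H, by rw [← ha, hk, mul_comm]⟩
    obtain ⟨j, -, rfl⟩ := (Nat.dvd_prime_pow Nat.prime_two).mp h4
    have hj : j = 0 := by
      by_contra hj
      apply hc
      exact (dvd_pow_self 2 hj).trans h3
    rw [hj, pow_zero, mul_one] at hk
    exact Subgroup.eq_of_le_of_card_ge hT (by omega)
  have hTH : Nat.card (T : Subgroup G) = Nat.card H := by rw [hTeq]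
  have hall : ∀ t' : G, orderOf t' = 2 → IsConj t t' := by
    intro t' ht'
    have hp' : IsPGroup 2 (zpowers t') := by
      refine IsPGroup.iff_card.mpr ⟨1, ?_⟩
      rw [Nat.card_zpowers, ht', pow_one]
    obtain ⟨T', hT'⟩ := hp'.exists_le_sylow
    obtain ⟨g, hg⟩ := MulAction.exists_smul_eq G T T'
    have h3 : t' ∈ (T' : Subgroup G) := hT' (mem_zpowers t')
    rw [← hg] at h3
    have h4 : g⁻¹ * t' * g ∈ H := by
      rw [← hTeq]
      have h5 : t' ∈ (MulAut.conj g • (T : Subgroup G)) := h3
      obtain ⟨x, hx, hxe⟩ := (Subgroup.mem_smul_pointwise_iff_exists _ _ _).mp h5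
      rw [← hxe, MulAut.smul_def, MulAut.conj_apply]
      have : g⁻¹ * (g * x * g⁻¹) * g = x := by group
      rw [this]
      exact hx
    rcases hexp _ h4 with h5 | h5
    · exfalso
      have h6 : t' = 1 := by
        have : t' = g * (g⁻¹ * t' * g) * g⁻¹ := by group
        rw [this, h5]
        group
      rw [h6, orderOf_one] at ht'
      omega
    · refine h5.trans ?_
      exact isConj_iff.mpr ⟨g, by group⟩
  have hcyc : ¬ IsCyclic (T : Subgroup G) := by
    intro hcy
    obtain ⟨g, hg⟩ := IsCyclic.exists_generator (α := (T : Subgroup G))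
    have h3 := orderOf_eq_card_of_forall_mem_zpowers hg
    have h4 : g * g = 1 := by
      apply Subtype.ext
      exact hH2 g (by rw [← hTeq]; exact g.2)
    have h5 : orderOf g ∣ 2 := orderOf_dvd_of_pow_eq_one (by rw [pow_two, h4])
    have h6 := Nat.le_of_dvd (by norm_num) h5
    omega
  have hnorm : ¬ (T : Subgroup G).Normal := by
    intro hn
    rcases IsSimpleGroup.eq_bot_or_eq_top_of_normal _ hn with h | h
    · rw [h] at hTH
      simp at hTH
      omega
    · apply hnc
      have hall2 : ∀ x : G, x * x = 1 := by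
        intro x
        apply hH2
        rw [← hTeq, h]
        trivial
      refine ⟨⟨fun a b => ?_⟩⟩
      have h3 := hall2 (a * b)
      have h4 := hall2 a
      have h5 := hall2 b
      have h6 : a⁻¹ = a := inv_eq_of_mul_eq_one_left h4
      have h7 : b⁻¹ = b := inv_eq_of_mul_eq_one_left h5
      have h8 : (a * b)⁻¹ = a * b := inv_eq_of_mul_eq_one_left h3
      rw [mul_inv_rev, h6, h7] at h8
      exact h8.symm
  have hCent : ∀ t' : G, orderOf t' = 2 → IsMulCommutative (centralizer ({t'} : Set G)) ∧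
      ∀ c ∈ centralizer ({t'} : Set G), c ^ 2 = 1 := by
    intro t' ht'
    obtain ⟨a, ha⟩ := isConj_iff.mp (hall t' ht')
    have h3 : ∀ c ∈ centralizer ({t'} : Set G), c * c = 1 := by
      intro c hc
      have h4 : a⁻¹ * c * a ∈ H := by
        rw [hH, mem_centralizer_singleton_iff]
        have h5 : c * t' = t' * c := mem_centralizer_singleton_iff.mp hc
        rw [← ha] at h5
        calc a⁻¹ * c * a * t = a⁻¹ * (c * (a * t * a⁻¹)) * a := by group
          _ = a⁻¹ * ((a * t * a⁻¹) * c) * a := by rw [h5]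
          _ = t * (a⁻¹ * c * a) := by group
      have h5 := hH2 _ h4
      have h6 : c * c = a * (a⁻¹ * c * a * (a⁻¹ * c * a)) * a⁻¹ := by group
      rw [h6, h5]
      group
    refine ⟨⟨⟨fun x y => ?_⟩⟩, fun c hc => by rw [pow_two]; exact h3 c hc⟩
    apply Subtype.ext
    have h4 := h3 _ (x * y).2
    have h5 := h3 _ x.2
    have h6 := h3 _ y.2
    simp only [Subgroup.coe_mul] at h4 ⊢
    have h7 : (x : G)⁻¹ = x := inv_eq_of_mul_eq_one_left h5
    have h8 : (y : G)⁻¹ = y := inv_eq_of_mul_eq_one_left h6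
    have h9 : ((x : G) * y)⁻¹ = x * y := inv_eq_of_mul_eq_one_left h4
    rw [mul_inv_rev, h7, h8] at h9
    exact h9.symm
  obtain ⟨F, i1, i2, hF, hiso⟩ := Cfsg.Agent.S1230.result T hcyc hnorm hCent
  obtain ⟨a, ha⟩ := IsPGroup.iff_card.mp T.isPGroup'
  refine ⟨a, F, i1, i2, ?_, ?_, hiso⟩
  · rw [hF, ha]
  · rw [← hTH, ha]

end Cfsg.Agent.Lib.Small.BD
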