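import Mathlib
import Cfsg.Agent.Lib.Small.BrauerCore
import Cfsg.Agent.Lib.Small.BrauerArith

/-! Degrees and the partition of the irreducible characters. -/

set_option autoImplicit false
set_option linter.unusedSectionVars false
set_option linter.unusedVariables false

namespace Cfsg.Agent.Lib.Small.BD

open Cfsg Cfsg.Agent.Lib.Char Cfsg.Agent.Lib.Blocks Subgroup
open scoped ComplexConjugate

universe u

variable {G : Type u} [Group G] [Fintype G] {p : ℕ} [hp : Fact p.Prime]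

theorem sum_P_const {P : Subgroup G} [Fintype P] (hP : Nat.card P = p) {χ : G → ℂ} {a : ℂ}
    (h : ∀ y ∈ P, y ≠ 1 → χ y = a) : ∑ y : P, χ y = χ 1 + ((p : ℂ) - 1) * a := by
  classical
  rw [← Finset.add_sum_erase _ _ (Finset.mem_univ (1 : P))]
  have h1 : ∀ y ∈ (Finset.univ : Finset P).erase 1, χ y = a := fun y hy =>
    h y y.2 (fun e => Finset.ne_of_mem_erase hy (Subtype.ext e))
  rw [Finset.sum_congr rfl h1, Finset.sum_const, Finset.card_erase_of_mem (Finset.mem_univ _), Finset.card_univ,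
    ← Nat.card_eq_fintype_card, hP, nsmul_eq_mul]
  have hp1 : 1 ≤ p := hp.out.one_lt.le
  push_cast [Nat.cast_sub hp1]
  rfl

section Deg

variable [IsSimpleGroup G] (hnc : ¬ IsMulCommutative G) {P : Subgroup G} {m r n : ℕ}

include hnc

theorem degree_typeA (hP : Nat.card P = p) (hmr : p = m * r + 1) (hm : 0 < m) (hr : 0 < r) (hp3 : 3 ≤ p)
    (h2n : 2 * n ≤ p + 1) (hcard : Nat.card G = p * (m * (1 + n * p))) {χ : IrrCharacter G} (hχ : χ ≠ one' G)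
    (hv : ∀ y ∈ P, y ≠ 1 → (χ : G → ℂ) y = 1) : charDegree (χ : G → ℂ) = 1 + n * p := by
  have hd := dvd_degree_sub P hP χ 1 (by simpa using hv)
  have h1 := one_lt_degree hnc hχ
  have h2 := Nat.dvd_of_mem_divisors (degree_coprime (Or.inl rfl) hd hcard (by positivity))
  have h3 : (p : ℤ) ∣ ((charDegree (χ : G → ℂ) - 1 : ℕ) : ℤ) := by
    rw [Nat.cast_sub h1.le]
    exact_mod_cast hd
  obtain ⟨u, hu⟩ := Int.natCast_dvd_natCast.mp h3
  have hu1 : 1 ≤ u := by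
    rcases Nat.eq_zero_or_pos u with h | h
    · rw [h, mul_zero] at hu
      omega
    · exact h
  have hx : charDegree (χ : G → ℂ) = u * p + 1 := by
    rw [mul_comm] at hu
    omega
  rw [hx] at h2
  have h4 := degree_plus hmr hm hp3 hr h2n hu1 h2
  rw [hx, h4]
  ring

theorem degree_typeB (hP : Nat.card P = p) (hmr : p = m * r + 1) (hm : 0 < m) (hr : 0 < r) (hp3 : 3 ≤ p)
    (h2n : 2 * n ≤ p + 1) (hn1 : 1 ≤ n) (hcard : Nat.card G = p * (m * (1 + n * p))) {χ : IrrCharacter G}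
    (hχ : χ ≠ one' G) (hv : ∀ y ∈ P, y ≠ 1 → (χ : G → ℂ) y = -1) : charDegree (χ : G → ℂ) + 1 = p := by
  classical
  have hd := dvd_degree_sub P hP χ (-1) (by simpa using hv)
  have h1 := one_lt_degree hnc hχ
  have h2 := Nat.dvd_of_mem_divisors (degree_coprime (Or.inr rfl) hd hcard (by positivity))
  have h3 : (p : ℤ) ∣ ((charDegree (χ : G → ℂ) + 1 : ℕ) : ℤ) := by
    push_cast
    simpa using hd
  obtain ⟨u, hu⟩ := Int.natCast_dvd_natCast.mp h3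
  have hsq : charDegree (χ : G → ℂ) * charDegree (χ : G → ℂ) < p * m * (1 + n * p) := by
    have h5 := sum_degree_sq_le ({one' G, χ} : Finset (IrrCharacter G))
    rw [Finset.sum_pair (Ne.symm hχ), hcard] at h5
    have h6 : charDegree ((one' G : IrrCharacter G) : G → ℂ) = 1 := charDegree_eq (by simp)
    rw [h6] at h5
    have h7 : ((charDegree (χ : G → ℂ) * charDegree (χ : G → ℂ) + 1 : ℕ) : ℤ) ≤ ((p * (m * (1 + n * p)) : ℕ) : ℤ) := by
      push_cast at h5 ⊢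
      linarith
    have h8 : charDegree (χ : G → ℂ) * charDegree (χ : G → ℂ) + 1 ≤ p * (m * (1 + n * p)) := by exact_mod_cast h7
    have h9 : p * (m * (1 + n * p)) = p * m * (1 + n * p) := by ring
    omega
  have h4 := degree_minus hmr hm hp3 hr h2n hn1 (u := u) (x := charDegree (χ : G → ℂ)) (by rw [hu]; ring) h2 (by omega) hsq
  rw [hu, h4, mul_one]

end Deg

/-- The partition of the irreducible characters. -/
structure Pack (p : ℕ) (P : Subgroup G) (n : ℕ) (X Y A B D : Finset (IrrCharacter G)) (δ : IrrCharacter G → ℤ)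
    (d : IrrCharacter G → ℕ) : Prop where
  sumX : ∀ F : IrrCharacter G → ℂ, ∑ χ ∈ X, F χ = F (one' G) + ∑ χ ∈ A, F χ + ∑ χ ∈ B, F χ
  sumAll : ∀ F : IrrCharacter G → ℂ, ∑ χ, F χ = ∑ χ ∈ X, F χ + ∑ χ ∈ Y, F χ + ∑ χ ∈ D, F χ
  cardX : X.card = A.card + B.card + 1
  δone : δ (one' G) = 1
  δA : ∀ χ ∈ A, δ χ = 1
  δB : ∀ χ ∈ B, δ χ = -1
  valA : ∀ χ ∈ A, ∀ y ∈ P, y ≠ 1 → (χ : G → ℂ) y = 1
  valB : ∀ χ ∈ B, ∀ y ∈ P, y ≠ 1 → (χ : G → ℂ) y = -1
  valD : ∀ χ ∈ D, ∀ y ∈ P, y ≠ 1 → (χ : G → ℂ) y = 0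
  degA : ∀ χ ∈ A, charDegree (χ : G → ℂ) = 1 + n * p
  degB : ∀ χ ∈ B, charDegree (χ : G → ℂ) + 1 = p
  degD : ∀ χ ∈ D, charDegree (χ : G → ℂ) = p * d χ
  dpos : ∀ χ ∈ D, 0 < d χ
  onotA : one' G ∉ A
  notAB : Disjoint A B

theorem exists_pack_gen {P : Subgroup G} {n : ℕ} (hP : Nat.card P = p)
    (hdegA : ∀ χ : IrrCharacter G, χ ≠ one' G → (∀ y ∈ P, y ≠ 1 → (χ : G → ℂ) y = 1) → charDegree (χ : G → ℂ) = 1 + n * p)
    (hdegB : ∀ χ : IrrCharacter G, χ ≠ one' G → (∀ y ∈ P, y ≠ 1 → (χ : G → ℂ) y = -1) → charDegree (χ : G → ℂ) + 1 = p)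
    (hp3 : 3 ≤ p) {X Y : Finset (IrrCharacter G)} {δ : IrrCharacter G → ℤ}
    (one_mem : one' G ∈ X) (disj : Disjoint X Y) (sign : ∀ χ ∈ X, δ χ = 1 ∨ δ χ = -1)
    (val : ∀ χ ∈ X, ∀ y ∈ P, y ≠ 1 → (χ : G → ℂ) y = (δ χ : ℂ))
    (vanish : ∀ χ : IrrCharacter G, χ ∉ X → χ ∉ Y → ∀ y ∈ P, y ≠ 1 → (χ : G → ℂ) y = 0) :
    ∃ (A B D : Finset (IrrCharacter G)) (d : IrrCharacter G → ℕ), Pack p P n X Y A B D δ d := by
  classical
  have hP1 : Nat.card P ≠ 1 := by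
    rw [hP]
    omega
  have hne : P ≠ ⊥ := by
    intro h
    rw [h] at hP1
    simp at hP1
  obtain ⟨⟨y₀, hy₀⟩, hy₀1⟩ := Subgroup.ne_bot_iff_exists_ne_one.mp hne
  have hy₀1' : y₀ ≠ 1 := fun e => hy₀1 (Subtype.ext e)
  have hδone : δ (one' G) = 1 := by
    have h1 := val _ one_mem y₀ hy₀ hy₀1'
    have h2 : ((one' G : IrrCharacter G) : G → ℂ) y₀ = 1 := rfl
    rw [h2] at h1
    exact_mod_cast h1.symm
  let X' := X.erase (one' G)
  let A := X'.filter fun χ => δ χ = 1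
  let B := X'.filter fun χ => ¬ δ χ = 1
  let D := (X ∪ Y)ᶜ
  have hA : ∀ χ ∈ A, χ ∈ X ∧ χ ≠ one' G ∧ δ χ = 1 := by
    intro χ hχ
    have h1 := Finset.mem_filter.mp hχ
    exact ⟨Finset.mem_of_mem_erase h1.1, Finset.ne_of_mem_erase h1.1, h1.2⟩
  have hB : ∀ χ ∈ B, χ ∈ X ∧ χ ≠ one' G ∧ δ χ = -1 := by
    intro χ hχ
    have h1 := Finset.mem_filter.mp hχ
    have h2 := Finset.mem_of_mem_erase h1.1
    exact ⟨h2, Finset.ne_of_mem_erase h1.1, (sign χ h2).resolve_left h1.2⟩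
  have hD : ∀ χ ∈ D, χ ∉ X ∧ χ ∉ Y := by
    intro χ hχ
    have h1 := Finset.mem_compl.mp hχ
    rw [Finset.mem_union, not_or] at h1
    exact h1
  have hvalA : ∀ χ ∈ A, ∀ y ∈ P, y ≠ 1 → (χ : G → ℂ) y = 1 := by
    intro χ hχ y hy hy1
    obtain ⟨h1, -, h3⟩ := hA χ hχ
    rw [val χ h1 y hy hy1, h3]
    simp
  have hvalB : ∀ χ ∈ B, ∀ y ∈ P, y ≠ 1 → (χ : G → ℂ) y = -1 := by
    intro χ hχ y hy hy1
    obtain ⟨h1, -, h3⟩ := hB χ hχ
    rw [val χ h1 y hy hy1, h3]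
    simp
  have hvalD : ∀ χ ∈ D, ∀ y ∈ P, y ≠ 1 → (χ : G → ℂ) y = 0 := by
    intro χ hχ y hy hy1
    obtain ⟨h1, h2⟩ := hD χ hχ
    exact vanish χ h1 h2 y hy hy1
  have hdvdD : ∀ χ : IrrCharacter G, χ ∈ D → p ∣ charDegree (χ : G → ℂ) := by
    intro χ hχ
    have h1 := dvd_degree_sub P hP χ 0 (by simpa using hvalD χ hχ)
    rw [Int.sub_zero] at h1
    exact_mod_cast h1
  refine ⟨A, B, D, fun χ => charDegree (χ : G → ℂ) / p, ?_⟩
  refine ⟨?_, ?_, ?_, hδone, fun χ hχ => (hA χ hχ).2.2, fun χ hχ => (hB χ hχ).2.2, hvalA, hvalB, hvalD, ?_, ?_, ?_, ?_, ?_, ?_⟩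
  · intro F
    rw [← Finset.add_sum_erase _ _ one_mem, add_assoc]
    congr 1
    exact (Finset.sum_filter_add_sum_filter_not X' (fun χ => δ χ = 1) F).symm
  · intro F
    rw [← Finset.sum_union disj]
    exact (Finset.sum_add_sum_compl (X ∪ Y) F).symm
  · have h1 := Finset.card_filter_add_card_filter_not (s := X') (fun χ => δ χ = 1)
    have h2 : X'.card + 1 = X.card := Finset.card_erase_add_one one_mem
    have h3 : A.card + B.card = X'.card := h1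
    omega
  · intro χ hχ
    obtain ⟨-, h2, -⟩ := hA χ hχ
    exact hdegA χ h2 (hvalA χ hχ)
  · intro χ hχ
    obtain ⟨-, h2, -⟩ := hB χ hχ
    exact hdegB χ h2 (hvalB χ hχ)
  · intro χ hχ
    exact (Nat.mul_div_cancel' (hdvdD χ hχ)).symm
  · intro χ hχ
    exact Nat.div_pos (Nat.le_of_dvd (charDegree_pos χ.2) (hdvdD χ hχ)) hp.out.pos
  · intro h
    exact (hA _ h).2.1 rfl
  · rw [Finset.disjoint_left]
    intro χ h1 h2
    have h3 := (Finset.mem_filter.mp h1).2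
    have h4 := (Finset.mem_filter.mp h2).2
    exact h4 h3

theorem exists_pack [IsSimpleGroup G] (hnc : ¬ IsMulCommutative G) {P : Subgroup G} {m r n : ℕ} (hP : Nat.card P = p)
    (hmr : p = m * r + 1) (hm : 0 < m) (hr : 0 < r) (hp3 : 3 ≤ p) (h2n : 2 * n ≤ p + 1) (hn1 : 1 ≤ n)
    (hcard : Nat.card G = p * (m * (1 + n * p))) {X Y : Finset (IrrCharacter G)} {δ : IrrCharacter G → ℤ}
    (one_mem : one' G ∈ X) (disj : Disjoint X Y) (sign : ∀ χ ∈ X, δ χ = 1 ∨ δ χ = -1)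
    (val : ∀ χ ∈ X, ∀ y ∈ P, y ≠ 1 → (χ : G → ℂ) y = (δ χ : ℂ))
    (vanish : ∀ χ : IrrCharacter G, χ ∉ X → χ ∉ Y → ∀ y ∈ P, y ≠ 1 → (χ : G → ℂ) y = 0) :
    ∃ (A B D : Finset (IrrCharacter G)) (d : IrrCharacter G → ℕ), Pack p P n X Y A B D δ d :=
  exists_pack_gen hP (fun _ hχ hv => degree_typeA hnc hP hmr hm hr hp3 h2n hcard hχ hv)
    (fun _ hχ hv => degree_typeB hnc hP hmr hm hr hp3 h2n hn1 hcard hχ hv) hp3 one_mem disj sign val vanish

end Cfsg.Agent.Lib.Small.BD
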