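import Mathlib
import Cfsg.Agent.Lib.Small.BrauerPack

/-! Common lemmas and the case `r = 1`. -/

set_option autoImplicit false
set_option linter.unusedSectionVars false
set_option linter.unusedVariables false

namespace Cfsg.Agent.Lib.Small.BD

open Cfsg Cfsg.Agent.Lib.Char Cfsg.Agent.Lib.Blocks Subgroup
open scoped ComplexConjugate

universe u

variable {G : Type u} [Group G] [Fintype G] {p : ℕ} [hp : Fact p.Prime]

theorem sum_normalizer_of_vanish {P : Subgroup G} [Fintype P] [Fintype (normalizer (P : Set G))]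
    {f : normalizer (P : Set G) → ℂ} (hf : ∀ g : normalizer (P : Set G), (g : G) ∉ P → f g = 0) :
    ∑ g : normalizer (P : Set G), f g = ∑ y : P, f ⟨y, Subgroup.le_normalizer y.2⟩ := by
  classical
  symm
  apply Finset.sum_of_injOn (fun y : P => (⟨y, Subgroup.le_normalizer y.2⟩ : normalizer (P : Set G)))
  · intro a _ b _ e
    exact Subtype.ext (congrArg (fun x : normalizer (P : Set G) => (x : G)) e)
  · intro a _
    exact Finset.mem_coe.mpr (Finset.mem_univ _)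
  · intro g _ hg
    apply hf
    intro hgP
    exact hg ⟨⟨g, hgP⟩, Finset.mem_coe.mpr (Finset.mem_univ _), rfl⟩
  · intro y _
    rfl

theorem typeA_eq_indL {P : Subgroup G} (hP : Nat.card P = p) (hC : ∀ x, x ∈ centralizer (P : Set G) → x ∈ P) {n : ℕ}
    (hidx : (normalizer (P : Set G)).index = 1 + n * p) {χ : IrrCharacter G}
    (hval : ∀ y ∈ P, y ≠ 1 → (χ : G → ℂ) y = 1) (hdeg : charDegree (χ : G → ℂ) = 1 + n * p) :
    ∃ ψ : NQ P →* ℂˣ, indL P ψ = (χ : G → ℂ) := by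
  classical
  letI : Fintype P := Fintype.ofFinite _
  have hχ1 : (χ : G → ℂ) 1 = ((1 + n * p : ℕ) : ℂ) := by
    rw [apply_one_eq_charDegree (IsIrrCharacter.isCharacter χ.2), hdeg]
  have hs : ∑ y : P, (χ : G → ℂ) y ≠ 0 := by
    rw [sum_P_const hP hval, hχ1]
    have h1 : ((1 + n * p : ℕ) : ℂ) + ((p : ℂ) - 1) * 1 = (((n + 1) * p : ℕ) : ℂ) := by
      push_cast
      ring
    rw [h1]
    have h2 : (n + 1) * p ≠ 0 := Nat.mul_ne_zero (by omega) hp.out.ne_zero
    exact_mod_cast h2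
  obtain ⟨ψ, hψ⟩ := exists_inner_ne_zero (p := p) (commNQ hP hC) (IsCharacter.isClassFunction (IsIrrCharacter.isCharacter χ.2)) hs
  refine ⟨ψ, ?_⟩
  have h3 := eq_sum_of_inner (isCharacter_indL P ψ) {χ} (by simpa using hψ) (by
    rw [Finset.sum_singleton, indL_apply_one, hidx, hχ1])
  simpa using h3

theorem typeB_vanish {P : Subgroup G} (hP : Nat.card P = p) (hC : ∀ x, x ∈ centralizer (P : Set G) → x ∈ P)
    {χ : IrrCharacter G} (hval : ∀ y ∈ P, y ≠ 1 → (χ : G → ℂ) y = -1) (hdeg : charDegree (χ : G → ℂ) + 1 = p) {h : G}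
    (hh : h ∈ normalizer (P : Set G)) (hhP : h ∉ P) : (χ : G → ℂ) h = 0 := by
  classical
  letI : Fintype P := Fintype.ofFinite _
  refine vanish_of_sum_eq_zero hP hC (commNQ hP hC) (IsIrrCharacter.isCharacter χ.2) ?_ hh hhP
  rw [sum_P_const hP hval, apply_one_eq_charDegree (IsIrrCharacter.isCharacter χ.2), ← hdeg]
  push_cast
  ring

section Invol

variable {P : Subgroup G} {t : G}

omit [Fintype G] in
theorem notMem_of_order_two [Finite G] (hP : Nat.card P = p) (hp2 : p ≠ 2) (ht : orderOf t = 2) : t ∉ P := by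
  intro h
  have h1 := orderOf_dvd_natCard (⟨t, h⟩ : P)
  rw [Subgroup.orderOf_mk, ht, hP] at h1
  exact hp2 ((Nat.prime_dvd_prime_iff_eq Nat.prime_two hp.out).mp h1).symm

omit [Fintype G] in
theorem regular_of_order_two (hp2 : p ≠ 2) (ht : orderOf t = 2) : ¬ p ∣ orderOf t := by
  rw [ht]
  intro h
  exact hp2 ((Nat.prime_dvd_prime_iff_eq hp.out Nat.prime_two).mp h)

omit [Fintype G] in
theorem mul_self_of_order_two (ht : orderOf t = 2) : t * t = 1 := by
  rw [← pow_two, ← ht]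
  exact pow_orderOf_eq_one t

theorem indL_sq_at (hP : Nat.card P = p) (hp2 : p ≠ 2) (hC : ∀ x, x ∈ centralizer (P : Set G) → x ∈ P) (ht : t * t = 1)
    (hinv : ∀ y ∈ P, t * y * t⁻¹ = y⁻¹) (ψ : NQ P →* ℂˣ) : indL P ψ t ^ 2 = indL P 1 t ^ 2 := by
  rw [indL_apply_invol hP hp2 hC ht hinv ψ, mul_pow]
  have h1 : linN P ψ ⟨t, mem_normalizer_of_inverts ht hinv⟩ ^ 2 = 1 := by
    have h2 : (⟨t, mem_normalizer_of_inverts ht hinv⟩ : normalizer (P : Set G)) ^ 2 = 1 :=
      Subtype.ext (by simpa [pow_two] using ht)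
    simp only [linN]
    rw [← Units.val_pow_eq_pow_val, ← map_pow, ← map_pow, h2]
    simp
  rw [h1, one_mul]

/-- The count at a nontrivial element of `P`. -/
theorem pair_at_z {n : ℕ} {X Y A B D : Finset (IrrCharacter G)} {δ : IrrCharacter G → ℤ} {d : IrrCharacter G → ℕ}
    (Pk : Pack p P n X Y A B D δ d) (hP : Nat.card P = p) (hp2 : p ≠ 2) (hC : ∀ x, x ∈ centralizer (P : Set G) → x ∈ P)
    (ht : t * t = 1) (hinv : ∀ y ∈ P, t * y * t⁻¹ = y⁻¹) (hB0 : ∀ χ ∈ B, (χ : G → ℂ) t = 0) {z : G} (hz : z ∈ P) (hz1 : z ≠ 1) :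
    (p : ℂ) * (Nat.card (centralizer ({t} : Set G)) : ℂ) ^ 2 = (Nat.card G : ℂ) *
      (1 + (∑ χ ∈ A, (χ : G → ℂ) t ^ 2) / ((1 + n * p : ℕ) : ℂ) +
        ∑ θ ∈ Y, (θ : G → ℂ) t ^ 2 * (θ : G → ℂ) z⁻¹ / (θ : G → ℂ) 1) := by
  classical
  letI : Fintype {x : G // IsConj t x} := Fintype.ofFinite _
  have h1 := pairCount_formula t z
  rw [pairCount_eq_of_inverts hP hp2 hC ht hinv hz hz1] at h1
  rw [h1]
  congr 1
  have hz' : z⁻¹ ∈ P := inv_mem hz
  have hz1' : z⁻¹ ≠ 1 := inv_ne_one.mpr hz1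
  rw [Pk.sumAll, Pk.sumX]
  have hA : ∑ χ ∈ A, (χ : G → ℂ) t ^ 2 * (χ : G → ℂ) z⁻¹ / (χ : G → ℂ) 1 =
      (∑ χ ∈ A, (χ : G → ℂ) t ^ 2) / ((1 + n * p : ℕ) : ℂ) := by
    rw [Finset.sum_div]
    refine Finset.sum_congr rfl fun χ hχ => ?_
    rw [Pk.valA χ hχ _ hz' hz1', apply_one_eq_charDegree (IsIrrCharacter.isCharacter χ.2), Pk.degA χ hχ, mul_one]
  have hB : ∑ χ ∈ B, (χ : G → ℂ) t ^ 2 * (χ : G → ℂ) z⁻¹ / (χ : G → ℂ) 1 = 0 := by
    refine Finset.sum_eq_zero fun χ hχ => ?_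
    rw [hB0 χ hχ]
    simp
  have hD : ∑ χ ∈ D, (χ : G → ℂ) t ^ 2 * (χ : G → ℂ) z⁻¹ / (χ : G → ℂ) 1 = 0 := by
    refine Finset.sum_eq_zero fun χ hχ => ?_
    rw [Pk.valD χ hχ _ hz' hz1']
    simp
  have h0 : ((one' G : IrrCharacter G) : G → ℂ) = fun _ => 1 := rfl
  rw [hA, hB, hD, h0]
  simp

end Invol

/-- The case `r = 1` is impossible. -/
theorem false_of_r_one_gen (P : Sylow p G)
    (hP : Nat.card (P : Subgroup G) = p) (hp2 : p ≠ 2)
    (hC : Nat.card (centralizer ((P : Subgroup G) : Set G)) = p)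
    (hCN : (centralizer ((P : Subgroup G) : Set G)).relIndex (normalizer ((P : Subgroup G) : Set G)) = p - 1)
    {n : ℕ} (hn1 : 1 ≤ n)
    (hdegA : ∀ χ : IrrCharacter G, χ ≠ one' G → (∀ y ∈ (P : Subgroup G), y ≠ 1 → (χ : G → ℂ) y = 1) → charDegree (χ : G → ℂ) = 1 + n * p)
    (hdegB : ∀ χ : IrrCharacter G, χ ≠ one' G → (∀ y ∈ (P : Subgroup G), y ≠ 1 → (χ : G → ℂ) y = -1) → charDegree (χ : G → ℂ) + 1 = p)
    (hv : Nat.card (Sylow p G) = 1 + n * p) : False := by
  classical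
  have hpr := hp.out
  have hp3 : 3 ≤ p := by
    have := hpr.two_le
    omega
  have hP' := hP
  have hCP : ∀ x, x ∈ centralizer ((P : Subgroup G) : Set G) → x ∈ (P : Subgroup G) := by
    have hle : (P : Subgroup G) ≤ centralizer ((P : Subgroup G) : Set G) := by
      intro x hx
      rw [mem_centralizer_iff]
      intro y hy
      exact comm_of_prime (p := p) (P : Subgroup G) hP y hy x hx
    have he := Subgroup.eq_of_le_of_card_ge hle (by rw [hP, hC])
    intro x hx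
    rw [he]
    exact hx
  obtain ⟨M, hM⟩ := exists_isPModular hpr
  have := isPrime_of_modular hM
  obtain ⟨X, δ, CO⟩ := exists_coreOne hM hp2 P hP hC hCN
  have hNcard : Nat.card (normalizer ((P : Subgroup G) : Set G)) = p * (p - 1) := by
    have h1 := card_normalizer_eq (P : Subgroup G) hCN
    rw [h1, hC, mul_comm]
  have hcard : Nat.card G = p * ((p - 1) * (1 + n * p)) := by
    have h1 := SmallSimple.card_normalizer_mul_card_sylow p P
    have h3 : Nat.card (normalizer ((P : Subgroup G) : Set G)) * Nat.card (Sylow p G) = Nat.card G := h1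
    rw [← h3, hNcard, hv]
    ring
  obtain ⟨A, B, D, d, Pk⟩ := exists_pack_gen hP hdegA hdegB hp3
    CO.one_mem (Finset.disjoint_empty_right X) CO.sign CO.val (fun χ h1 _ y hy hy1 => CO.vanish χ h1 y hy hy1)
  have hab : A.card + B.card + 1 = p := by rw [← Pk.cardX, CO.cardX]
  have hidx : (normalizer ((P : Subgroup G) : Set G)).index = 1 + n * p :=
    (Sylow.card_eq_index_normalizer P).symm.trans hv
  have hone : ¬ p ∣ orderOf (1 : G) := by
    rw [orderOf_one]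
    exact hpr.one_lt.ne' ∘ Nat.dvd_one.mp
  -- the regular identity at `1`
  have hreg1 : ((1 + (A.card : ℤ) * (1 + n * p) - B.card * (p - 1) : ℤ) : ℂ) = ((0 : ℤ) : ℂ) := by
    have h1 := CO.reg 1 hone
    rw [Pk.sumX] at h1
    have h2 : ∑ χ ∈ A, (δ χ : ℂ) * (χ : G → ℂ) 1 = (A.card : ℂ) * (1 + n * p) := by
      rw [Finset.sum_congr rfl (g := fun _ => ((1 : ℂ) + n * p)) (fun χ hχ => by
        rw [Pk.δA χ hχ, apply_one_eq_charDegree (IsIrrCharacter.isCharacter χ.2), Pk.degA χ hχ]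
        push_cast
        ring), Finset.sum_const, nsmul_eq_mul]
    have h3 : ∑ χ ∈ B, (δ χ : ℂ) * (χ : G → ℂ) 1 = -((B.card : ℂ) * (p - 1)) := by
      rw [Finset.sum_congr rfl (g := fun _ => (-((p : ℂ) - 1))) (fun χ hχ => by
        rw [Pk.δB χ hχ, apply_one_eq_charDegree (IsIrrCharacter.isCharacter χ.2), ← Pk.degB χ hχ]
        push_cast
        ring), Finset.sum_const, nsmul_eq_mul]
      ring
    rw [h2, h3, Pk.δone] at h1
    have h4 : ((one' G : IrrCharacter G) : G → ℂ) 1 = 1 := rfl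
    rw [h4] at h1
    push_cast at h1 ⊢
    linear_combination h1
  have hreg1' : 1 + (A.card : ℤ) * (1 + n * p) - B.card * (p - 1) = 0 := Int.cast_injective hreg1
  -- an inverting involution
  have h2N : 2 ∣ Nat.card (normalizer ((P : Subgroup G) : Set G)) := by
    rw [hNcard]
    have : 2 ∣ p - 1 := by
      rcases hpr.eq_two_or_odd with h | h
      · exact absurd h hp2
      · omega
    exact Dvd.dvd.mul_left this p
  obtain ⟨t, ht, hinv⟩ := exists_inverting hp2 (P : Subgroup G) hP hC h2N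
  have ht2 := mul_self_of_order_two ht
  have htN := mem_normalizer_of_inverts ht2 hinv
  have htP := notMem_of_order_two hP hp2 ht
  have hB0 : ∀ χ ∈ B, (χ : G → ℂ) t = 0 := fun χ hχ => typeB_vanish hP hCP (Pk.valB χ hχ) (Pk.degB χ hχ) htN htP
  obtain ⟨⟨z, hz⟩, hz1⟩ : ∃ z : (P : Subgroup G), z ≠ 1 := by
    have hne : (P : Subgroup G) ≠ ⊥ := by
      intro h
      rw [h] at hP
      simp at hP
      exact hpr.ne_one hP.symm
    exact Subgroup.ne_bot_iff_exists_ne_one.mp hne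
  have hz1' : z ≠ 1 := fun e => hz1 (Subtype.ext e)
  have hpair := pair_at_z Pk hP hp2 hCP ht2 hinv hB0 hz hz1'
  simp only [Finset.sum_empty, add_zero] at hpair
  set f := indL (P : Subgroup G) 1 t with hf
  have hfm := indL_one_mul hP hp2 hCP ht2 hinv hNcard
  have hA2 : ∀ χ ∈ A, (χ : G → ℂ) t ^ 2 = f ^ 2 := by
    intro χ hχ
    obtain ⟨ψ, hψ⟩ := typeA_eq_indL hP hCP hidx (Pk.valA χ hχ) (Pk.degA χ hχ)
    rw [← hψ]
    exact indL_sq_at hP hp2 hCP ht2 hinv ψ
  rw [Finset.sum_congr rfl hA2, Finset.sum_const, nsmul_eq_mul, ← hfm, hcard] at hpair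
  have hpc : (p : ℂ) ≠ 0 := by exact_mod_cast hpr.ne_zero
  have hmc : (((p - 1 : ℕ)) : ℂ) ≠ 0 := by exact_mod_cast (by omega : p - 1 ≠ 0)
  have hvc : ((1 + n * p : ℕ) : ℂ) ≠ 0 := by exact_mod_cast (by omega : 1 + n * p ≠ 0)
  have hkey : f ^ 2 * (B.card : ℂ) = ((1 + n * p : ℕ) : ℂ) := by
    have hm' : ((p - 1 : ℕ) : ℂ) = (A.card : ℂ) + B.card := by
      have : p - 1 = A.card + B.card := by omega
      rw [this]
      push_cast
      ring
    have h5 : (p : ℂ) * (f * ((p - 1 : ℕ) : ℂ)) ^ 2 = (p : ℂ) * ((p - 1 : ℕ) : ℂ) * (((1 + n * p : ℕ) : ℂ) + (A.card : ℂ) * f ^ 2) := by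
      rw [hpair]
      have hgen : ∀ V X : ℂ, V ≠ 0 → V * (1 + X / V) = V + X := by
        intro V X h
        field_simp
      rw [Nat.cast_mul, Nat.cast_mul, mul_assoc (p : ℂ) ((p - 1 : ℕ) : ℂ), mul_assoc (p : ℂ), mul_assoc ((p - 1 : ℕ) : ℂ),
        hgen _ _ hvc]
    apply mul_left_cancel₀ (mul_ne_zero hpc hmc)
    linear_combination h5 - (p : ℂ) * ((p - 1 : ℕ) : ℂ) * f ^ 2 * hm'
  have hpz : (A.card : ℤ) + B.card + 1 = p := by exact_mod_cast hab
  refine kill_r_one hpz hreg1' (by exact_mod_cast hpr.ne_zero) (by exact_mod_cast hp2) (by exact_mod_cast hn1) (by positivity) ?_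
  intro ha1
  have hne : A.Nonempty := by
    rw [← Finset.card_pos]
    exact_mod_cast ha1
  obtain ⟨χ, hχ⟩ := hne
  obtain ⟨τ, hτ⟩ := E3.exists_int_value χ ht
  refine ⟨τ ^ 2, ?_⟩
  have h6 := hA2 χ hχ
  rw [hτ] at h6
  rw [← h6] at hkey
  have h7 : (((τ ^ 2 * B.card : ℤ)) : ℂ) = ((1 + n * p : ℤ) : ℂ) := by
    push_cast at hkey ⊢
    exact hkey
  exact Int.cast_injective h7

/-- The order of `G` from the Sylow data. -/
theorem card_eq_of_index (P : Sylow p G) (hC : Nat.card (centralizer ((P : Subgroup G) : Set G)) = p) {m n : ℕ}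
    (hCN : (centralizer ((P : Subgroup G) : Set G)).relIndex (normalizer ((P : Subgroup G) : Set G)) = m)
    (hv : Nat.card (Sylow p G) = 1 + n * p) : Nat.card G = p * (m * (1 + n * p)) := by
  have hNcard : Nat.card (normalizer ((P : Subgroup G) : Set G)) = p * m := by
    have h1 := card_normalizer_eq (P : Subgroup G) hCN
    rw [h1, hC, mul_comm]
  have h1 := SmallSimple.card_normalizer_mul_card_sylow p P
  have h3 : Nat.card (normalizer ((P : Subgroup G) : Set G)) * Nat.card (Sylow p G) = Nat.card G := h1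
  rw [← h3, hNcard, hv]
  ring

theorem false_of_r_one [IsSimpleGroup G] (hnc : ¬ IsMulCommutative G) (P : Sylow p G)
    (hP : Nat.card (P : Subgroup G) = p) (hp2 : p ≠ 2)
    (hC : Nat.card (centralizer ((P : Subgroup G) : Set G)) = p)
    (hCN : (centralizer ((P : Subgroup G) : Set G)).relIndex (normalizer ((P : Subgroup G) : Set G)) = p - 1)
    {n : ℕ} (hn1 : 1 ≤ n) (h2n : 2 * n ≤ p + 1) (hv : Nat.card (Sylow p G) = 1 + n * p) : False := by
  have hpr := hp.out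
  have hp3 : 3 ≤ p := by
    have := hpr.two_le
    omega
  have hcard := card_eq_of_index P hC hCN hv
  exact false_of_r_one_gen P hP hp2 hC hCN hn1
    (fun _ hχ hv' => degree_typeA hnc hP (r := 1) (m := p - 1) (by omega) (by omega) (by omega) hp3 h2n hcard hχ hv')
    (fun _ hχ hv' => degree_typeB hnc hP (r := 1) (m := p - 1) (by omega) (by omega) (by omega) hp3 h2n hn1 hcard hχ hv') hv

end Cfsg.Agent.Lib.Small.BD
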