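import Mathlib
import Cfsg.Agent.Lib.Small.BrauerMainA
import Cfsg.Agent.Lib.Small.BrauerEnd

/-! The case `r ≥ 2`: the numbers. -/

set_option autoImplicit false
set_option linter.unusedSectionVars false
set_option linter.unusedVariables false

namespace Cfsg.Agent.Lib.Small.BD

open Cfsg Cfsg.Agent.Lib.Char Cfsg.Agent.Lib.Blocks Subgroup
open scoped ComplexConjugate

universe u

variable {G : Type u} [Group G] [Fintype G] {p : ℕ} [hp : Fact p.Prime]

section Num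

variable {P : Sylow p G} {m r n : ℕ} {X Y A B D : Finset (IrrCharacter G)} {δ : IrrCharacter G → ℤ}
  {d : IrrCharacter G → ℕ} {ε : ℤ}

theorem hone_reg : ¬ p ∣ orderOf (1 : G) := by
  rw [orderOf_one]
  exact hp.out.one_lt.ne' ∘ Nat.dvd_one.mp

theorem degree_eq_of_mem (CD : CoreData P m r X Y δ ε) {θ θ₀ : IrrCharacter G} (hθ : θ ∈ Y) (hθ₀ : θ₀ ∈ Y) :
    charDegree (θ : G → ℂ) = charDegree (θ₀ : G → ℂ) := by
  have h1 := CD.regY θ hθ θ₀ hθ₀ 1 hone_reg
  rw [apply_one_eq_charDegree (IsIrrCharacter.isCharacter θ.2), apply_one_eq_charDegree (IsIrrCharacter.isCharacter θ₀.2)] at h1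
  exact_mod_cast h1

/-- The two numerical identities. -/
theorem key_numbers (CD : CoreData P m r X Y δ ε) (Pk : Pack p (P : Subgroup G) n X Y A B D δ d)
    (hcard : Nat.card G = p * (m * (1 + n * p))) {θ₀ : IrrCharacter G} (hθ₀ : θ₀ ∈ Y) :
    ε * (charDegree (θ₀ : G → ℂ) : ℤ) = 1 + (A.card : ℤ) * (1 + n * p) - B.card * (p - 1) ∧
    (p : ℤ) * (m * (1 + n * p)) = 1 + (A.card : ℤ) * (1 + n * p) ^ 2 + B.card * (p - 1) ^ 2 +
      r * (charDegree (θ₀ : G → ℂ) : ℤ) ^ 2 + p ^ 2 * ∑ χ ∈ D, (d χ : ℤ) ^ 2 := by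
  classical
  have hA1 : ∀ χ ∈ A, (χ : G → ℂ) 1 = 1 + n * p := by
    intro χ hχ
    rw [apply_one_eq_charDegree (IsIrrCharacter.isCharacter χ.2), Pk.degA χ hχ]
    push_cast
    ring
  have hB1 : ∀ χ ∈ B, (χ : G → ℂ) 1 = p - 1 := by
    intro χ hχ
    rw [apply_one_eq_charDegree (IsIrrCharacter.isCharacter χ.2), ← Pk.degB χ hχ]
    push_cast
    ring
  have hY1 : ∀ θ ∈ Y, (θ : G → ℂ) 1 = charDegree (θ₀ : G → ℂ) := by
    intro θ hθ
    rw [apply_one_eq_charDegree (IsIrrCharacter.isCharacter θ.2), degree_eq_of_mem CD hθ hθ₀]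
  have hD1 : ∀ χ ∈ D, (χ : G → ℂ) 1 = p * d χ := by
    intro χ hχ
    rw [apply_one_eq_charDegree (IsIrrCharacter.isCharacter χ.2), Pk.degD χ hχ]
    push_cast
    ring
  have h10 : ((one' G : IrrCharacter G) : G → ℂ) 1 = 1 := rfl
  constructor
  · have h1 := CD.reg θ₀ hθ₀ 1 hone_reg
    rw [Pk.sumX, Pk.δone, h10, hY1 θ₀ hθ₀] at h1
    have h2 : ∑ χ ∈ A, (δ χ : ℂ) * (χ : G → ℂ) 1 = (A.card : ℂ) * (1 + n * p) := by
      rw [Finset.sum_congr rfl (g := fun _ => ((1 : ℂ) + n * p)) (fun χ hχ => by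
        rw [Pk.δA χ hχ, hA1 χ hχ]
        push_cast
        ring), Finset.sum_const, nsmul_eq_mul]
    have h3 : ∑ χ ∈ B, (δ χ : ℂ) * (χ : G → ℂ) 1 = -((B.card : ℂ) * (p - 1)) := by
      rw [Finset.sum_congr rfl (g := fun _ => (-((p : ℂ) - 1))) (fun χ hχ => by
        rw [Pk.δB χ hχ, hB1 χ hχ]
        push_cast
        ring), Finset.sum_const, nsmul_eq_mul]
      ring
    rw [h2, h3] at h1
    have h4 : ((ε * (charDegree (θ₀ : G → ℂ) : ℤ) : ℤ) : ℂ) = ((1 + (A.card : ℤ) * (1 + n * p) - B.card * (p - 1) : ℤ) : ℂ) := by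
      push_cast at h1 ⊢
      linear_combination h1
    exact Int.cast_injective h4
  · have h1 := sum_irr_degree_sq (G := G)
    rw [Pk.sumAll, Pk.sumX, h10] at h1
    rw [Finset.sum_congr rfl (fun χ hχ => by rw [hA1 χ hχ]), Finset.sum_congr (s₁ := B) rfl (fun χ hχ => by rw [hB1 χ hχ]),
      Finset.sum_congr (s₁ := Y) rfl (fun χ hχ => by rw [hY1 χ hχ]), Finset.sum_congr (s₁ := D) rfl (fun χ hχ => by rw [hD1 χ hχ])] at h1
    simp only [Finset.sum_const, nsmul_eq_mul, CD.cardY] at h1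
    have h5 : ∑ χ ∈ D, ((p : ℂ) * d χ) ^ 2 = (p : ℂ) ^ 2 * ∑ χ ∈ D, (d χ : ℂ) ^ 2 := by
      rw [Finset.mul_sum]
      exact Finset.sum_congr rfl fun χ _ => by ring
    rw [h5, hcard] at h1
    have h6 : (((p : ℤ) * (m * (1 + n * p)) : ℤ) : ℂ) = ((1 + (A.card : ℤ) * (1 + n * p) ^ 2 + B.card * (p - 1) ^ 2 +
      r * (charDegree (θ₀ : G → ℂ) : ℤ) ^ 2 + p ^ 2 * ∑ χ ∈ D, (d χ : ℤ) ^ 2 : ℤ) : ℂ) := by
      push_cast at h1 ⊢
      linear_combination -h1
    exact Int.cast_injective h6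

/-- The sum over `P` of a member of `Y`. -/
theorem r_mul_sum (CD : CoreData P m r X Y δ ε) (hP : Nat.card (P : Subgroup G) = p) {θ₀ : IrrCharacter G} (hθ₀ : θ₀ ∈ Y)
    [Fintype (P : Subgroup G)] :
    (r : ℂ) * ∑ y : (P : Subgroup G), (θ₀ : G → ℂ) y = (r : ℂ) * (θ₀ : G → ℂ) 1 - ((p : ℂ) - 1) * ε := by
  classical
  have h1 : ∑ θ ∈ Y, ∑ y : (P : Subgroup G), (θ : G → ℂ) y = (r : ℂ) * ∑ y : (P : Subgroup G), (θ₀ : G → ℂ) y := by
    rw [Finset.sum_congr rfl (fun θ hθ => CD.kY inferInstance θ hθ θ₀ hθ₀), Finset.sum_const, CD.cardY, nsmul_eq_mul]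
  rw [← h1, Finset.sum_comm, ← Finset.add_sum_erase _ _ (Finset.mem_univ (1 : (P : Subgroup G)))]
  have h2 : ∑ θ ∈ Y, (θ : G → ℂ) ((1 : (P : Subgroup G)) : G) = (r : ℂ) * (θ₀ : G → ℂ) 1 := by
    rw [Finset.sum_congr rfl (fun θ hθ => CD.regY θ hθ θ₀ hθ₀ _ (by simpa using hone_reg (G := G) (p := p))), Finset.sum_const, CD.cardY, nsmul_eq_mul]
    rfl
  have h3 : ∀ y ∈ (Finset.univ : Finset (P : Subgroup G)).erase 1, ∑ θ ∈ Y, (θ : G → ℂ) y = -(ε : ℂ) := fun y hy =>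
    CD.sumY y y.2 (fun e => Finset.ne_of_mem_erase hy (Subtype.ext e))
  rw [h2, Finset.sum_congr rfl h3, Finset.sum_const, Finset.card_erase_of_mem (Finset.mem_univ _), Finset.card_univ,
    ← Nat.card_eq_fintype_card, hP, nsmul_eq_mul]
  have hp1 : 1 ≤ p := hp.out.one_lt.le
  push_cast [Nat.cast_sub hp1]
  ring

/-- Constituents bound. -/
theorem sum_charDegree_le_of_inner {π : G → ℂ} (hπ : IsCharacter G π) (S : Finset (IrrCharacter G))
    (h : ∀ χ ∈ S, classInner π (χ : G → ℂ) ≠ 0) : ∃ N : ℕ, π 1 = N ∧ ∑ χ ∈ S, charDegree (χ : G → ℂ) ≤ N := by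
  classical
  obtain ⟨c, hc, hsum⟩ := IsCharacter.exists_eq_sum hπ
  refine ⟨∑ ψ : IrrCharacter G, c ψ * charDegree (ψ : G → ℂ), ?_, ?_⟩
  · rw [hsum]
    rw [Finset.sum_apply]
    push_cast
    refine Finset.sum_congr rfl fun ψ _ => ?_
    rw [Pi.smul_apply, nsmul_eq_mul, apply_one_eq_charDegree (IsIrrCharacter.isCharacter ψ.2)]
  · have hpos : ∀ χ ∈ S, 1 ≤ c χ := by
      intro χ hχ
      have h2 := h χ hχ
      rw [hc] at h2
      have : c χ ≠ 0 := fun e => h2 (by simp [e])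
      omega
    calc ∑ χ ∈ S, charDegree (χ : G → ℂ) ≤ ∑ χ ∈ S, c χ * charDegree (χ : G → ℂ) :=
          Finset.sum_le_sum fun χ hχ => Nat.le_mul_of_pos_left _ (hpos χ hχ)
      _ ≤ _ := Finset.sum_le_sum_of_subset (Finset.subset_univ _)

/-- The tensor bound when `θ` vanishes on `N \ P`. -/
theorem tensor_bound (Pk : Pack p (P : Subgroup G) n X Y A B D δ d) (hP : Nat.card (P : Subgroup G) = p)
    (hCP : ∀ x, x ∈ centralizer ((P : Subgroup G) : Set G) → x ∈ (P : Subgroup G))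
    (hidx : (normalizer ((P : Subgroup G) : Set G)).index = 1 + n * p) (θ : IrrCharacter G)
    (h0 : ∀ h ∈ normalizer ((P : Subgroup G) : Set G), h ∉ (P : Subgroup G) → (θ : G → ℂ) h = 0) :
    1 + A.card * (1 + n * p) ≤ charDegree (θ : G → ℂ) * charDegree (θ : G → ℂ) := by
  classical
  letI : Fintype (P : Subgroup G) := Fintype.ofFinite _
  letI : Fintype (normalizer ((P : Subgroup G) : Set G)) := Fintype.ofFinite _
  have hθc := IsIrrCharacter.isCharacter θ.2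
  set f : G → ℂ := (θ : G → ℂ) * fun g => conj ((θ : G → ℂ) g) with hf
  have hfc : IsCharacter G f := IsCharacter.mul hθc (IsCharacter.conj hθc)
  have hfv : ∀ g, f g = (θ : G → ℂ) g * conj ((θ : G → ℂ) g) := fun g => rfl
  have hone : classInner f ((one' G : IrrCharacter G) : G → ℂ) ≠ 0 := by
    have h1 : classInner f ((one' G : IrrCharacter G) : G → ℂ) = classInner (θ : G → ℂ) (θ : G → ℂ) := by
      simp only [classInner, hfv]
      congr 1
      refine Finset.sum_congr rfl fun g _ => ?_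
      simp
    rw [h1, classInner_irr_self θ.2]
    exact one_ne_zero
  have hA : ∀ χ ∈ A, classInner f (χ : G → ℂ) ≠ 0 := by
    intro χ hχ
    obtain ⟨ψ, hψ⟩ := typeA_eq_indL hP hCP hidx (Pk.valA χ hχ) (Pk.degA χ hχ)
    rw [← hψ, indL, classInner_indFun_right _ _ _ (IsCharacter.isClassFunction hfc)]
    simp only [classInner]
    apply mul_ne_zero
    · exact inv_ne_zero (by exact_mod_cast Nat.card_pos.ne')
    · rw [sum_normalizer_of_vanish (fun g hg => by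
        rw [hfv, h0 g g.2 hg]
        simp)]
      have h1 : ∀ y : (P : Subgroup G), f y * conj (linN (P : Subgroup G) ψ ⟨y, Subgroup.le_normalizer y.2⟩) =
          (((Complex.normSq ((θ : G → ℂ) y) : ℝ)) : ℂ) := by
        intro y
        have h2 : toNQ (P : Subgroup G) ⟨y, Subgroup.le_normalizer y.2⟩ = 1 := (toNQ_eq_one_iff _).mpr y.2
        simp only [linN, h2, map_one, Units.val_one, map_one, mul_one]
        rw [hfv, Complex.mul_conj]
      simp only [h1]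
      rw [← Complex.ofReal_sum]
      apply Complex.ofReal_ne_zero.mpr
      apply ne_of_gt
      apply Finset.sum_pos' (fun y _ => Complex.normSq_nonneg _)
      refine ⟨1, Finset.mem_univ _, ?_⟩
      apply Complex.normSq_pos.mpr
      exact IsIrrCharacter.apply_one_ne_zero θ.2
  obtain ⟨N, hN, hle⟩ := sum_charDegree_le_of_inner hfc (insert (one' G) A) (by
    intro χ hχ
    rcases Finset.mem_insert.mp hχ with rfl | h
    · exact hone
    · exact hA χ h)
  rw [Finset.sum_insert Pk.onotA, Finset.sum_congr rfl Pk.degA, Finset.sum_const, smul_eq_mul] at hle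
  have h6 : charDegree ((one' G : IrrCharacter G) : G → ℂ) = 1 := charDegree_eq (by simp)
  rw [h6] at hle
  have h7 : N = charDegree (θ : G → ℂ) * charDegree (θ : G → ℂ) := by
    have h8 : f 1 = ((charDegree (θ : G → ℂ) * charDegree (θ : G → ℂ) : ℕ) : ℂ) := by
      rw [hfv, apply_one_eq_charDegree hθc, Complex.conj_natCast]
      push_cast
      ring
    rw [hN] at h8
    exact_mod_cast h8
  rw [← h7]
  exact hle

/-- Inner products with members of `Y` agree. -/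
theorem inner_indL_eq (CD : CoreData P m r X Y δ ε) (hP : Nat.card (P : Subgroup G) = p)
    (hCP : ∀ x, x ∈ centralizer ((P : Subgroup G) : Set G) → x ∈ (P : Subgroup G))
    {θ θ₀ : IrrCharacter G} (hθ : θ ∈ Y) (hθ₀ : θ₀ ∈ Y) (ψ : NQ (P : Subgroup G) →* ℂˣ) :
    classInner (indL (P : Subgroup G) ψ) (θ : G → ℂ) = classInner (indL (P : Subgroup G) ψ) (θ₀ : G → ℂ) := by
  classical
  letI : Fintype (P : Subgroup G) := Fintype.ofFinite _
  letI : Fintype (normalizer ((P : Subgroup G) : Set G)) := Fintype.ofFinite _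
  rw [classInner_indL _ ψ (IsCharacter.isClassFunction (IsIrrCharacter.isCharacter θ.2)),
    classInner_indL _ ψ (IsCharacter.isClassFunction (IsIrrCharacter.isCharacter θ₀.2))]
  congr 1
  rw [← sub_eq_zero, ← Finset.sum_sub_distrib]
  rw [sum_normalizer_of_vanish (fun g hg => by
    rw [CD.regY θ hθ θ₀ hθ₀ g (not_dvd_orderOf_of_normalizer P hP hCP g.2 hg)]
    simp)]
  have h1 : ∀ y : (P : Subgroup G), linN (P : Subgroup G) ψ ⟨y, Subgroup.le_normalizer y.2⟩ * conj ((θ : G → ℂ) y) -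
      linN (P : Subgroup G) ψ ⟨y, Subgroup.le_normalizer y.2⟩ * conj ((θ₀ : G → ℂ) y) =
      conj ((θ : G → ℂ) y) - conj ((θ₀ : G → ℂ) y) := by
    intro y
    have h2 : toNQ (P : Subgroup G) ⟨y, Subgroup.le_normalizer y.2⟩ = 1 := (toNQ_eq_one_iff _).mpr y.2
    simp only [linN, h2, map_one, Units.val_one, one_mul]
  simp only [h1]
  rw [Finset.sum_sub_distrib, ← map_sum, ← map_sum, CD.kY inferInstance θ hθ θ₀ hθ₀, sub_self]

/-- An induced character is the sum over `Y`. -/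
theorem exists_indL_eq_sumY (CD : CoreData P m r X Y δ ε) (hP : Nat.card (P : Subgroup G) = p)
    (hCP : ∀ x, x ∈ centralizer ((P : Subgroup G) : Set G) → x ∈ (P : Subgroup G))
    {θ₀ : IrrCharacter G} (hθ₀ : θ₀ ∈ Y) [Fintype (P : Subgroup G)]
    (hs : ∑ y : (P : Subgroup G), (θ₀ : G → ℂ) y ≠ 0)
    (hdeg : ((normalizer ((P : Subgroup G) : Set G)).index : ℂ) = ∑ θ ∈ Y, (θ : G → ℂ) 1) :
    ∃ ψ : NQ (P : Subgroup G) →* ℂˣ, indL (P : Subgroup G) ψ = ∑ θ ∈ Y, (θ : G → ℂ) := by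
  classical
  obtain ⟨ψ, hψ⟩ := exists_inner_ne_zero (p := p) (commNQ hP hCP) (IsCharacter.isClassFunction (IsIrrCharacter.isCharacter θ₀.2)) hs
  refine ⟨ψ, eq_sum_of_inner (isCharacter_indL _ ψ) Y (fun θ hθ => ?_) ?_⟩
  · rw [inner_indL_eq CD hP hCP hθ hθ₀]
    exact hψ
  · rw [indL_apply_one, hdeg]

end Num

end Cfsg.Agent.Lib.Small.BD
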