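import Mathlib
import Cfsg.Agent.Lib.Small.BrauerMainB

/-! The case `r ≥ 2`: the reduction to `W < 0`. -/

set_option autoImplicit false
set_option linter.unusedSectionVars false
set_option linter.unusedVariables false

namespace Cfsg.Agent.Lib.Small.BD

open Cfsg Cfsg.Agent.Lib.Char Cfsg.Agent.Lib.Blocks Subgroup
open scoped ComplexConjugate

universe u

variable {G : Type u} [Group G] [Fintype G] {p : ℕ} [hp : Fact p.Prime]

theorem mem_of_card_centralizer {P : Subgroup G} (hP : Nat.card P = p) (hC : Nat.card (centralizer (P : Set G)) = p) :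
    ∀ x, x ∈ centralizer (P : Set G) → x ∈ P := by
  have hle : P ≤ centralizer (P : Set G) := by
    intro x hx
    rw [mem_centralizer_iff]
    intro y hy
    exact comm_of_prime (p := p) P hP y hy x hx
  have he := Subgroup.eq_of_le_of_card_ge hle (by rw [hP, hC])
  intro x hx
  rw [he]
  exact hx

/-- The data for `W < 0`. -/
structure NegData (P : Sylow p G) (m r n w y : ℕ) (Y A B D : Finset (IrrCharacter G)) (d : IrrCharacter G → ℕ)
    (θ₀ : IrrCharacter G) (ψ₀ : NQ (P : Subgroup G) →* ℂˣ) : Prop where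
  hθ₀ : θ₀ ∈ Y
  hy : charDegree (θ₀ : G → ℂ) = y
  hdegY : ∀ θ ∈ Y, charDegree (θ : G → ℂ) = y
  hnr : n + 1 = r * w
  hVy : 1 + n * p = r * y
  hmw : m = A.card * (n + 1) + w + 1
  hyw : y = m * n + w
  hym : y + m = w * p
  hb : B.card = A.card * n + w
  hDs : ∑ χ ∈ D, (d χ : ℤ) ^ 2 = n
  hw1 : 1 ≤ w
  hind : indL (P : Subgroup G) ψ₀ = ∑ θ ∈ Y, (θ : G → ℂ)

set_option maxHeartbeats 1000000 in
theorem exists_negData_gen (P : Sylow p G)
    (hP : Nat.card (P : Subgroup G) = p) (hp2 : p ≠ 2)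
    (hC : Nat.card (centralizer ((P : Subgroup G) : Set G)) = p) {m r n : ℕ}
    (hCN : (centralizer ((P : Subgroup G) : Set G)).relIndex (normalizer ((P : Subgroup G) : Set G)) = m)
    (hmr : m * r + 1 = p) (hm : 1 < m) (hr : 2 ≤ r) (hn2 : 2 ≤ n)
    (hdegA : ∀ χ : IrrCharacter G, χ ≠ one' G → (∀ y ∈ (P : Subgroup G), y ≠ 1 → (χ : G → ℂ) y = 1) → charDegree (χ : G → ℂ) = 1 + n * p)
    (hdegB : ∀ χ : IrrCharacter G, χ ≠ one' G → (∀ y ∈ (P : Subgroup G), y ≠ 1 → (χ : G → ℂ) y = -1) → charDegree (χ : G → ℂ) + 1 = p)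
    (hsig : ∀ w σ : ℕ, 1 ≤ w → n + 1 = r * σ → w ≤ σ → m < w * p → (w * p - m) ∣ m * (1 + n * p) → σ = w)
    (hv : Nat.card (Sylow p G) = 1 + n * p) :
    ∃ (X Y A B D : Finset (IrrCharacter G)) (δ : IrrCharacter G → ℤ) (d : IrrCharacter G → ℕ) (ε : ℤ) (θ₀ : IrrCharacter G)
      (ψ₀ : NQ (P : Subgroup G) →* ℂˣ) (w y : ℕ),
      CoreData P m r X Y δ ε ∧ Pack p (P : Subgroup G) n X Y A B D δ d ∧ NegData P m r n w y Y A B D d θ₀ ψ₀ ∧ ε = -1 := by
  classical
  have hpr := hp.out
  have hp3 : 3 ≤ p := by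
    have := hpr.two_le
    omega
  have hCP := mem_of_card_centralizer hP hC
  obtain ⟨M, hM⟩ := exists_isPModular hpr
  have := isPrime_of_modular hM
  obtain ⟨X, Y, δ, ε, CD⟩ := exists_coreData hM P hP hC hmr hr hCN
  have hNcard : Nat.card (normalizer ((P : Subgroup G) : Set G)) = p * m := by
    have h1 := card_normalizer_eq (P : Subgroup G) hCN
    rw [h1, hC, mul_comm]
  have hcard : Nat.card G = p * (m * (1 + n * p)) := by
    have h1 := SmallSimple.card_normalizer_mul_card_sylow p P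
    have h3 : Nat.card (normalizer ((P : Subgroup G) : Set G)) * Nat.card (Sylow p G) = Nat.card G := h1
    rw [← h3, hNcard, hv]
    ring
  have hidx : (normalizer ((P : Subgroup G) : Set G)).index = 1 + n * p :=
    (Sylow.card_eq_index_normalizer P).symm.trans hv
  obtain ⟨A, B, D, d, Pk⟩ := exists_pack_gen hP hdegA hdegB hp3
    CD.one_mem CD.disj CD.sign CD.val CD.vanish
  have hYne : Y.Nonempty := by
    rw [← Finset.card_pos, CD.cardY]
    omega
  obtain ⟨θ₀, hθ₀⟩ := hYne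
  obtain ⟨h1, h2⟩ := key_numbers CD Pk hcard hθ₀
  have hab : A.card + B.card + 1 = m := by
    rw [← Pk.cardX, CD.cardX]
  have hθdeg : 0 < charDegree (θ₀ : G → ℂ) := charDegree_pos θ₀.2
  set y := charDegree (θ₀ : G → ℂ) with hy
  set Ds := ∑ χ ∈ D, (d χ : ℤ) ^ 2 with hDsdef
  have hDsnn : 0 ≤ Ds := Finset.sum_nonneg fun χ _ => sq_nonneg _
  have hmZ : (m : ℤ) = (A.card : ℤ) + B.card + 1 := by exact_mod_cast hab.symm
  have hpZ : (p : ℤ) = m * r + 1 := by exact_mod_cast hmr.symm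
  have hε2 : ε * ε = 1 := by
    rcases CD.eps with h | h <;> rw [h] <;> norm_num
  have hp0 : (p : ℤ) ≠ 0 := by exact_mod_cast hpr.ne_zero
  have hDs := Ds_identity hmZ hpZ hε2 h1 h2 hp0
  have hWle := W_nonpos (by positivity) (by positivity) hDsnn hDs
  have hmposZ : (0 : ℤ) < m := by exact_mod_cast (by omega : 0 < m)
  have hyposZ : (0 : ℤ) < y := by exact_mod_cast hθdeg
  have hεy : ε * y = m + p * ((A.card : ℤ) * n - B.card) := by
    rw [h1, hmZ]
    ring
  have hmltp : m < p := by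
    have := Nat.le_mul_of_pos_right m (by omega : 0 < r)
    omega
  -- `W = 0` is impossible
  have hW0 : (A.card : ℤ) * n - B.card ≠ 0 := by
    intro hW
    rw [hW, mul_zero, add_zero] at hεy
    have hε1 : ε = 1 := by
      rcases CD.eps with h | h
      · exact h
      · rw [h] at hεy
        linarith
    have hym : y = m := by
      rw [hε1, one_mul] at hεy
      exact_mod_cast hεy
    have hbZ : (B.card : ℤ) = (A.card : ℤ) * n := by linarith
    have ha1 : 1 ≤ A.card := by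
      by_contra h0
      have h3 : A.card = 0 := by omega
      rw [h3] at hbZ
      simp only [Nat.cast_zero, zero_mul] at hbZ
      have h4 : B.card = 0 := by exact_mod_cast hbZ
      omega
    letI : Fintype (P : Subgroup G) := Fintype.ofFinite _
    have hsum0 : ∑ y : (P : Subgroup G), (θ₀ : G → ℂ) y = 0 := by
      have h3 := r_mul_sum CD hP hθ₀
      rw [apply_one_eq_charDegree (IsIrrCharacter.isCharacter θ₀.2), ← hy, hym, hε1] at h3
      have h4 : (r : ℂ) * (m : ℂ) - ((p : ℂ) - 1) * ((1 : ℤ) : ℂ) = 0 := by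
        have h5 : (p : ℂ) = m * r + 1 := by exact_mod_cast hmr.symm
        rw [h5]
        push_cast
        ring
      rw [h4] at h3
      have hr0 : (r : ℂ) ≠ 0 := by exact_mod_cast (by omega : r ≠ 0)
      exact (mul_eq_zero.mp h3).resolve_left hr0
    have hvan : ∀ h ∈ normalizer ((P : Subgroup G) : Set G), h ∉ (P : Subgroup G) → (θ₀ : G → ℂ) h = 0 :=
      fun h h1 h2 => vanish_of_sum_eq_zero hP hCP (commNQ hP hCP) (IsIrrCharacter.isCharacter θ₀.2) hsum0 h1 h2
    have htb := tensor_bound Pk hP hCP hidx θ₀ hvan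
    rw [← hy, hym] at htb
    have htb' : 1 + (A.card : ℤ) * (1 + n * p) ≤ m * m := by exact_mod_cast htb
    refine kill_W_zero (m := m) (a := A.card) (n := n) (r := r) (p := p) ?_ htb' hpZ (by exact_mod_cast ha1) (by exact_mod_cast hn2) (by exact_mod_cast hr)
    rw [hmZ, hbZ]
    ring
  -- `W < 0`
  have hWneg : (A.card : ℤ) * n - B.card < 0 := lt_of_le_of_ne hWle hW0
  obtain ⟨w, hw⟩ : ∃ w : ℕ, (w : ℤ) = -((A.card : ℤ) * n - B.card) := by
    obtain ⟨w, hw⟩ := Int.eq_ofNat_of_zero_le (a := -((A.card : ℤ) * n - B.card)) (by linarith)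
    exact ⟨w, hw.symm⟩
  have hw1 : 1 ≤ w := by
    have : (1 : ℤ) ≤ w := by rw [hw]; omega
    exact_mod_cast this
  have hWw : (A.card : ℤ) * n - B.card = -(w : ℤ) := by rw [hw]; ring
  rw [hWw] at hεy hDs
  have hpw : p ≤ w * p := Nat.le_mul_of_pos_left _ (by omega)
  have hmwp : m < w * p := by omega
  have hmwpZ : (m : ℤ) < w * p := by exact_mod_cast hmwp
  have hεm : ε = -1 := by
    rcases CD.eps with h | h
    · exfalso
      rw [h, one_mul] at hεy
      linarith
    · exact h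
  have hymZ : (y : ℤ) + m = w * p := by
    rw [hεm] at hεy
    linarith
  have hym : y + m = w * p := by exact_mod_cast hymZ
  have hbZ : (B.card : ℤ) = (A.card : ℤ) * n + w := by linarith
  have hb : B.card = A.card * n + w := by exact_mod_cast hbZ
  have hBne : B.Nonempty := by
    rw [← Finset.card_pos, hb]
    have : 0 ≤ A.card * n := Nat.zero_le _
    omega
  obtain ⟨χ₁, hχ₁⟩ := hBne
  have hχdeg := Pk.degB χ₁ hχ₁
  have hdvd1 := charDegree_dvd_card χ₁.2
  rw [hcard] at hdvd1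
  have hχm : charDegree (χ₁ : G → ℂ) = m * r := by omega
  rw [hχm] at hdvd1
  have hcop : Nat.Coprime (m * r) p := by
    rw [← hmr]
    simp
  have hd2 := hcop.dvd_of_dvd_mul_left hdvd1
  have hd3 : r ∣ 1 + n * p := Nat.dvd_of_mul_dvd_mul_left (by omega) hd2
  have hd4 : r ∣ n + 1 := by
    have e : 1 + n * p = (n + 1) + (n * m) * r := by
      rw [← hmr]
      ring
    rw [e] at hd3
    exact (Nat.dvd_add_left (Dvd.intro_left _ rfl)).mp hd3
  obtain ⟨σ, hσ⟩ := hd4
  have hσZ : (n : ℤ) + 1 = r * σ := by exact_mod_cast hσ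
  have hDs' : Ds = n * (1 + w) + w - r * (w : ℤ) ^ 2 := by
    rw [hDs]
    ring
  have hσw : (w : ℤ) ≤ σ := sigma_ge_w hσZ (by exact_mod_cast hr) (by exact_mod_cast hw1) hDsnn hDs'
  have hσw' : w ≤ σ := by exact_mod_cast hσw
  have hyd := charDegree_dvd_card θ₀.2
  rw [hcard, ← hy] at hyd
  have hycop : Nat.Coprime y p := by
    rw [Nat.coprime_comm, hpr.coprime_iff_not_dvd]
    intro hpy
    have h3 : p ∣ y + m := by rw [hym]; exact Dvd.intro_left _ rfl
    have h4 : p ∣ m := (Nat.dvd_add_right hpy).mp h3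
    have := Nat.le_of_dvd (by omega) h4
    omega
  have hyd' := hycop.dvd_of_dvd_mul_left hyd
  have hσeq : σ = w := hsig w σ hw1 hσ hσw' hmwp (by
    have e : w * p - m = y := by omega
    rw [e]
    exact hyd')
  subst hσeq
  have hVy : 1 + n * p = r * y := by
    have h3 : (1 : ℤ) + n * p = r * y := by
      have e1 : (y : ℤ) = σ * p - m := by linarith
      have e2 : (n : ℤ) = r * σ - 1 := by linarith
      rw [e1, e2, hpZ]
      ring
    exact_mod_cast h3
  have hmw : m = A.card * (n + 1) + σ + 1 := by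
    have h3 : (m : ℤ) = (A.card : ℤ) * (n + 1) + σ + 1 := by
      rw [hmZ, hbZ]
      ring
    exact_mod_cast h3
  have hyw : y = m * n + σ := by
    have h3 : (y : ℤ) = m * n + σ := by
      have e1 : (y : ℤ) = σ * p - m := by linarith
      have e2 : (n : ℤ) = r * σ - 1 := by linarith
      rw [e1, e2, hpZ]
      ring
    exact_mod_cast h3
  have hDsn : Ds = n := by
    rw [hDs']
    have e2 : (n : ℤ) = r * σ - 1 := by linarith
    rw [e2]
    ring
  -- the induced character
  letI : Fintype (P : Subgroup G) := Fintype.ofFinite _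
  have hY1 : ∀ θ ∈ Y, charDegree (θ : G → ℂ) = y := fun θ hθ => degree_eq_of_mem CD hθ hθ₀
  have hS : ∑ y : (P : Subgroup G), (θ₀ : G → ℂ) y ≠ 0 := by
    have h3 := r_mul_sum CD hP hθ₀
    rw [apply_one_eq_charDegree (IsIrrCharacter.isCharacter θ₀.2), ← hy, hεm] at h3
    intro h4
    rw [h4, mul_zero] at h3
    have h5 : ((r * y + (p - 1) : ℕ) : ℂ) = 0 := by
      push_cast [Nat.cast_sub hpr.one_lt.le]
      push_cast at h3
      linear_combination -h3
    have h6 : r * y + (p - 1) = 0 := by exact_mod_cast h5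
    omega
  obtain ⟨ψ₀, hψ₀⟩ := exists_indL_eq_sumY CD hP hCP hθ₀ hS (by
    rw [hidx, Finset.sum_congr rfl (fun θ hθ => by
      rw [apply_one_eq_charDegree (IsIrrCharacter.isCharacter θ.2), hY1 θ hθ]), Finset.sum_const, CD.cardY, nsmul_eq_mul, hVy]
    push_cast
    ring)
  exact ⟨X, Y, A, B, D, δ, d, ε, θ₀, ψ₀, σ, y, CD, Pk,
    ⟨hθ₀, rfl, hY1, hσ, hVy, hmw, hyw, hym, hb, hDsn, hw1, hψ₀⟩, hεm⟩

end Cfsg.Agent.Lib.Small.BD
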