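import Mathlib
import Cfsg.Agent.Lib.Small.BrauerMainC

/-! The case `W < 0`. -/

set_option autoImplicit false
set_option linter.unusedSectionVars false
set_option linter.unusedVariables false

namespace Cfsg.Agent.Lib.Small.BD

open Cfsg Cfsg.Agent.Lib.Char Cfsg.Agent.Lib.Blocks Subgroup
open scoped ComplexConjugate

universe u

variable {G : Type u} [Group G] [Fintype G] {p : ℕ} [hp : Fact p.Prime]

section Neg

variable {P : Sylow p G} {m r n w y : ℕ} {X Y A B D : Finset (IrrCharacter G)} {δ : IrrCharacter G → ℤ}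
  {d : IrrCharacter G → ℕ} {ε : ℤ} {θ₀ : IrrCharacter G} {ψ₀ : NQ (P : Subgroup G) →* ℂˣ}

/-- The induced character at a regular element. -/
theorem indL_apply_regular (CD : CoreData P m r X Y δ ε) (ND : NegData P m r n w y Y A B D d θ₀ ψ₀) {g : G}
    (hg : ¬ p ∣ orderOf g) : indL (P : Subgroup G) ψ₀ g = (r : ℂ) * (θ₀ : G → ℂ) g := by
  classical
  rw [ND.hind, Finset.sum_apply, Finset.sum_congr rfl (fun θ hθ => CD.regY θ hθ θ₀ ND.hθ₀ g hg), Finset.sum_const, CD.cardY,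
    nsmul_eq_mul]

/-- `m` is even. -/
theorem false_of_m_odd (CD : CoreData P m r X Y δ ε) (ND : NegData P m r n w y Y A B D d θ₀ ψ₀)
    (hp2 : p ≠ 2) (hmr : m * r + 1 = p) (hr : 2 ≤ r)
    (hNcard : Nat.card (normalizer ((P : Subgroup G) : Set G)) = p * m)
    (hcard : Nat.card G = p * (m * (1 + n * p))) (hodd : ¬ 2 ∣ m) : False := by
  classical
  have hpr := hp.out
  have h2 := Nat.prime_two
  have hpodd : ¬ 2 ∣ p := fun h => hp2 ((Nat.prime_dvd_prime_iff_eq h2 hpr).mp h).symm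
  have hr2 : 2 ∣ r := by
    have h3 : 2 ∣ m * r := by
      have := hpr.eq_two_or_odd
      omega
    exact (h2.dvd_mul.mp h3).resolve_left hodd
  have hn2 : 2 ∣ n + 1 := by
    rw [ND.hnr]
    exact Dvd.dvd.mul_right hr2 w
  have hV2 : 2 ∣ 1 + n * p := by
    rw [ND.hVy]
    exact Dvd.dvd.mul_right hr2 y
  have hG2 : 2 ∣ Nat.card G := by
    rw [hcard]
    exact Dvd.dvd.mul_left (Dvd.dvd.mul_left hV2 m) p
  obtain ⟨t, ht⟩ := exists_involution hG2
  have ht2 := mul_self_of_order_two ht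
  have ht1 : t ≠ 1 := by
    rintro rfl
    simp at ht
  have hno : ∀ x : G, x⁻¹ * t * x ∉ normalizer ((P : Subgroup G) : Set G) := by
    intro x hx
    have h3 : (x⁻¹ * t * x) * (x⁻¹ * t * x) = 1 := by
      calc (x⁻¹ * t * x) * (x⁻¹ * t * x) = x⁻¹ * (t * t) * x := by group
        _ = 1 := by rw [ht2]; group
    have h4 : x⁻¹ * t * x ≠ 1 := by
      intro e
      apply ht1
      have : t = x * (x⁻¹ * t * x) * x⁻¹ := by group
      rw [this, e]
      group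
    have h5 : orderOf (x⁻¹ * t * x) = 2 := orderOf_eq_prime (by rw [pow_two]; exact h3) h4
    have h6 := orderOf_dvd_natCard (⟨_, hx⟩ : normalizer ((P : Subgroup G) : Set G))
    rw [Subgroup.orderOf_mk, h5, hNcard] at h6
    rcases h2.dvd_mul.mp h6 with h7 | h7
    · exact hpodd h7
    · exact hodd h7
  have h0 : indL (P : Subgroup G) ψ₀ t = 0 := by
    simp only [indL, indFun_apply]
    have h3 : ∀ x : G, extendByZero (normalizer ((P : Subgroup G) : Set G)) (linN (P : Subgroup G) ψ₀) (x⁻¹ * t * x) = 0 :=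
      fun x => extendByZero_of_notMem _ _ (hno x)
    simp only [h3, Finset.sum_const_zero, mul_zero]
  rw [indL_apply_regular CD ND (regular_of_order_two hp2 ht)] at h0
  have hr0 : (r : ℂ) ≠ 0 := by exact_mod_cast (by omega : r ≠ 0)
  have h3 := (mul_eq_zero.mp h0).resolve_left hr0
  obtain ⟨u, hu, -, hu2⟩ := involution_value θ₀ ht
  rw [h3] at hu
  have hu0 : u = 0 := by
    have : ((0 : ℤ) : ℂ) = (u : ℂ) := by simpa using hu
    exact (Int.cast_injective this).symm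
  rw [hu0, ND.hy, Int.sub_zero] at hu2
  have hy2 : 2 ∣ y := by exact_mod_cast hu2
  have hnodd : ¬ 2 ∣ n := by omega
  have hmn : ¬ 2 ∣ m * n := fun h => (h2.dvd_mul.mp h).elim hodd hnodd
  have hq : 2 ∣ A.card * (n + 1) := Dvd.dvd.mul_left hn2 _
  have hmw := ND.hmw
  have hyw := ND.hyw
  omega

set_option maxHeartbeats 2000000 in
/-- The case `m` even. -/
theorem conclusion_of_m_even [IsSimpleGroup G] (hnc : ¬ IsMulCommutative G)
    (hP : Nat.card (P : Subgroup G) = p) (hp2 : p ≠ 2)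
    (hC : Nat.card (centralizer ((P : Subgroup G) : Set G)) = p)
    (CD : CoreData P m r X Y δ ε) (Pk : Pack p (P : Subgroup G) n X Y A B D δ d)
    (ND : NegData P m r n w y Y A B D d θ₀ ψ₀) (hε : ε = -1)
    (hmr : m * r + 1 = p) (hr : 2 ≤ r) (hn2 : 2 ≤ n)
    (hNcard : Nat.card (normalizer ((P : Subgroup G) : Set G)) = p * m)
    (hcard : Nat.card G = p * (m * (1 + n * p)))
    (hidx : (normalizer ((P : Subgroup G) : Set G)).index = 1 + n * p) (heven : 2 ∣ m) :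
    ∃ (k : ℕ) (F : Type) (_ : Field F) (_ : Fintype F), Fintype.card F = 2 ^ k ∧ p = 2 ^ k + 1 ∧ 3 < p ∧
      Nonempty (G ≃* Matrix.ProjectiveSpecialLinearGroup (Fin 2) F) := by
  classical
  have hpr := hp.out
  have hCP := mem_of_card_centralizer hP hC
  have hm0 : 0 < m := by
    rcases Nat.eq_zero_or_pos m with h | h
    · rw [h] at hNcard
      have := Nat.card_pos (α := normalizer ((P : Subgroup G) : Set G))
      omega
    · exact h
  have h2N : 2 ∣ Nat.card (normalizer ((P : Subgroup G) : Set G)) := by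
    rw [hNcard]
    exact Dvd.dvd.mul_left heven p
  obtain ⟨t, ht, hinv⟩ := exists_inverting hp2 (P : Subgroup G) hP hC h2N
  have ht2 := mul_self_of_order_two ht
  have ht1 : t ≠ 1 := by
    rintro rfl
    simp at ht
  have htN := mem_normalizer_of_inverts ht2 hinv
  have htP := notMem_of_order_two hP hp2 ht
  have hreg := regular_of_order_two (p := p) hp2 ht
  have hinvt : t⁻¹ = t := inv_eq_of_mul_eq_one_left ht2
  choose τ hτ using fun χ : IrrCharacter G => E3.exists_int_value χ ht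
  set s := τ θ₀ with hs
  have hYs : ∀ θ ∈ Y, (θ : G → ℂ) t = (s : ℂ) := by
    intro θ hθ
    rw [CD.regY θ hθ θ₀ ND.hθ₀ t hreg, hτ]
  have hY1 : ∀ θ ∈ Y, (θ : G → ℂ) 1 = (y : ℂ) := by
    intro θ hθ
    rw [apply_one_eq_charDegree (IsIrrCharacter.isCharacter θ.2), ND.hdegY θ hθ]
  have hy0 : (y : ℂ) ≠ 0 := by
    rw [← hY1 θ₀ ND.hθ₀]
    exact IsIrrCharacter.apply_one_ne_zero θ₀.2
  have hyN : y ≠ 0 := by
    intro h
    rw [h] at hy0
    simp at hy0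
  have hr0 : (r : ℂ) ≠ 0 := by exact_mod_cast (by omega : r ≠ 0)
  have hm0c : (m : ℂ) ≠ 0 := by exact_mod_cast hm0.ne'
  have hp0c : (p : ℂ) ≠ 0 := by exact_mod_cast hpr.ne_zero
  set f := indL (P : Subgroup G) 1 t with hf
  have hfm := indL_one_mul hP hp2 hCP ht2 hinv hNcard
  set C := Nat.card (centralizer ({t} : Set G)) with hCdef
  have hindt : indL (P : Subgroup G) ψ₀ t = (r : ℂ) * s := by
    rw [indL_apply_regular CD ND hreg, hτ]
  have hf2 : f ^ 2 = ((r : ℂ) * s) ^ 2 := by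
    rw [← hindt]
    exact (indL_sq_at hP hp2 hCP ht2 hinv ψ₀).symm
  have hC2 : ((C : ℤ)) ^ 2 = ((r : ℤ) * s * m) ^ 2 := by
    have h1 : ((C : ℂ)) ^ 2 = ((r : ℂ) * s * m) ^ 2 := by
      rw [← hfm, mul_pow, hf2, mul_pow ((r : ℂ) * s)]
    exact_mod_cast h1
  have hA2 : ∀ χ ∈ A, (χ : G → ℂ) t ^ 2 = ((r : ℂ) * s) ^ 2 := by
    intro χ hχ
    obtain ⟨ψ, hψ⟩ := typeA_eq_indL hP hCP hidx (Pk.valA χ hχ) (Pk.degA χ hχ)
    rw [← hψ, indL_sq_at hP hp2 hCP ht2 hinv ψ, ← hf, hf2]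
  have hB0 : ∀ χ ∈ B, (χ : G → ℂ) t = 0 := fun χ hχ => typeB_vanish hP hCP (Pk.valB χ hχ) (Pk.degB χ hχ) htN htP
  obtain ⟨⟨z, hz⟩, hz1⟩ : ∃ z : (P : Subgroup G), z ≠ 1 := by
    have hne : (P : Subgroup G) ≠ ⊥ := by
      intro h
      rw [h] at hP
      simp at hP
      exact hpr.ne_one hP.symm
    exact Subgroup.ne_bot_iff_exists_ne_one.mp hne
  have hz1' : z ≠ 1 := fun e => hz1 (Subtype.ext e)
  have hpair := pair_at_z Pk hP hp2 hCP ht2 hinv hB0 hz hz1'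
  have hV : ((1 + n * p : ℕ) : ℂ) = (r : ℂ) * y := by
    rw [ND.hVy]
    push_cast
    ring
  have hSY : ∑ θ ∈ Y, (θ : G → ℂ) t ^ 2 * (θ : G → ℂ) z⁻¹ / (θ : G → ℂ) 1 = (s : ℂ) ^ 2 / y := by
    have h1 : ∀ θ ∈ Y, (θ : G → ℂ) t ^ 2 * (θ : G → ℂ) z⁻¹ / (θ : G → ℂ) 1 = (s : ℂ) ^ 2 / y * (θ : G → ℂ) z⁻¹ := by
      intro θ hθ
      rw [hYs θ hθ, hY1 θ hθ]
      ring
    rw [Finset.sum_congr rfl h1, ← Finset.mul_sum, CD.sumY _ (inv_mem hz) (inv_ne_one.mpr hz1'), hε]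
    push_cast
    ring
  rw [hSY, Finset.sum_congr rfl hA2, Finset.sum_const, nsmul_eq_mul, hV, hcard] at hpair
  have hkey : r * m * s ^ 2 = (y : ℤ) + A.card * r * s ^ 2 + s ^ 2 := by
    have h1 : (r : ℂ) * m * (s : ℂ) ^ 2 = (y : ℂ) + A.card * r * (s : ℂ) ^ 2 + (s : ℂ) ^ 2 := by
      have hCc : (C : ℂ) ^ 2 = ((r : ℂ) * s * m) ^ 2 := by exact_mod_cast hC2
      rw [hCc, Nat.cast_mul, Nat.cast_mul, ← Nat.cast_mul r y] at hpair
      have h3 : ((1 + n * p : ℕ) : ℂ) = (r : ℂ) * y := hV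
      rw [ND.hVy] at hpair
      push_cast at hpair
      have h4 : (p : ℂ) * (m * (r * y)) * (1 + (A.card : ℂ) * (r * s) ^ 2 / (r * y) + (s : ℂ) ^ 2 / y) =
          (p : ℂ) * m * r * (y + A.card * r * (s : ℂ) ^ 2 + (s : ℂ) ^ 2) := by
        field_simp
      rw [h4] at hpair
      apply mul_left_cancel₀ (mul_ne_zero (mul_ne_zero hp0c hm0c) hr0)
      linear_combination hpair
    exact_mod_cast h1
  have hnZ : (n : ℤ) + 1 = r * w := by exact_mod_cast ND.hnr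
  have hmwZ : (m : ℤ) = (A.card : ℤ) * (n + 1) + w + 1 := by exact_mod_cast ND.hmw
  have hywZ : (y : ℤ) = m * n + w := by exact_mod_cast ND.hyw
  obtain ⟨hw1, hS1⟩ := s_arith hnZ hmwZ hywZ hkey (by exact_mod_cast hr) (by exact_mod_cast ND.hw1) (by positivity) (by positivity) (sq_nonneg s)
  have hw1' : w = 1 := by exact_mod_cast hw1
  subst hw1'
  -- `|C_G(t)| = m r`
  have hCval : C = m * r := by
    have h1 : ((C : ℤ)) ^ 2 = ((m * r : ℕ) : ℤ) ^ 2 := by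
      rw [hC2]
      have : ((r : ℤ) * s * m) ^ 2 = (r : ℤ) ^ 2 * s ^ 2 * (m : ℤ) ^ 2 := by ring
      rw [this, hS1]
      push_cast
      ring
    have h2 : C ^ 2 = (m * r) ^ 2 := by exact_mod_cast h1
    exact Nat.pow_left_injective (n := 2) (by norm_num) h2
  have hCp : (C : ℤ) = p - 1 := by
    rw [hCval]
    have h1 : (p : ℤ) = m * r + 1 := by exact_mod_cast hmr.symm
    rw [h1]
    push_cast
    ring
  -- the regular identity at `t`
  have hrZ : (r : ℤ) = n + 1 := by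
    rw [hnZ]
    simp
  have hSAB : ∑ χ ∈ B, τ χ = 0 := Finset.sum_eq_zero fun χ hχ => by
    have h1 := hB0 χ hχ
    rw [hτ] at h1
    exact_mod_cast h1
  have hregt : -s = 1 + ∑ χ ∈ A, τ χ := by
    have h1 := CD.reg θ₀ ND.hθ₀ t hreg
    rw [Pk.sumX, Pk.δone] at h1
    have h2 : ∑ χ ∈ A, (δ χ : ℂ) * (χ : G → ℂ) t = ((∑ χ ∈ A, τ χ : ℤ) : ℂ) := by
      push_cast
      refine Finset.sum_congr rfl fun χ hχ => ?_
      rw [Pk.δA χ hχ, hτ]
      simp
    have h3 : ∑ χ ∈ B, (δ χ : ℂ) * (χ : G → ℂ) t = 0 := Finset.sum_eq_zero fun χ hχ => by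
      rw [hB0 χ hχ, mul_zero]
    have h4 : ((one' G : IrrCharacter G) : G → ℂ) t = 1 := rfl
    rw [h2, h3, h4, hε, hτ] at h1
    have h5 : ((-s : ℤ) : ℂ) = ((1 + ∑ χ ∈ A, τ χ : ℤ) : ℂ) := by
      push_cast at h1 ⊢
      linear_combination h1
    exact Int.cast_injective h5
  -- column orthogonality
  have hcol : 1 + (1 + (n : ℤ) * p) * ∑ χ ∈ A, τ χ + r * y * s + p * ∑ χ ∈ D, (d χ : ℤ) * τ χ = 0 := by
    have h1 := sum_irr_degree_mul_apply t
    rw [if_neg ht1, Pk.sumAll, Pk.sumX] at h1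
    have h2 : ∑ χ ∈ A, (χ : G → ℂ) 1 * (χ : G → ℂ) t = (((1 + (n : ℤ) * p) * ∑ χ ∈ A, τ χ : ℤ) : ℂ) := by
      push_cast
      rw [Finset.mul_sum]
      refine Finset.sum_congr rfl fun χ hχ => ?_
      rw [apply_one_eq_charDegree (IsIrrCharacter.isCharacter χ.2), Pk.degA χ hχ, hτ]
      push_cast
      ring
    have h3 : ∑ χ ∈ B, (χ : G → ℂ) 1 * (χ : G → ℂ) t = 0 := Finset.sum_eq_zero fun χ hχ => by
      rw [hB0 χ hχ, mul_zero]
    have h4 : ∑ χ ∈ Y, (χ : G → ℂ) 1 * (χ : G → ℂ) t = (((r : ℤ) * y * s : ℤ) : ℂ) := by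
      rw [Finset.sum_congr rfl (fun θ hθ => by rw [hY1 θ hθ, hYs θ hθ]), Finset.sum_const, CD.cardY, nsmul_eq_mul]
      push_cast
      ring
    have h5 : ∑ χ ∈ D, (χ : G → ℂ) 1 * (χ : G → ℂ) t = (((p : ℤ) * ∑ χ ∈ D, (d χ : ℤ) * τ χ : ℤ) : ℂ) := by
      push_cast
      rw [Finset.mul_sum]
      refine Finset.sum_congr rfl fun χ hχ => ?_
      rw [apply_one_eq_charDegree (IsIrrCharacter.isCharacter χ.2), Pk.degD χ hχ, hτ]
      push_cast
      ring
    have h6 : ((one' G : IrrCharacter G) : G → ℂ) 1 = 1 := rfl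
    rw [h2, h3, h4, h5, h6] at h1
    have h8 : ((1 + (1 + (n : ℤ) * p) * ∑ χ ∈ A, τ χ + r * y * s + p * ∑ χ ∈ D, (d χ : ℤ) * τ χ : ℤ) : ℂ) = ((0 : ℤ) : ℂ) := by
      push_cast at h1 ⊢
      linear_combination h1
    exact Int.cast_injective h8
  -- the norm of the column
  have hnorm : 1 + (A.card : ℤ) * ((r : ℤ) * s) ^ 2 + r * s ^ 2 + ∑ χ ∈ D, τ χ ^ 2 = C := by
    have h1 := sum_irr_mul_conj_of_isConj (IsConj.refl t)
    rw [Pk.sumAll, Pk.sumX] at h1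
    have hgen : ∀ χ : IrrCharacter G, (χ : G → ℂ) t * conj ((χ : G → ℂ) t) = (τ χ : ℂ) ^ 2 := by
      intro χ
      rw [hτ, map_intCast]
      ring
    simp only [hgen] at h1
    have h2 : ∑ χ ∈ A, (τ χ : ℂ) ^ 2 = (A.card : ℂ) * ((r : ℂ) * s) ^ 2 := by
      rw [Finset.sum_congr rfl (fun χ hχ => by rw [← hτ, hA2 χ hχ]), Finset.sum_const, nsmul_eq_mul]
    have h3 : ∑ χ ∈ B, (τ χ : ℂ) ^ 2 = 0 := Finset.sum_eq_zero fun χ hχ => by
      rw [← hτ, hB0 χ hχ]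
      norm_num
    have h4 : ∑ χ ∈ Y, (τ χ : ℂ) ^ 2 = (r : ℂ) * (s : ℂ) ^ 2 := by
      rw [Finset.sum_congr rfl (fun θ hθ => by rw [← hτ, hYs θ hθ]), Finset.sum_const, CD.cardY, nsmul_eq_mul]
    rw [h2, h3, h4, map_one, mul_one] at h1
    have h8 : ((1 + (A.card : ℤ) * ((r : ℤ) * s) ^ 2 + r * s ^ 2 + ∑ χ ∈ D, τ χ ^ 2 : ℤ) : ℂ) = ((C : ℤ) : ℂ) := by
      push_cast at h1 ⊢
      linear_combination h1
    exact Int.cast_injective h8
  -- `τ = d` on `D`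
  have hVZ : (1 : ℤ) + n * p = r * y := by exact_mod_cast ND.hVy
  have hSD : ∑ χ ∈ D, (d χ : ℤ) * τ χ = n := by
    have h1 : (p : ℤ) * ∑ χ ∈ D, (d χ : ℤ) * τ χ = p * n := by
      rw [hVZ] at hcol
      have h2 : ∑ χ ∈ A, τ χ = -s - 1 := by linarith
      rw [h2] at hcol
      linear_combination hcol - hVZ
    exact mul_left_cancel₀ (by exact_mod_cast hpr.ne_zero) h1
  have hSD2 : ∑ χ ∈ D, τ χ ^ 2 = n := by
    have h1 : ((r : ℤ) * s) ^ 2 = (r : ℤ) ^ 2 := by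
      have : ((r : ℤ) * s) ^ 2 = (r : ℤ) ^ 2 * s ^ 2 := by ring
      rw [this, hS1, mul_one]
    rw [h1, hS1] at hnorm
    have h2 : (C : ℤ) = m * r := by exact_mod_cast hCval
    rw [h2, hmwZ, ← hrZ] at hnorm
    push_cast at hnorm
    have h3 : (n : ℤ) = r - 1 := by linarith
    rw [h3]
    linear_combination hnorm
  have hτd : ∀ χ ∈ D, τ χ = d χ := by
    have h1 : ∑ χ ∈ D, (τ χ - (d χ : ℤ)) ^ 2 = 0 := by
      have h2 : ∀ χ ∈ D, (τ χ - (d χ : ℤ)) ^ 2 = τ χ ^ 2 - 2 * ((d χ : ℤ) * τ χ) + (d χ : ℤ) ^ 2 := fun χ _ => by ring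
      rw [Finset.sum_congr rfl h2, Finset.sum_add_distrib, Finset.sum_sub_distrib, ← Finset.mul_sum, hSD, hSD2, ND.hDs]
      ring
    have h3 := (Finset.sum_eq_zero_iff_of_nonneg (fun χ _ => sq_nonneg _)).mp h1
    intro χ hχ
    have h4 := h3 χ hχ
    have h5 := pow_eq_zero_iff (two_ne_zero) |>.mp h4
    linarith
  -- the count at `t`
  letI : Fintype {x : G // IsConj t x} := Fintype.ofFinite _
  have hs2c : (s : ℂ) ^ 2 = 1 := by exact_mod_cast hS1
  have hLform := pairCount_formula t t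
  rw [hinvt, Pk.sumAll, Pk.sumX] at hLform
  have hAs : ∑ χ ∈ A, (χ : G → ℂ) t ^ 2 * (χ : G → ℂ) t / (χ : G → ℂ) 1 =
      (r : ℂ) ^ 2 * ((∑ χ ∈ A, τ χ : ℤ) : ℂ) / ((r : ℂ) * y) := by
    push_cast
    rw [Finset.mul_sum, Finset.sum_div]
    refine Finset.sum_congr rfl fun χ hχ => ?_
    rw [hA2 χ hχ, apply_one_eq_charDegree (IsIrrCharacter.isCharacter χ.2), Pk.degA χ hχ, hV, mul_pow, hs2c, mul_one, hτ]
  have hBs : ∑ χ ∈ B, (χ : G → ℂ) t ^ 2 * (χ : G → ℂ) t / (χ : G → ℂ) 1 = 0 := Finset.sum_eq_zero fun χ hχ => by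
    rw [hB0 χ hχ]
    simp
  have hYs' : ∑ χ ∈ Y, (χ : G → ℂ) t ^ 2 * (χ : G → ℂ) t / (χ : G → ℂ) 1 = (r : ℂ) * ((s : ℂ) / y) := by
    rw [Finset.sum_congr rfl (fun θ hθ => by rw [hYs θ hθ, hY1 θ hθ, hs2c, one_mul]), Finset.sum_const, CD.cardY, nsmul_eq_mul]
  have hDsc : ∑ χ ∈ D, (χ : G → ℂ) t ^ 2 * (χ : G → ℂ) t / (χ : G → ℂ) 1 = (n : ℂ) / p := by
    have h1 : ∀ χ ∈ D, (χ : G → ℂ) t ^ 2 * (χ : G → ℂ) t / (χ : G → ℂ) 1 = ((d χ : ℤ) : ℂ) ^ 2 / p := by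
      intro χ hχ
      rw [hτ, hτd χ hχ, apply_one_eq_charDegree (IsIrrCharacter.isCharacter χ.2), Pk.degD χ hχ]
      have h2 : (d χ : ℂ) ≠ 0 := by exact_mod_cast (Pk.dpos χ hχ).ne'
      push_cast
      field_simp
    rw [Finset.sum_congr rfl h1, ← Finset.sum_div]
    have h3 : ∑ χ ∈ D, ((d χ : ℤ) : ℂ) ^ 2 = (n : ℂ) := by
      have := ND.hDs
      exact_mod_cast this
    rw [h3]
  have h10 : ((one' G : IrrCharacter G) : G → ℂ) 1 = 1 := rfl
  have hCval' : Nat.card (centralizer ({t} : Set G)) = m * r := hCval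
  rw [hAs, hBs, hYs', hDsc, h10, hCval'] at hLform
  simp only [one_pow, one_mul, div_one] at hLform
  have hSAval : ∑ χ ∈ A, τ χ = -s - 1 := by linarith
  rw [hSAval, hcard] at hLform
  have hLZ : (pairCount t t : ℤ) * ((p : ℤ) - 1) = p * y - p * r + n * y := by
    have h1 : ((pairCount t t : ℂ)) * ((p : ℂ) - 1) = p * y - p * r + n * y := by
      have hp1 : (p : ℂ) - 1 = m * r := by
        have : (p : ℂ) = m * r + 1 := by exact_mod_cast hmr.symm
        rw [this]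
        ring
      rw [hp1]
      have hmr0 : (m : ℂ) * r ≠ 0 := mul_ne_zero hm0c hr0
      apply mul_left_cancel₀ hmr0
      rw [ND.hVy] at hLform
      push_cast at hLform
      have h2 : (p : ℂ) * (m * (r * y)) * (1 + (r : ℂ) ^ 2 * (-(s : ℂ) - 1) / (r * y) + 0 + r * ((s : ℂ) / y) + (n : ℂ) / p) =
          (m : ℂ) * r * ((p : ℂ) * y - p * r + n * y) := by
        field_simp
        ring
      rw [h2] at hLform
      linear_combination hLform
    exact_mod_cast h1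
  have hymZ : (y : ℤ) = p - m := by
    have h1 : (y : ℤ) + m = 1 * p := by exact_mod_cast ND.hym
    linarith
  have hLm : (pairCount t t : ℤ) = m * n := L_arith hLZ hymZ (by linarith) (by
    have h1 : (p : ℤ) = m * r + 1 := by exact_mod_cast hmr.symm
    linarith) (by
    have : (C : ℤ) = p - 1 := hCp
    rw [← this]
    have : 0 < C := Nat.card_pos
    exact_mod_cast this.ne')
  have hL : pairCount t t = m * n := by exact_mod_cast hLm
  have hnr1 : n + 1 = r := by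
    have := ND.hnr
    omega
  obtain ⟨hm2, hexp⟩ := group_end hP hp2 hCP ht2 ht1 hinv hNcard hm0 hCval hL hnr1 hn2
  have hym' : y + 2 = p := by
    have := ND.hym
    omega
  have hpodd : ¬ 2 ∣ p := fun h => hp2 ((Nat.prime_dvd_prime_iff_eq Nat.prime_two hpr).mp h).symm
  obtain ⟨k, F, i1, i2, hF, hCk, hiso⟩ := psl_of_exp hnc ht hexp (c := p * y) (by
    rw [← hCdef, hCval, hcard, ND.hVy]
    ring) (by
    intro h
    rcases Nat.prime_two.dvd_mul.mp h with h1 | h1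
    · exact hpodd h1
    · omega) (by
    rw [← hCdef, hCval, hm2]
    omega)
  refine ⟨k, F, i1, i2, hF, ?_, ?_, hiso⟩
  · rw [← hCdef, hCval] at hCk
    omega
  · rw [hm2] at hmr
    omega

end Neg

end Cfsg.Agent.Lib.Small.BD
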