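import Mathlib
import Cfsg.Agent.Lib.Small.BrauerMainD
import Cfsg.Agent.S0732

/-! The core of Brauer's theorem. -/

set_option autoImplicit false
set_option linter.unusedSectionVars false
set_option linter.unusedVariables false

namespace Cfsg.Agent.Lib.Small.BD

open Cfsg Cfsg.Agent.Lib.Char Cfsg.Agent.Lib.Blocks Subgroup
open scoped ComplexConjugate

universe u

section Semi

variable {G : Type u} [Group G] [IsSimpleGroup G]

theorem map_eq_one_of_comm (hnc : ¬ IsMulCommutative G) {A : Type*} [Group A] (hA : ∀ x y : A, x * y = y * x) (f : G →* A) (g : G) :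
    f g = 1 := by
  letI : CommGroup A := { (inferInstance : Group A) with mul_comm := hA }
  have h := SmallSimple.ker_eq_top_of_comm hnc f
  have h1 : g ∈ f.ker := by
    rw [h]
    trivial
  exact h1

/-- The automorphisms of a finite field of characteristic two commute. -/
theorem ringAut_comm {R : Type*} [Field R] [Finite R] [Algebra (ZMod 2) R] (x y : R ≃+* R) : x * y = y * x := by
  have hc : ∀ u v : Gal(R/ZMod 2), u * v = v * u := by
    intro u v
    letI := IsCyclic.commGroup (α := Gal(R/ZMod 2))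
    exact mul_comm u v
  have hcomm : ∀ f : R ≃+* R, ∀ r : ZMod 2, f (algebraMap (ZMod 2) R r) = algebraMap (ZMod 2) R r := by
    intro f r
    have h1 : (f : R →+* R).comp (algebraMap (ZMod 2) R) = algebraMap (ZMod 2) R := RingHom.ext_zmod _ _
    exact congrArg (fun g : ZMod 2 →+* R => g r) h1
  have h := hc (AlgEquiv.ofRingEquiv (f := x) (hcomm x)) (AlgEquiv.ofRingEquiv (f := y) (hcomm y))
  ext a
  exact DFunLike.congr_fun h a

theorem false_of_semiaffine (hnc : ¬ IsMulCommutative G) {R : Type*} [Field R] [Finite R] [Algebra (ZMod 2) R]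
    (σ : G →* Equiv.Perm R) (hinj : Function.Injective σ) (hsemi : ∀ g, σ g ∈ semiaffineGroup R) : False := by
  classical
  choose a b φ hσ using hsemi
  have huniq : ∀ {g : G} {a' : Rˣ} {b' : R} {φ' : R ≃+* R}, (∀ x, σ g x = (a' : R) * φ' x + b') → a' = a g ∧ b' = b g ∧ φ' = φ g := by
    intro g a' b' φ' h
    have h0 := h 0
    rw [hσ g 0] at h0
    simp only [map_zero, mul_zero, zero_add] at h0
    have h1 := h 1
    rw [hσ g 1] at h1
    simp only [map_one, mul_one] at h1
    have h2 : (a g : R) = a' := by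
      rw [← h0] at h1
      exact add_right_cancel h1
    have h3 : a g = a' := Units.ext h2
    refine ⟨h3.symm, h0.symm, ?_⟩
    ext x
    have h4 := h x
    rw [hσ g x, h3, h0] at h4
    have h5 := add_right_cancel h4
    exact (mul_left_cancel₀ a'.ne_zero h5).symm
  have hmulσ : ∀ g h x, σ (g * h) x = σ g (σ h x) := fun g h x => by
    rw [map_mul]
    rfl
  have hΦ : ∀ g h, φ (g * h) = φ g * φ h := by
    intro g h
    have h1 : ∀ x, σ (g * h) x = ((a g * Units.map (φ g : R →* R) (a h) : Rˣ) : R) * ((φ g * φ h : R ≃+* R) x) +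
        ((a g : R) * φ g (b h) + b g) := by
      intro x
      rw [hmulσ, hσ h x, hσ g]
      have e : (φ g * φ h) x = φ g (φ h x) := rfl
      rw [e]
      simp only [Units.val_mul, Units.coe_map, map_add, map_mul, MonoidHom.coe_coe]
      ring
    exact (huniq h1).2.2.symm
  have hφ1 : ∀ g, φ g = 1 := map_eq_one_of_comm hnc ringAut_comm (MonoidHom.mk' φ hΦ)
  have hσ' : ∀ g x, σ g x = (a g : R) * x + b g := by
    intro g x
    rw [hσ g x, hφ1 g]
    rfl
  have hA : ∀ g h, a (g * h) = a g * a h := by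
    intro g h
    have h1 : ∀ x, σ (g * h) x = ((a g * a h : Rˣ) : R) * ((1 : R ≃+* R) x) + ((a g : R) * b h + b g) := by
      intro x
      rw [hmulσ, hσ' h x, hσ' g]
      have e : (1 : R ≃+* R) x = x := rfl
      rw [e]
      simp only [Units.val_mul]
      ring
    exact (huniq h1).1.symm
  have ha1 : ∀ g, a g = 1 := map_eq_one_of_comm hnc (fun x y => mul_comm x y) (MonoidHom.mk' a hA)
  have hσ'' : ∀ g x, σ g x = x + b g := by
    intro g x
    rw [hσ' g x, ha1 g]
    simp
  apply hnc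
  refine ⟨⟨fun g h => hinj ?_⟩⟩
  ext x
  rw [hmulσ, hmulσ, hσ'', hσ'', hσ'', hσ'']
  ring

end Semi

variable {G : Type u} [Group G] [Fintype G] {p : ℕ} [hp : Fact p.Prime]

/-- `n = 1`. -/
theorem conclusion_of_n_one [IsSimpleGroup G] (hnc : ¬ IsMulCommutative G) (P : Sylow p G)
    (hP : Nat.card (P : Subgroup G) = p) (hp2 : p ≠ 2)
    (hC : Nat.card (centralizer ((P : Subgroup G) : Set G)) = p) {m : ℕ}
    (hCN : (centralizer ((P : Subgroup G) : Set G)).relIndex (normalizer ((P : Subgroup G) : Set G)) = m)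
    (hm1 : 1 < m) (hmd : m ∣ p - 1) (hv : Nat.card (Sylow p G) = 1 + 1 * p) :
    ∃ (F : Type) (_ : Field F) (_ : Fintype F), Fintype.card F = p ∧ 3 < p ∧
      Nonempty (G ≃* Matrix.ProjectiveSpecialLinearGroup (Fin 2) F) := by
  classical
  have hpr := hp.out
  letI : Fintype (Sylow p G) := Fintype.ofFinite _
  have hα : Fintype.card (Sylow p G) = p + 1 := by
    rw [← Nat.card_eq_fintype_card, hv]
    ring
  have hNcard : Nat.card (normalizer ((P : Subgroup G) : Set G)) = p * m := by
    have h1 := card_normalizer_eq (P : Subgroup G) hCN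
    rw [h1, hC, mul_comm]
  have hcard : Nat.card G = (p + 1) * p * m := by
    have h1 := SmallSimple.card_normalizer_mul_card_sylow p P
    have h3 : Nat.card (normalizer ((P : Subgroup G) : Set G)) * Nat.card (Sylow p G) = Nat.card G := h1
    rw [← h3, hNcard, hv]
    ring
  let φ := MulAction.toPermHom G (Sylow p G)
  have hinj : Function.Injective φ := by
    rw [injective_iff_map_eq_one]
    intro g hg
    apply sylow_faithful (p := p) (by rw [hv]; have := hpr.two_le; omega)
    intro R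
    have h1 := congrArg (fun x : Equiv.Perm (Sylow p G) => x R) hg
    exact h1
  let H := φ.range
  let e : G ≃* H := MonoidHom.ofInjective hinj
  haveI htrans : MulAction.IsPretransitive H (Sylow p G) := by
    refine ⟨fun a b => ?_⟩
    obtain ⟨g, hg⟩ := MulAction.exists_smul_eq G a b
    exact ⟨e g, hg⟩
  have hHcard : Nat.card H = (p + 1) * p * m := by
    rw [← hcard]
    exact (Nat.card_congr e.toEquiv).symm
  have hmlt : m < p := by
    have h1 := Nat.le_of_dvd (by have := hpr.two_le; omega) hmd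
    have := hpr.two_le
    omega
  rcases Cfsg.Agent.S0732.result hpr hα H hHcard hmlt with ⟨h1, -⟩ | ⟨h1, ⟨iso⟩⟩ | ⟨q, hq, -, -, e', hsemi⟩
  · exfalso
    exact false_of_r_one hnc P hP hp2 hC (by rw [hCN, h1]) (n := 1) le_rfl (by have := hpr.two_le; omega) hv
  · refine ⟨ZMod p, inferInstance, inferInstance, ZMod.card p, ?_, ⟨e.trans iso⟩⟩
    have := hpr.two_le
    omega
  · exfalso
    let σ : G →* Equiv.Perm (GaloisField 2 q) := MonoidHom.mk' (fun g => e'.symm.trans ((φ g).trans e')) (by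
      intro g h
      refine Equiv.ext fun x => ?_
      simp [φ, mul_smul])
    haveI : Fact (Nat.Prime 2) := ⟨Nat.prime_two⟩
    refine false_of_semiaffine hnc σ ?_ (fun g => hsemi (e g))
    intro g h hgh
    apply hinj
    refine Equiv.ext fun x => ?_
    have h1 := congrArg (fun τ : Equiv.Perm (GaloisField 2 q) => τ (e' x)) hgh
    simpa [σ] using h1

/-- **Brauer's theorem**, core form with abstract degree hypotheses. -/
theorem brauer_core_gen [IsSimpleGroup G] (hnc : ¬ IsMulCommutative G) (P : Sylow p G)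
    (hP : Nat.card (P : Subgroup G) = p) (hp2 : p ≠ 2)
    (hC : Nat.card (centralizer ((P : Subgroup G) : Set G)) = p) {n : ℕ} (hn1 : 1 ≤ n)
    (hdegA : ∀ χ : IrrCharacter G, χ ≠ one' G → (∀ y ∈ (P : Subgroup G), y ≠ 1 → (χ : G → ℂ) y = 1) → charDegree (χ : G → ℂ) = 1 + n * p)
    (hdegB : ∀ χ : IrrCharacter G, χ ≠ one' G → (∀ y ∈ (P : Subgroup G), y ≠ 1 → (χ : G → ℂ) y = -1) → charDegree (χ : G → ℂ) + 1 = p)
    (hsig : ∀ m r w σ : ℕ, m * r + 1 = p → 1 < m → 2 ≤ r → 1 ≤ w → n + 1 = r * σ → w ≤ σ → m < w * p → (w * p - m) ∣ m * (1 + n * p) → σ = w)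
    (hv : Nat.card (Sylow p G) = 1 + n * p) :
    (∃ (F : Type) (_ : Field F) (_ : Fintype F), Fintype.card F = p ∧ 3 < p ∧
      Nonempty (G ≃* Matrix.ProjectiveSpecialLinearGroup (Fin 2) F)) ∨
    (∃ (k : ℕ) (F : Type) (_ : Field F) (_ : Fintype F), Fintype.card F = 2 ^ k ∧ p = 2 ^ k + 1 ∧ 3 < p ∧
      Nonempty (G ≃* Matrix.ProjectiveSpecialLinearGroup (Fin 2) F)) := by
  classical
  have hpr := hp.out
  have hnp : ¬ IsPGroup p G := by
    intro h
    have hS : (⊤ : Subgroup G) = (P : Subgroup G) :=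
      P.is_maximal' (IsPGroup.of_equiv h Subgroup.topEquiv.symm) le_top
    apply hnc
    refine ⟨⟨fun a b => ?_⟩⟩
    exact comm_of_prime (p := p) (P : Subgroup G) hP a (by rw [← hS]; trivial) b (by rw [← hS]; trivial)
  obtain ⟨c, m, hCN, hm1, hmd, -, -⟩ := exists_index hnc P hP hnp
  rcases Nat.lt_or_ge n 2 with hn | hn2
  · have hn' : n = 1 := by omega
    subst hn'
    exact Or.inl (conclusion_of_n_one hnc P hP hp2 hC hCN hm1 hmd hv)
  right
  obtain ⟨r, hr⟩ := hmd
  have hp3 : 3 ≤ p := by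
    have := hpr.two_le
    omega
  have hmr : m * r + 1 = p := by omega
  have hr0 : r ≠ 0 := by
    rintro rfl
    omega
  rcases Nat.lt_or_ge r 2 with hr1 | hr2
  · exfalso
    have hr' : r = 1 := by omega
    refine false_of_r_one_gen P hP hp2 hC ?_ hn1 hdegA hdegB hv
    rw [hCN, hr, hr', mul_one]
  obtain ⟨X, Y, A, B, D, δ, d, ε, θ₀, ψ₀, w, y, CD, Pk, ND, hε⟩ := exists_negData_gen P hP hp2 hC hCN hmr hm1 hr2 hn2 hdegA hdegB
    (fun w σ => hsig m r w σ hmr hm1 hr2) hv
  have hNcard : Nat.card (normalizer ((P : Subgroup G) : Set G)) = p * m := by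
    have h1 := card_normalizer_eq (P : Subgroup G) hCN
    rw [h1, hC, mul_comm]
  have hcard : Nat.card G = p * (m * (1 + n * p)) := by
    have h1 := SmallSimple.card_normalizer_mul_card_sylow p P
    have h3 : Nat.card (normalizer ((P : Subgroup G) : Set G)) * Nat.card (Sylow p G) = Nat.card G := h1
    rw [← h3, hNcard, hv]
    ring
  have hidx : (normalizer ((P : Subgroup G) : Set G)).index = 1 + n * p :=
    (Sylow.card_eq_index_normalizer P).symm.trans hv
  by_cases heven : 2 ∣ m
  · exact conclusion_of_m_even hnc hP hp2 hC CD Pk ND hε hmr hr2 hn2 hNcard hcard hidx heven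
  · exact (false_of_m_odd CD ND hp2 hmr hr2 hNcard hcard heven).elim

/-- **Brauer's theorem**, core form. -/
theorem brauer_core [IsSimpleGroup G] (hnc : ¬ IsMulCommutative G) (P : Sylow p G)
    (hP : Nat.card (P : Subgroup G) = p) (hp2 : p ≠ 2)
    (hC : Nat.card (centralizer ((P : Subgroup G) : Set G)) = p) {n : ℕ} (hn1 : 1 ≤ n) (h2n : 2 * n ≤ p + 1)
    (hv : Nat.card (Sylow p G) = 1 + n * p) :
    (∃ (F : Type) (_ : Field F) (_ : Fintype F), Fintype.card F = p ∧ 3 < p ∧
      Nonempty (G ≃* Matrix.ProjectiveSpecialLinearGroup (Fin 2) F)) ∨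
    (∃ (k : ℕ) (F : Type) (_ : Field F) (_ : Fintype F), Fintype.card F = 2 ^ k ∧ p = 2 ^ k + 1 ∧ 3 < p ∧
      Nonempty (G ≃* Matrix.ProjectiveSpecialLinearGroup (Fin 2) F)) := by
  classical
  have hpr := hp.out
  have hnp : ¬ IsPGroup p G := by
    intro h
    have hS : (⊤ : Subgroup G) = (P : Subgroup G) :=
      P.is_maximal' (IsPGroup.of_equiv h Subgroup.topEquiv.symm) le_top
    apply hnc
    refine ⟨⟨fun a b => ?_⟩⟩
    exact comm_of_prime (p := p) (P : Subgroup G) hP a (by rw [← hS]; trivial) b (by rw [← hS]; trivial)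
  obtain ⟨c, m, hCN, hm1, hmd, -, -⟩ := exists_index hnc P hP hnp
  obtain ⟨r, hr⟩ := hmd
  have hp3 : 3 ≤ p := by
    have := hpr.two_le
    omega
  have hmr : p = m * r + 1 := by omega
  have hr0 : 0 < r := by
    rcases Nat.eq_zero_or_pos r with h | h
    · rw [h] at hr
      omega
    · exact h
  have hcard := card_eq_of_index P hC hCN hv
  exact brauer_core_gen hnc P hP hp2 hC hn1
    (fun _ hχ hv' => degree_typeA hnc hP hmr (by omega) hr0 hp3 h2n hcard hχ hv')
    (fun _ hχ hv' => degree_typeB hnc hP hmr (by omega) hr0 hp3 h2n hn1 hcard hχ hv')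
    (fun m' r' w σ h1 h2 h3 h4 h5 h6 h7 h8 => sigma_eq h1.symm (by omega) h3 h4 h5 h2n h6 h7 h8) hv

end Cfsg.Agent.Lib.Small.BD
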