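import Mathlib
import Cfsg.Agent.Lib.Small.BrauerMainE

/-! Reduction of Brauer's theorem for perfect groups to simple groups. -/

set_option autoImplicit false
set_option linter.unusedSectionVars false
set_option linter.unusedVariables false

namespace Cfsg.Agent.Lib.Small.BD

open Cfsg Cfsg.Agent.Lib.Char Subgroup
open scoped Pointwise

universe u

variable {G : Type u} [Group G] [Finite G] {p : ℕ} [hp : Fact p.Prime]

omit [Finite G] in
/-- A normal subgroup supplementing a solvable subgroup of a perfect group is everything. -/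
theorem top_of_sup (hperf : commutator G = ⊤) {N K : Subgroup G} [K.Normal] (hN : Group.IsSolvable N) (hsup : N ⊔ K = ⊤) :
    K = ⊤ := by
  classical
  let f : N →* G ⧸ K := (QuotientGroup.mk' K).comp N.subtype
  have hf : Function.Surjective f := by
    intro q
    obtain ⟨g, rfl⟩ := QuotientGroup.mk'_surjective K q
    have hg : g ∈ N ⊔ K := by
      rw [hsup]
      trivial
    rw [← SetLike.mem_coe, Subgroup.mul_normal] at hg
    obtain ⟨n, hn, k, hk, rfl⟩ := Set.mem_mul.mp hg
    refine ⟨⟨n, hn⟩, ?_⟩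
    have h1 : (QuotientGroup.mk' K) k = 1 := (QuotientGroup.eq_one_iff k).mpr hk
    simp only [f, MonoidHom.comp_apply, Subgroup.coe_subtype, map_mul, h1, mul_one]
  haveI : Group.IsSolvable (G ⧸ K) := Group.isSolvable_of_surjective hf
  by_contra hK
  haveI : Nontrivial (G ⧸ K) := by
    rw [QuotientGroup.nontrivial_iff]
    exact hK
  have h1 := Group.IsSolvable.commutator_lt_top_of_nontrivial (G := G ⧸ K)
  have h2 : commutator (G ⧸ K) = ⊤ := by
    have h3 := Subgroup.map_commutator (⊤ : Subgroup G) ⊤ (QuotientGroup.mk' K)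
    have h4 : (⊤ : Subgroup G).map (QuotientGroup.mk' K) = ⊤ :=
      Subgroup.map_top_of_surjective _ (QuotientGroup.mk'_surjective K)
    rw [h4] at h3
    have h5 : ⁅(⊤ : Subgroup G), (⊤ : Subgroup G)⁆ = ⊤ := hperf
    rw [h5, h4] at h3
    exact h3.symm
  rw [h2] at h1
  exact lt_irrefl _ h1

theorem isSolvable_normalizer {P : Subgroup G} (hP : Nat.card P = p)
    (hC : ∀ x, x ∈ centralizer (P : Set G) → x ∈ P) : Group.IsSolvable (normalizer (P : Set G)) := by
  classical
  letI : Fintype G := Fintype.ofFinite _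
  have hcomm := comm_of_prime (p := p) P hP
  haveI h1 : Group.IsSolvable (P.subgroupOf (normalizer (P : Set G))) := Group.isSolvable_of_comm (fun a b => by
    apply Subtype.ext
    apply Subtype.ext
    exact hcomm _ a.2 _ b.2)
  haveI h2 : Group.IsSolvable (NQ P) := Group.isSolvable_of_comm (commNQ hP hC)
  refine Group.isSolvable_of_ker_le_range (P.subgroupOf (normalizer (P : Set G))).subtype (toNQ P) ?_
  intro x hx
  exact ⟨⟨x, (QuotientGroup.eq_one_iff x).mp hx⟩, rfl⟩

omit [Finite G] in
theorem mem_sylow_smul {P : Sylow p G} {g x : G} : x ∈ ((g • P : Sylow p G) : Subgroup G) ↔ g⁻¹ * x * g ∈ (P : Subgroup G) := by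
  constructor
  · intro h
    have h5 : x ∈ (MulAut.conj g • (P : Subgroup G)) := h
    obtain ⟨y, hy, hye⟩ := (Subgroup.mem_smul_pointwise_iff_exists _ _ _).mp h5
    rw [← hye, MulAut.smul_def, MulAut.conj_apply]
    have : g⁻¹ * (g * y * g⁻¹) * g = y := by group
    rw [this]
    exact hy
  · intro h
    refine (Subgroup.mem_smul_pointwise_iff_exists _ _ _).mpr ⟨_, h, ?_⟩
    rw [MulAut.smul_def, MulAut.conj_apply]
    group

/-- Every Sylow subgroup is self-centralizing if one is. -/
theorem mem_of_centralizer_sylow {P : Sylow p G} (hC : ∀ x, x ∈ centralizer ((P : Subgroup G) : Set G) → x ∈ (P : Subgroup G))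
    (Q : Sylow p G) {x : G} (hx : x ∈ centralizer ((Q : Subgroup G) : Set G)) : x ∈ (Q : Subgroup G) := by
  obtain ⟨g, rfl⟩ := MulAction.exists_smul_eq G P Q
  rw [mem_sylow_smul]
  apply hC
  rw [mem_centralizer_iff]
  intro y hy
  have h1 : g * y * g⁻¹ ∈ ((g • P : Sylow p G) : Subgroup G) := by
    rw [mem_sylow_smul]
    have : g⁻¹ * (g * y * g⁻¹) * g = y := by group
    rw [this]
    exact hy
  have h2 := mem_centralizer_iff.mp hx _ h1
  calc y * (g⁻¹ * x * g) = g⁻¹ * ((g * y * g⁻¹) * x) * g := by group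
    _ = g⁻¹ * (x * (g * y * g⁻¹)) * g := by rw [h2]
    _ = g⁻¹ * x * g * y := by group

theorem sylow_card_eq {P : Sylow p G} (hP : Nat.card (P : Subgroup G) = p) (Q : Sylow p G) :
    Nat.card (Q : Subgroup G) = p := by
  rw [Sylow.card_eq_multiplicity Q, ← Sylow.card_eq_multiplicity P, hP]

theorem eq_one_of_mem_inter {Q K : Subgroup G} (hQ : Nat.card Q = p) (hK : ¬ p ∣ Nat.card K) {x : G} (h1 : x ∈ Q) (h2 : x ∈ K) :
    x = 1 := by
  have h3 := orderOf_dvd_natCard (⟨x, h1⟩ : Q)
  have h4 := orderOf_dvd_natCard (⟨x, h2⟩ : K)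
  rw [Subgroup.orderOf_mk] at h3 h4
  rw [hQ] at h3
  rcases (Nat.dvd_prime hp.out).mp h3 with h5 | h5
  · exact orderOf_eq_one_iff.mp h5
  · rw [h5] at h4
    exact absurd h4 hK

/-- The class formula for a free action. -/
theorem exists_orbit_count (K : Subgroup G) (S : Type*) [MulAction K S] [Finite S]
    (hfree : ∀ (b : S) (k : K), k • b = b → k = 1) :
    ∃ ν : ℕ, Nat.card S = ν * Nat.card K ∧ (ν = 1 → ∀ a b : S, ∃ k : K, k • a = b) := by
  classical
  letI : Fintype K := Fintype.ofFinite _
  letI : Fintype S := Fintype.ofFinite _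
  letI : Fintype (Quotient (MulAction.orbitRel K S)) := Fintype.ofFinite _
  letI : ∀ b : S, Fintype (MulAction.stabilizer K b) := fun b => Fintype.ofFinite _
  have h1 := MulAction.card_eq_sum_card_group_div_card_stabilizer K S
  have h2 : ∀ b : S, Fintype.card (MulAction.stabilizer K b) = 1 := by
    intro b
    rw [Fintype.card_eq_one_iff]
    refine ⟨1, fun x => ?_⟩
    apply Subtype.ext
    exact hfree b x x.2
  simp only [h2, Nat.div_one, Finset.sum_const, Finset.card_univ, smul_eq_mul] at h1
  refine ⟨Fintype.card (Quotient (MulAction.orbitRel K S)), ?_, ?_⟩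
  · rw [Nat.card_eq_fintype_card, Nat.card_eq_fintype_card, h1]
  · intro hν a b
    have h3 : Subsingleton (Quotient (MulAction.orbitRel K S)) := Fintype.card_le_one_iff_subsingleton.mp (by omega)
    have h4 : (Quotient.mk'' b : Quotient (MulAction.orbitRel K S)) = Quotient.mk'' a := Subsingleton.elim _ _
    have h5 := Quotient.exact h4
    obtain ⟨k, hk⟩ := h5
    exact ⟨k, hk⟩

/-- `|K| ≡ 1 mod p` when `P` acts freely on `K`. -/
theorem card_normal_modEq_one {P : Sylow p G} (hP : Nat.card (P : Subgroup G) = p)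
    (hC : ∀ x, x ∈ centralizer ((P : Subgroup G) : Set G) → x ∈ (P : Subgroup G)) (K : Subgroup G) [K.Normal]
    (hK : ¬ p ∣ Nat.card K) : Nat.card K ≡ 1 [MOD p] := by
  classical
  letI : MulAction (P : Subgroup G) K := MulAction.compHom K ((MulAut.conjNormal (H := K)).comp (P : Subgroup G).subtype)
  have h1 := (P.isPGroup').card_modEq_card_fixedPoints K
  have hact : ∀ (y : (P : Subgroup G)) (k : K), ((y • k : K) : G) = (y : G) * k * (y : G)⁻¹ := fun y k => by
    show ((MulAut.conjNormal (y : G) k : K) : G) = _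
    rw [MulAut.conjNormal_apply]
  have h2 : Nat.card (MulAction.fixedPoints (P : Subgroup G) K) = 1 := by
    rw [Nat.card_eq_one_iff_exists]
    refine ⟨⟨1, fun y => ?_⟩, fun x => ?_⟩
    · apply Subtype.ext
      rw [hact]
      simp
    · apply Subtype.ext
      apply Subtype.ext
      have hx := x.2
      rw [MulAction.mem_fixedPoints] at hx
      have h3 : ((x : K) : G) ∈ (P : Subgroup G) := by
        apply hC
        rw [mem_centralizer_iff]
        intro y hy
        have h4 := congrArg Subtype.val (hx ⟨y, hy⟩)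
        rw [hact] at h4
        calc y * ((x : K) : G) = y * ((x : K) : G) * y⁻¹ * y := by group
          _ = ((x : K) : G) * y := by rw [h4]
      exact eq_one_of_mem_inter hP hK h3 (x : K).2
  rwa [h2] at h1

/-- A normal `p'`-subgroup is trivial. -/
theorem normal_pprime_trivial (hperf : commutator G = ⊤) (P : Sylow p G) (hP : Nat.card (P : Subgroup G) = p)
    (hC : ∀ x, x ∈ centralizer ((P : Subgroup G) : Set G) → x ∈ (P : Subgroup G))
    (hn : 2 * Nat.card (Sylow p G) < (p + 1) * (p + 2)) (K : Subgroup G) [K.Normal] (hK : ¬ p ∣ Nat.card K) : K = ⊥ := by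
  classical
  by_contra hne
  have hpr := hp.out
  have hmod := card_normal_modEq_one hP hC K hK
  have hfree : ∀ (Q : Sylow p G) (k : K), k • Q = Q → k = 1 := by
    intro Q k hk
    have hQc := sylow_card_eq hP Q
    have h1 : (k : G) • Q = Q := hk
    have h2 : (k : G) ∈ normalizer ((Q : Subgroup G) : Set G) := by
      have := (Sylow.smul_eq_iff_mem_normalizer (g := (k : G)) (P := Q)).mp h1
      exact this
    have h3 : (k : G) ∈ centralizer ((Q : Subgroup G) : Set G) := by
      rw [mem_centralizer_iff]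
      intro y hy
      have h4 : (k : G) * y * (k : G)⁻¹ ∈ (Q : Subgroup G) := (mem_normalizer_iff.mp h2 y).mp hy
      have h5 : (k : G) * y * (k : G)⁻¹ * y⁻¹ ∈ (Q : Subgroup G) := mul_mem h4 (inv_mem hy)
      have h6 : (k : G) * y * (k : G)⁻¹ * y⁻¹ ∈ K := by
        have h7 : y * (k : G)⁻¹ * y⁻¹ ∈ K := ‹K.Normal›.conj_mem _ (inv_mem k.2) y
        have e : (k : G) * y * (k : G)⁻¹ * y⁻¹ = k * (y * (k : G)⁻¹ * y⁻¹) := by group
        rw [e]
        exact mul_mem k.2 h7
      have h8 := eq_one_of_mem_inter hQc hK h5 h6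
      have h9 : (k : G) * y * (k : G)⁻¹ = y := by
        calc (k : G) * y * (k : G)⁻¹ = (k : G) * y * (k : G)⁻¹ * y⁻¹ * y := by group
          _ = y := by rw [h8, one_mul]
      calc y * (k : G) = ((k : G) * y * (k : G)⁻¹) * k := by rw [h9]
        _ = (k : G) * y := by group
    have h10 := mem_of_centralizer_sylow hC Q h3
    apply Subtype.ext
    exact eq_one_of_mem_inter hQc hK h10 k.2
  obtain ⟨ν, hν, htrans⟩ := exists_orbit_count K (Sylow p G) hfree
  have hSmod : Nat.card (Sylow p G) ≡ 1 [MOD p] := card_sylow_modEq_one p G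
  have hν1 : ν ≡ 1 [MOD p] := by
    have h1 : ν * Nat.card K ≡ ν * 1 [MOD p] := hmod.mul_left ν
    rw [← hν, mul_one] at h1
    exact h1.symm.trans hSmod
  have hge : ∀ a : ℕ, a ≡ 1 [MOD p] → a ≠ 0 → a ≠ 1 → p + 1 ≤ a := by
    intro a ha h0 h1
    have h2 : (p : ℤ) ∣ (a : ℤ) - 1 := by
      have h3 := (Nat.modEq_iff_dvd.mp ha.symm)
      push_cast at h3
      exact h3
    have h3 : 0 < (a : ℤ) - 1 := by omega
    have h4 := Int.le_of_dvd h3 h2
    omega
  have hKne : Nat.card K ≠ 1 := by
    intro h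
    exact hne ((Subgroup.card_eq_one).mp h)
  have hKge := hge _ hmod Nat.card_pos.ne' hKne
  have hνne : ν ≠ 0 := by
    rintro rfl
    rw [zero_mul] at hν
    exact Nat.card_pos.ne' hν
  by_cases hν2 : ν = 1
  · have hsup : normalizer ((P : Subgroup G) : Set G) ⊔ K = ⊤ := by
      rw [eq_top_iff]
      intro g _
      obtain ⟨k, hk⟩ := htrans hν2 P (g • P)
      have h1 : ((k : G)⁻¹ * g) • P = P := by
        have h2 : k • P = (k : G) • P := rfl
        rw [mul_smul, ← hk, h2, ← mul_smul, inv_mul_cancel, one_smul]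
      have h2 : (k : G)⁻¹ * g ∈ normalizer ((P : Subgroup G) : Set G) :=
        (Sylow.smul_eq_iff_mem_normalizer (g := (k : G)⁻¹ * g) (P := P)).mp h1
      have e2 : g = (k : G) * ((k : G)⁻¹ * g) := by group
      rw [e2, sup_comm]
      exact Subgroup.mul_mem_sup k.2 h2
    have htop := top_of_sup hperf (isSolvable_normalizer hP hC) hsup
    apply hK
    rw [htop, Subgroup.card_top, ← hP]
    exact Subgroup.card_subgroup_dvd_card _
  · have hνge := hge _ hν1 hνne hν2
    have h1 : (p + 1) * (p + 1) ≤ ν * Nat.card K := Nat.mul_le_mul hνge hKge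
    rw [← hν] at h1
    have h2 : p + 2 ≤ 2 * (p + 1) := by omega
    have h3 : (p + 1) * (p + 2) ≤ (p + 1) * (2 * (p + 1)) := Nat.mul_le_mul_left _ h2
    nlinarith

/-- A normal subgroup of order divisible by `p` contains `P`. -/
theorem sylow_le_of_dvd {P : Sylow p G} (hP : Nat.card (P : Subgroup G) = p) (K : Subgroup G) [K.Normal]
    (hK : p ∣ Nat.card K) : (P : Subgroup G) ≤ K := by
  classical
  obtain ⟨x, hx⟩ := exists_prime_orderOf_dvd_card' p hK
  have hx' : orderOf (x : G) = p := by rw [Subgroup.orderOf_coe, hx]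
  have hgp : IsPGroup p (zpowers (x : G)) := by
    refine IsPGroup.iff_card.mpr ⟨1, ?_⟩
    rw [Nat.card_zpowers, hx', pow_one]
  obtain ⟨Q, hQ⟩ := hgp.exists_le_sylow
  obtain ⟨g, rfl⟩ := MulAction.exists_smul_eq G Q P
  have hxQ : (x : G) ∈ (Q : Subgroup G) := hQ (mem_zpowers _)
  have h1 : g * (x : G) * g⁻¹ ∈ ((g • Q : Sylow p G) : Subgroup G) := by
    rw [mem_sylow_smul]
    have : g⁻¹ * (g * (x : G) * g⁻¹) * g = x := by group
    rw [this]
    exact hxQ
  have h2 : g * (x : G) * g⁻¹ ∈ K := ‹K.Normal›.conj_mem _ x.2 g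
  have h3 : g * (x : G) * g⁻¹ ≠ 1 := by
    intro e
    have h4 : (x : G) = 1 := by
      have : (x : G) = g⁻¹ * (g * (x : G) * g⁻¹) * g := by group
      rw [this, e]
      group
    rw [h4, orderOf_one] at hx'
    exact hp.out.one_lt.ne hx'
  intro y hy
  have h4 : (⟨y, hy⟩ : ((g • Q : Sylow p G) : Subgroup G)) ∈ zpowers (⟨g * (x : G) * g⁻¹, h1⟩ : ((g • Q : Sylow p G) : Subgroup G)) :=
    mem_zpowers_of_prime_card hP (fun e => h3 (congrArg Subtype.val e))
  obtain ⟨k, hk⟩ := Subgroup.mem_zpowers_iff.mp h4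
  have h5 : (g * (x : G) * g⁻¹) ^ k = y := by
    have := congrArg Subtype.val hk
    simpa using this
  rw [← h5]
  exact zpow_mem h2 k

/-- The simplicity of a perfect group with few Sylow subgroups. -/
theorem simple_of_perfect (hperf : commutator G = ⊤) (P : Sylow p G) (hP : Nat.card (P : Subgroup G) = p)
    (hC : ∀ x, x ∈ centralizer ((P : Subgroup G) : Set G) → x ∈ (P : Subgroup G))
    (hn : 2 * Nat.card (Sylow p G) < (p + 1) * (p + 2)) : IsSimpleGroup G := by
  classical
  have hpr := hp.out
  haveI : Nontrivial G := by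
    by_contra h
    rw [not_nontrivial_iff_subsingleton] at h
    have h1 : Nat.card (P : Subgroup G) = 1 := Nat.card_unique
    rw [hP] at h1
    exact hpr.ne_one h1
  refine ⟨fun K hK => ?_⟩
  by_cases hd : p ∣ Nat.card K
  · right
    have hle := sylow_le_of_dvd hP K hd
    have hsup := Sylow.normalizer_sup_eq_top' P hle
    exact top_of_sup hperf (isSolvable_normalizer hP hC) hsup
  · left
    exact normal_pprime_trivial hperf P hP hC hn K hd

/-- The Sylow subgroup through a self-centralizing element. -/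
theorem exists_sylow_of_self_centralizing {z : G} (hz : orderOf z = p) (hC : centralizer ({z} : Set G) = zpowers z) :
    ∃ P : Sylow p G, Nat.card (P : Subgroup G) = p ∧ (P : Subgroup G) = zpowers z := by
  classical
  have hpr := hp.out
  have hgp : IsPGroup p (zpowers z) := by
    refine IsPGroup.iff_card.mpr ⟨1, ?_⟩
    rw [Nat.card_zpowers, hz, pow_one]
  obtain ⟨P, hQ⟩ := hgp.exists_le_sylow
  have hzP : z ∈ (P : Subgroup G) := hQ (mem_zpowers z)
  have hz1 : z ≠ 1 := by
    rintro rfl
    rw [orderOf_one] at hz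
    exact hpr.one_lt.ne hz
  haveI : Nontrivial (P : Subgroup G) := ⟨⟨⟨z, hzP⟩, 1, fun e => hz1 (congrArg Subtype.val e)⟩⟩
  haveI := P.isPGroup'.center_nontrivial
  obtain ⟨x, hx⟩ := exists_ne (1 : center (P : Subgroup G))
  have hx1 : ((x : (P : Subgroup G)) : G) ≠ 1 := by
    intro e
    apply hx
    apply Subtype.ext
    apply Subtype.ext
    exact e
  have hxc : ∀ y : (P : Subgroup G), ((x : (P : Subgroup G)) : G) * y = y * ((x : (P : Subgroup G)) : G) := by
    intro y
    have := Subgroup.mem_center_iff.mp x.2 y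
    exact (congrArg Subtype.val this).symm
  have hxz : ((x : (P : Subgroup G)) : G) ∈ zpowers z := by
    rw [← hC, mem_centralizer_singleton_iff]
    exact hxc ⟨z, hzP⟩
  -- `z` is a power of `x`
  have hzx : z ∈ zpowers ((x : (P : Subgroup G)) : G) := by
    have hcard : Nat.card (zpowers z) = p := by rw [Nat.card_zpowers, hz]
    have h1 : (⟨z, mem_zpowers z⟩ : zpowers z) ∈ zpowers (⟨_, hxz⟩ : zpowers z) :=
      mem_zpowers_of_prime_card hcard (fun e => hx1 (congrArg Subtype.val e))
    obtain ⟨k, hk⟩ := Subgroup.mem_zpowers_iff.mp h1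
    have h2 := congrArg Subtype.val hk
    exact Subgroup.mem_zpowers_iff.mpr ⟨k, by simpa using h2⟩
  have hle : (P : Subgroup G) ≤ zpowers z := by
    intro y hy
    rw [← hC, mem_centralizer_singleton_iff]
    obtain ⟨k, hk⟩ := Subgroup.mem_zpowers_iff.mp hzx
    rw [← hk]
    have h3 : Commute y ((x : (P : Subgroup G)) : G) := (hxc ⟨y, hy⟩).symm
    exact (h3.zpow_right k).eq
  have heq : (P : Subgroup G) = zpowers z := le_antisymm hle hQ
  refine ⟨P, ?_, heq⟩
  rw [heq, Nat.card_zpowers, hz]

/-- A Sylow `2`-subgroup of order two and perfection are incompatible. -/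
theorem false_of_sylow_two (hperf : commutator G = ⊤) (P : Sylow 2 G) (hP : Nat.card (P : Subgroup G) = 2) : False := by
  classical
  letI : Fintype G := Fintype.ofFinite _
  have hcomm := comm_of_prime (p := 2) (P : Subgroup G) hP
  have hN : normalizer ((P : Subgroup G) : Set G) ≤ centralizer ((P : Subgroup G) : Set G) := by
    intro x hx
    rw [mem_centralizer_iff]
    intro y hy
    by_cases hy1 : y = 1
    · rw [hy1, one_mul, mul_one]
    have h1 : x * y * x⁻¹ ∈ (P : Subgroup G) := (mem_normalizer_iff.mp hx y).mp hy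
    have h2 : x * y * x⁻¹ ≠ 1 := by
      intro e
      apply hy1
      have : y = x⁻¹ * (x * y * x⁻¹) * x := by group
      rw [this, e]
      group
    have h3 : (⟨x * y * x⁻¹, h1⟩ : (P : Subgroup G)) = ⟨y, hy⟩ := by
      have h4 : Nat.card (P : Subgroup G) = 2 := hP
      obtain ⟨a, b, hab, hall⟩ := Nat.card_eq_two_iff.mp h4
      have ha := (Set.eq_univ_iff_forall.mp hall) ⟨x * y * x⁻¹, h1⟩
      have hb := (Set.eq_univ_iff_forall.mp hall) ⟨y, hy⟩
      have hc := (Set.eq_univ_iff_forall.mp hall) (1 : (P : Subgroup G))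
      simp only [Set.mem_insert_iff, Set.mem_singleton_iff] at ha hb hc
      rcases ha with ha | ha <;> rcases hb with hb | hb <;> rcases hc with hc | hc <;>
        first
        | exact ha.trans hb.symm
        | (exfalso; apply h2; have := congrArg Subtype.val (ha.trans hc.symm); simpa using this)
        | (exfalso; apply hy1; have := congrArg Subtype.val (hb.trans hc.symm); simpa using this)
    have h5 : x * y * x⁻¹ = y := congrArg Subtype.val h3
    calc y * x = (x * y * x⁻¹) * x := by rw [h5]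
      _ = x * y := by group
  have hc := MonoidHom.ker_transferSylow_isComplement' P hN
  set f := MonoidHom.transferSylow P hN with hf
  have hker : f.ker = ⊤ := by
    rw [eq_top_iff, ← hperf]
    show ⁅(⊤ : Subgroup G), (⊤ : Subgroup G)⁆ ≤ f.ker
    rw [Subgroup.commutator_le]
    intro a _ b _
    rw [MonoidHom.mem_ker, map_commutatorElement, commutatorElement_eq_one_iff_commute]
    apply Subtype.ext
    exact hcomm _ (f a).2 _ (f b).2
  rw [hker] at hc
  have h0 : (P : Subgroup G) = ⊥ := Subgroup.isComplement'_top_left.mp hc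
  rw [h0, Subgroup.card_bot] at hP
  omega

/-- **Brauer's theorem**, for perfect groups. -/
theorem brauer_perfect (hperf : commutator G = ⊤) (P : Sylow p G) (hP : Nat.card (P : Subgroup G) = p)
    (hC : ∀ x, x ∈ centralizer ((P : Subgroup G) : Set G) → x ∈ (P : Subgroup G))
    (hn : 2 * Nat.card (Sylow p G) < (p + 1) * (p + 2)) :
    (∃ (F : Type) (_ : Field F) (_ : Fintype F), Fintype.card F = p ∧ 3 < p ∧
      Nonempty (G ≃* Matrix.ProjectiveSpecialLinearGroup (Fin 2) F)) ∨
    (∃ (k : ℕ) (F : Type) (_ : Field F) (_ : Fintype F), Fintype.card F = 2 ^ k ∧ p = 2 ^ k + 1 ∧ 3 < p ∧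
      Nonempty (G ≃* Matrix.ProjectiveSpecialLinearGroup (Fin 2) F)) := by
  classical
  letI : Fintype G := Fintype.ofFinite _
  have hpr := hp.out
  have hp2 : p ≠ 2 := by
    rintro rfl
    exact false_of_sylow_two hperf P hP
  haveI hs := simple_of_perfect hperf P hP hC hn
  have hnc : ¬ IsMulCommutative G := by
    intro h
    have h1 : commutator G = ⊥ := by
      rw [commutator_eq_bot_iff_center_eq_top]
      rw [Subgroup.eq_top_iff']
      intro g
      rw [Subgroup.mem_center_iff]
      intro x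
      exact h.is_comm.comm x g
    rw [hperf] at h1
    exact top_ne_bot h1
  have hCc : Nat.card (centralizer ((P : Subgroup G) : Set G)) = p := by
    have hle : (P : Subgroup G) ≤ centralizer ((P : Subgroup G) : Set G) := by
      intro x hx
      rw [mem_centralizer_iff]
      intro y hy
      exact comm_of_prime (p := p) (P : Subgroup G) hP y hy x hx
    have he : centralizer ((P : Subgroup G) : Set G) = (P : Subgroup G) := le_antisymm hC hle
    rw [he, hP]
  have hmod : Nat.card (Sylow p G) ≡ 1 [MOD p] := card_sylow_modEq_one p G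
  obtain ⟨n, hv⟩ : ∃ n : ℕ, Nat.card (Sylow p G) = 1 + n * p := by
    have h1 : (p : ℤ) ∣ (Nat.card (Sylow p G) : ℤ) - 1 := by
      have h3 := Nat.modEq_iff_dvd.mp hmod.symm
      push_cast at h3
      exact h3
    have h2 : 1 ≤ Nat.card (Sylow p G) := Nat.card_pos
    have h3 : p ∣ Nat.card (Sylow p G) - 1 := by
      have : ((Nat.card (Sylow p G) - 1 : ℕ) : ℤ) = (Nat.card (Sylow p G) : ℤ) - 1 := by
        push_cast [Nat.cast_sub h2]
        ring
      rw [← this] at h1
      exact_mod_cast h1
    obtain ⟨n, hn'⟩ := h3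
    exact ⟨n, by rw [mul_comm n p]; omega⟩
  have hn1 : 1 ≤ n := by
    by_contra h0
    have h1 : n = 0 := by omega
    rw [h1, zero_mul, add_zero] at hv
    haveI : Subsingleton (Sylow p G) := (Nat.card_eq_one_iff_unique.mp hv).1
    have hnorm : (P : Subgroup G).Normal := Sylow.normal_of_subsingleton P
    rcases IsSimpleGroup.eq_bot_or_eq_top_of_normal _ hnorm with h2 | h2
    · rw [h2, Subgroup.card_bot] at hP
      exact hpr.ne_one hP.symm
    · apply hnc
      refine ⟨⟨fun a b => ?_⟩⟩
      exact comm_of_prime (p := p) (P : Subgroup G) hP a (by rw [h2]; trivial) b (by rw [h2]; trivial)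
  have h2n : 2 * n ≤ p + 1 := by
    rw [hv] at hn
    have h1 : 2 * (n * p) < (p + 3) * p := by
      have e : (p + 1) * (p + 2) = (p + 3) * p + 2 := by ring
      have e2 : 2 * (1 + n * p) = 2 * (n * p) + 2 := by ring
      omega
    have h2 : (2 * n) * p < (p + 3) * p := by
      have e : (2 * n) * p = 2 * (n * p) := by ring
      omega
    have h3 := Nat.lt_of_mul_lt_mul_right h2
    have hodd : p % 2 = 1 := by
      rcases hpr.eq_two_or_odd with h | h
      · exact absurd h hp2
      · exact h
    omega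
  exact brauer_core hnc P hP hp2 hCc hn1 h2n hv

end Cfsg.Agent.Lib.Small.BD
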