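import Mathlib
import Cfsg.Agent.Lib.Small.BrauerReduce

/-! Brauer--Reynolds: simple groups of order less than `p ^ 3`. -/

set_option autoImplicit false
set_option linter.unusedSectionVars false
set_option linter.unusedVariables false

namespace Cfsg.Agent.Lib.Small.BD

open Cfsg Cfsg.Agent.Lib.Char Cfsg.Agent.Lib.Blocks Subgroup MulAction
open scoped ComplexConjugate

universe u

/-- The arithmetic for a degree `≡ -1`. -/
theorem minus_kill {p d n u x : ℕ} (hxu : x + 1 = u * p) (hu : 2 ≤ u) (hx : x ∣ d * (1 + n * p))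
    (hn : 2 ≤ n) (hdn : d * n < p) (hd : 0 < d) : False := by
  obtain ⟨k, hk⟩ := hx
  have hp0 : 0 < p := by
    rcases Nat.eq_zero_or_pos p with h | h
    · rw [h] at hdn
      omega
    · exact h
  have hxz : (x : ℤ) = u * p - 1 := by
    have : ((x + 1 : ℕ) : ℤ) = ((u * p : ℕ) : ℤ) := by rw [hxu]
    push_cast at this
    linarith
  have hkz : (d : ℤ) * (1 + n * p) = x * k := by exact_mod_cast hk
  have hkpos : 0 < k := by
    rcases Nat.eq_zero_or_pos k with h | h
    · rw [h, mul_zero] at hk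
      have : 0 < d * (1 + n * p) := by positivity
      omega
    · exact h
  rw [hxz] at hkz
  have hmod : (k : ℤ) + d = p * ((u : ℤ) * k - d * n) := by linear_combination hkz
  have hpz : (0 : ℤ) < p := by exact_mod_cast hp0
  have hkd : (0 : ℤ) < (k : ℤ) + d := by positivity
  have ht : 0 < (u : ℤ) * k - d * n := by
    by_contra h
    have h1 : (p : ℤ) * ((u : ℤ) * k - d * n) ≤ 0 := mul_nonpos_of_nonneg_of_nonpos hpz.le (by omega)
    omega
  have hge : (p : ℤ) ≤ (k : ℤ) + d := by
    rw [hmod]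
    nlinarith
  have hdnz : (d : ℤ) * n + 1 ≤ p := by exact_mod_cast hdn
  have hnz : (2 : ℤ) ≤ n := by exact_mod_cast hn
  have hdz : (1 : ℤ) ≤ d := by exact_mod_cast hd
  have huz : (2 : ℤ) ≤ u := by exact_mod_cast hu
  have h2d : (d : ℤ) * 2 ≤ d * n := mul_le_mul_of_nonneg_left hnz (by omega)
  have hxge : 2 * (p : ℤ) - 1 ≤ x := by
    rw [hxz]
    have : (2 : ℤ) * p ≤ u * p := mul_le_mul_of_nonneg_right huz hpz.le
    linarith
  have hkge : 0 ≤ (p : ℤ) - d := by
    have : (d : ℤ) ≤ d * n := by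
      have : (d : ℤ) * 1 ≤ d * n := mul_le_mul_of_nonneg_left (by omega) (by omega)
      linarith
    omega
  have h1 : (2 * (p : ℤ) - 1) * ((p : ℤ) - d) ≤ x * k := by
    apply mul_le_mul hxge (by omega) hkge
    have hx1 : (1 : ℤ) ≤ 2 * (p : ℤ) - 1 := by omega
    omega
  have hkz' : (d : ℤ) * (1 + n * p) = x * k := by exact_mod_cast hk
  rw [← hkz'] at h1
  have h2 : (p : ℤ) * (2 * p - 1) ≤ p * (2 * d + d * n) := by
    have e1 : (2 * (p : ℤ) - 1) * ((p : ℤ) - d) = p * (2 * p - 1) - 2 * p * d + d := by ring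
    have e2 : (d : ℤ) * (1 + n * p) = d + d * n * p := by ring
    have e3 : (p : ℤ) * (2 * d + d * n) = 2 * p * d + d * n * p := by ring
    rw [e1, e2] at h1
    rw [e3]
    linarith
  have h3 : 2 * (p : ℤ) - 1 ≤ 2 * d + d * n := le_of_mul_le_mul_left h2 hpz
  omega

variable {G : Type u} [Group G] [Fintype G] {p : ℕ} [hp : Fact p.Prime]

/-- With `p + 1` Sylow subgroups, `P` is self-centralizing. -/
theorem mem_of_centralizer_of_n_one [IsSimpleGroup G] (P : Sylow p G) (hP : Nat.card (P : Subgroup G) = p)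
    (hv : Nat.card (Sylow p G) = 1 + 1 * p) {x : G} (hx : x ∈ centralizer ((P : Subgroup G) : Set G)) :
    x ∈ (P : Subgroup G) := by
  classical
  have hpr := hp.out
  letI : Fintype (Sylow p G) := Fintype.ofFinite _
  -- another Sylow subgroup
  obtain ⟨Q, hQ⟩ : ∃ Q : Sylow p G, P ≠ Q := by
    by_contra h
    push Not at h
    have h1 : Nat.card (Sylow p G) = 1 := by
      rw [Nat.card_eq_one_iff_unique]
      exact ⟨⟨fun a b => by rw [← h a, ← h b]⟩, ⟨P⟩⟩
    have := hpr.pos
    omega
  have horb := card_orbit_sylow_of_ne P Q hP hQ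
  have hcomp : ∀ R : Sylow p G, R = P ∨ R ∈ orbit (P : Subgroup G) Q := by
    intro R
    by_contra hR
    push Not at hR
    obtain ⟨h1, h2⟩ := hR
    have hPo : P ∉ orbit (P : Subgroup G) Q := by
      rintro ⟨y, hy⟩
      apply hQ
      have h3 : (y : G) • Q = P := hy
      have h4 : (y : G) • P = P := sylow_smul_self y.2
      have h5 : (y : G) • Q = (y : G) • P := by rw [h3, h4]
      exact (smul_left_cancel _ h5).symm
    -- count
    let s : Finset (Sylow p G) := (Set.toFinite (orbit (P : Subgroup G) Q)).toFinset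
    have hs : s.card = p := by
      have h7 : s.card = Nat.card (orbit (P : Subgroup G) Q) := by
        rw [Nat.card_coe_set_eq, Set.ncard_eq_toFinset_card _ (Set.toFinite _)]
      exact h7.trans horb
    have h3 : P ∉ s := by simpa [s] using hPo
    have h4 : R ∉ insert P s := by
      simp only [Finset.mem_insert, not_or]
      exact ⟨h1, by simpa [s] using h2⟩
    have h5 : (insert R (insert P s)).card = p + 2 := by
      rw [Finset.card_insert_of_notMem h4, Finset.card_insert_of_notMem h3, hs]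
    have h6 := Finset.card_le_univ (insert R (insert P s))
    rw [h5, ← Nat.card_eq_fintype_card, hv] at h6
    omega
  have hxP : x • P = P := sylow_smul_of_centralizer P hx
  have hxQ : x • Q ∈ orbit (P : Subgroup G) Q := by
    rcases hcomp (x • Q) with h | h
    · exfalso
      apply hQ
      have h1 : x • Q = x • P := by rw [h, hxP]
      exact (smul_left_cancel _ h1).symm
    · exact h
  obtain ⟨y, hy⟩ := hxQ
  have hy' : (y : G) • Q = x • Q := hy
  set u : G := (y : G)⁻¹ * x with hu
  have huC : u ∈ centralizer ((P : Subgroup G) : Set G) := by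
    refine mul_mem ?_ hx
    refine inv_mem ?_
    rw [mem_centralizer_iff]
    intro a ha
    exact comm_of_prime (p := p) (P : Subgroup G) hP a ha y y.2
  have huQ : u • Q = Q := by
    rw [hu, mul_smul, ← hy', ← mul_smul, inv_mul_cancel, one_smul]
  have hu1 : u = 1 := by
    apply sylow_faithful (p := p) (by rw [hv]; have := hpr.pos; omega)
    intro R
    rcases hcomp R with rfl | ⟨a, rfl⟩
    · exact sylow_smul_of_centralizer _ huC
    · have h1 : (a : G) * u = u * a := by
        have := mem_centralizer_iff.mp huC a a.2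
        exact this
      show u • ((a : G) • Q) = (a : G) • Q
      rw [← mul_smul, ← h1, mul_smul, huQ]
  have h2 : x = y := by
    have h3 : (y : G) * u = x := by
      rw [hu]
      group
    rw [← h3, hu1, mul_one]
  rw [h2]
  exact y.2

/-- For `n ≥ 2` and small order, the centralizer of `P` is a `p`-group. -/
theorem isPGroup_centralizer_of_small [IsSimpleGroup G] (hnc : ¬ IsMulCommutative G) (P : Sylow p G)
    (hP : Nat.card (P : Subgroup G) = p) (hp2 : p ≠ 2) {m d n : ℕ}
    (hCN : (centralizer ((P : Subgroup G) : Set G)).relIndex (normalizer ((P : Subgroup G) : Set G)) = m)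
    (hm1 : 1 < m) (hmd : m ∣ p - 1) (hdm : m ≤ d)
    (hcard : Nat.card G = p * (d * (1 + n * p))) (hn : 2 ≤ n) (hdn : d * n < p) (hbig : Nat.card G < p ^ 3) :
    IsPGroup p (centralizer ((P : Subgroup G) : Set G)) := by
  classical
  by_contra hCp
  have hpr := hp.out
  have hp3 : 3 ≤ p := by
    have := hpr.two_le
    omega
  obtain ⟨M, hM⟩ := exists_isPModular hpr
  have := isPrime_of_modular hM
  obtain ⟨X, Y, hB, hdis, hXc, hYc, εX, ε, hδ, hε, hdegY, hagree, hrel⟩ := principalConclusion hM hp2 P hP hCN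
  have hN0 : d * (1 + n * p) ≠ 0 := by
    have hd0 : 0 < d := by omega
    positivity
  have hX : ∀ χ ∈ X, χ ≠ one' G → εX χ = 1 ∧ 2 * p + 1 ≤ charDegree (χ : G → ℂ) := by
    intro χ hχ hχ1
    obtain ⟨h1, h2, -⟩ := hδ χ hχ
    have hge := le_degree_of_not_isPGroup hnc hM P hCp (hB ▸ Or.inl hχ) hχ1
    have hd : (p : ℤ) ∣ (charDegree (χ : G → ℂ) : ℤ) - εX χ := by
      have := (Int.modEq_iff_dvd.mp h2.symm)
      exact this
    have hdiv := Nat.dvd_of_mem_divisors (degree_coprime h1 hd hcard hN0)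
    rcases h1 with h1 | h1
    · refine ⟨h1, ?_⟩
      rw [h1] at hd
      by_contra hlt
      have h3 : charDegree (χ : G → ℂ) = 2 * p := by omega
      rw [h3] at hd
      have h4 : (p : ℤ) ∣ (1 : ℤ) := by
        have h5 : (p : ℤ) ∣ ((2 * p : ℕ) : ℤ) := by
          push_cast
          exact Dvd.intro_left 2 rfl
        have h6 := (Int.dvd_sub h5 hd)
        have e : ((2 * p : ℕ) : ℤ) - (((2 * p : ℕ) : ℤ) - 1) = 1 := by ring
        rw [e] at h6
        exact h6
      have := Int.le_of_dvd (by norm_num) h4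
      omega
    · exfalso
      rw [h1] at hd
      have h3 : (p : ℤ) ∣ ((charDegree (χ : G → ℂ) + 1 : ℕ) : ℤ) := by
        push_cast
        simpa using hd
      obtain ⟨u, hu⟩ := Int.natCast_dvd_natCast.mp h3
      have hu2 : 2 ≤ u := by
        by_contra hlt
        have h5 : p * u ≤ p * 1 := Nat.mul_le_mul_left _ (by omega)
        omega
      exact minus_kill (u := u) (by rw [hu]; ring) hu2 hdiv hn hdn (by omega)
  have hXf : X.Finite := Set.toFinite X
  have hYf : Y.Finite := Set.toFinite Y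
  have hone : ¬ p ∣ orderOf (1 : G) := by
    rw [orderOf_one]
    exact hpr.one_lt.ne' ∘ Nat.dvd_one.mp
  obtain ⟨r, hr⟩ := hmd
  have hm0 : 0 < m := by omega
  have hr0 : 0 < r := by
    rcases Nat.eq_zero_or_pos r with h | h
    · rw [h] at hr
      omega
    · exact h
  have hYcard : Y.ncard = r := by
    rw [← Nat.card_coe_set_eq, hYc, hr]
    exact Nat.mul_div_cancel_left _ hm0
  have hXcard : X.ncard = m := by
    rw [← Nat.card_coe_set_eq, hXc]
  have hYne : Y.Nonempty := by
    rw [← Set.ncard_pos hYf, hYcard]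
    exact hr0
  obtain ⟨θ, hθ⟩ := hYne
  have hreg := hrel θ hθ 1 hone
  rw [finsum_mem_eq_finite_toFinset_sum _ hXf] at hreg
  have honeB : one' G ∈ X ∪ Y := by
    rw [← hB]
    exact self_mem_blockOf (oneIrr G)
  set y := charDegree (θ : G → ℂ) with hy
  rw [apply_one_eq_charDegree (IsIrrCharacter.isCharacter θ.2), ← hy] at hreg
  have hsumZ : ∀ S : Finset (IrrCharacter G), (∀ χ ∈ S, εX χ = 1 ∧ χ ≠ one' G) →
      ∑ χ ∈ S, (εX χ : ℂ) * (χ : G → ℂ) 1 = ((∑ χ ∈ S, charDegree (χ : G → ℂ) : ℕ) : ℂ) := by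
    intro S hS
    push_cast
    refine Finset.sum_congr rfl fun χ hχ => ?_
    rw [(hS χ hχ).1, apply_one_eq_charDegree (IsIrrCharacter.isCharacter χ.2)]
    simp
  rcases honeB with hoX | hoY
  · -- the trivial character is in `X`
    have hoε : εX (one' G) = 1 := by
      rcases (hδ _ hoX).1 with h | h
      · exact h
      · exfalso
        have h2 := (hδ _ hoX).2.1
        rw [h] at h2
        have h3 : charDegree ((one' G : IrrCharacter G) : G → ℂ) = 1 := charDegree_eq (by simp)
        rw [h3] at h2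
        have h4 := Int.modEq_iff_dvd.mp h2.symm
        have h5 : (p : ℤ) ∣ 2 := by
          norm_num at h4
          exact h4
        have h6 := Int.le_of_dvd (by norm_num) h5
        have h7 : (3 : ℤ) ≤ p := by exact_mod_cast hp3
        omega
    have hoXf : one' G ∈ hXf.toFinset := hXf.mem_toFinset.mpr hoX
    rw [← Finset.add_sum_erase _ _ hoXf, hoε] at hreg
    have he : ∀ χ ∈ hXf.toFinset.erase (one' G), εX χ = 1 ∧ χ ≠ one' G := by
      intro χ hχ
      exact ⟨(hX χ (hXf.mem_toFinset.mp (Finset.mem_of_mem_erase hχ)) (Finset.ne_of_mem_erase hχ)).1, Finset.ne_of_mem_erase hχ⟩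
    rw [hsumZ _ he] at hreg
    have h10 : ((one' G : IrrCharacter G) : G → ℂ) 1 = 1 := rfl
    rw [h10] at hreg
    set T := ∑ χ ∈ hXf.toFinset.erase (one' G), charDegree (χ : G → ℂ) with hT
    have hregZ : ε * (y : ℤ) = 1 + T := by
      have h3 : ((ε * (y : ℤ) : ℤ) : ℂ) = ((1 + (T : ℤ) : ℤ) : ℂ) := by
        push_cast at hreg ⊢
        linear_combination hreg
      exact Int.cast_injective h3
    have hTge : (m - 1) * (2 * p + 1) ≤ T := by
      have h3 : (hXf.toFinset.erase (one' G)).card = m - 1 := by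
        rw [Finset.card_erase_of_mem hoXf, ← Set.ncard_eq_toFinset_card _ hXf, hXcard]
      rw [← h3, ← smul_eq_mul]
      apply Finset.card_nsmul_le_sum
      intro χ hχ
      exact (hX χ (hXf.mem_toFinset.mp (Finset.mem_of_mem_erase hχ)) (Finset.ne_of_mem_erase hχ)).2
    have hy1 : y = 1 + T := by
      have hypos : (0 : ℤ) < 1 + T := by positivity
      rcases hε with h | h
      · rw [h, one_mul] at hregZ
        exact_mod_cast hregZ
      · rw [h] at hregZ
        have : (0 : ℤ) ≤ y := by positivity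
        omega
    -- sum of squares
    have hsq := sum_degree_sq_le (G := G) hYf.toFinset
    have hY1 : ∀ θ' ∈ hYf.toFinset, (charDegree (θ' : G → ℂ) : ℤ) ^ 2 = (y : ℤ) ^ 2 := by
      intro θ' hθ'
      have h3 := hagree θ' (hYf.mem_toFinset.mp hθ') θ hθ 1 hone
      rw [apply_one_eq_charDegree (IsIrrCharacter.isCharacter θ'.2), apply_one_eq_charDegree (IsIrrCharacter.isCharacter θ.2)] at h3
      have h4 : charDegree (θ' : G → ℂ) = charDegree (θ : G → ℂ) := by exact_mod_cast h3
      rw [h4]
    rw [Finset.sum_congr rfl hY1, Finset.sum_const, ← Set.ncard_eq_toFinset_card _ hYf, hYcard, nsmul_eq_mul] at hsq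
    have hmm : 1 ≤ m - 1 := by omega
    have hy2 : (m - 1) * (2 * p) ≤ y := by
      have h3 : (m - 1) * (2 * p) ≤ (m - 1) * (2 * p + 1) := Nat.mul_le_mul_left _ (by omega)
      omega
    have hkey : p ^ 3 ≤ r * y ^ 2 := by
      have h3 : ((m - 1) * (2 * p)) ^ 2 ≤ y ^ 2 := Nat.pow_le_pow_left hy2 2
      have h4 : m ≤ 2 * (m - 1) := by omega
      have h5 : m ≤ 2 * ((m - 1) * (m - 1)) := by
        have : (m - 1) * 1 ≤ (m - 1) * (m - 1) := Nat.mul_le_mul_left _ hmm
        omega
      have h6 : p - 1 ≤ 2 * (r * ((m - 1) * (m - 1))) := by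
        rw [hr]
        calc m * r ≤ (2 * ((m - 1) * (m - 1))) * r := Nat.mul_le_mul_right _ h5
          _ = 2 * (r * ((m - 1) * (m - 1))) := by ring
      have h7 : p ≤ 2 * (p - 1) := by omega
      have h8 : p ^ 3 ≤ (2 * (p - 1)) * p ^ 2 := by
        calc p ^ 3 = p * p ^ 2 := by ring
          _ ≤ _ := Nat.mul_le_mul_right _ h7
      have h9 : (2 * (p - 1)) * p ^ 2 ≤ (2 * (2 * (r * ((m - 1) * (m - 1))))) * p ^ 2 :=
        Nat.mul_le_mul_right _ (Nat.mul_le_mul_left _ h6)
      have h10 : (2 * (2 * (r * ((m - 1) * (m - 1))))) * p ^ 2 = r * ((m - 1) * (2 * p)) ^ 2 := by ring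
      have h11 : r * ((m - 1) * (2 * p)) ^ 2 ≤ r * y ^ 2 := Nat.mul_le_mul_left _ h3
      omega
    have hsq' : r * y ^ 2 ≤ Nat.card G := by exact_mod_cast hsq
    omega
  · -- the trivial character is in `Y`
    have hθ1 : y = 1 := by
      have h3 := hagree _ hoY θ hθ 1 hone
      rw [apply_one_eq_charDegree (IsIrrCharacter.isCharacter θ.2)] at h3
      have h4 : ((one' G : IrrCharacter G) : G → ℂ) 1 = 1 := rfl
      rw [h4] at h3
      have h5 : (1 : ℕ) = y := by exact_mod_cast h3
      exact h5.symm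
    have he : ∀ χ ∈ hXf.toFinset, εX χ = 1 ∧ χ ≠ one' G := by
      intro χ hχ
      have hχX := hXf.mem_toFinset.mp hχ
      have hne : χ ≠ one' G := by
        rintro rfl
        exact Set.disjoint_left.mp hdis hχX hoY
      exact ⟨(hX χ hχX hne).1, hne⟩
    rw [hsumZ _ he, hθ1] at hreg
    set T := ∑ χ ∈ hXf.toFinset, charDegree (χ : G → ℂ) with hT
    have hregZ : ε = T := by
      have h3 : ((ε : ℤ) : ℂ) = (((T : ℤ) : ℤ) : ℂ) := by
        push_cast at hreg ⊢
        linear_combination hreg
      exact Int.cast_injective h3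
    have hne : hXf.toFinset.Nonempty := by
      rw [← Finset.card_pos, ← Set.ncard_eq_toFinset_card _ hXf, hXcard]
      exact hm0
    obtain ⟨χ, hχ⟩ := hne
    have h3 : charDegree (χ : G → ℂ) ≤ T := Finset.single_le_sum (f := fun χ : IrrCharacter G => charDegree (χ : G → ℂ)) (fun _ _ => Nat.zero_le _) hχ
    have h4 := (hX χ (hXf.mem_toFinset.mp hχ) (he χ hχ).2).2
    have h5 : (3 : ℤ) ≤ T := by
      have : 3 ≤ T := by omega
      exact_mod_cast this
    rcases hε with h | h <;> omega

/-- **Brauer--Reynolds**: a simple group of order less than `p ^ 3`. -/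
theorem brauer_cube {G : Type u} [Group G] [Finite G] [IsSimpleGroup G] (hG : ¬ IsCyclic G) {p : ℕ} (hpr : p.Prime)
    (hdvd : p ∣ Nat.card G) (hbig : Nat.card G < p ^ 3) :
    (∃ (F : Type) (_ : Field F) (_ : Fintype F), Fintype.card F = p ∧ 3 < p ∧
      Nonempty (G ≃* Matrix.ProjectiveSpecialLinearGroup (Fin 2) F)) ∨
    (∃ (k : ℕ) (F : Type) (_ : Field F) (_ : Fintype F), Fintype.card F = 2 ^ k ∧ p = 2 ^ k + 1 ∧ 3 < p ∧
      Nonempty (G ≃* Matrix.ProjectiveSpecialLinearGroup (Fin 2) F)) := by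
  classical
  letI : Fintype G := Fintype.ofFinite _
  haveI hfact : Fact p.Prime := ⟨hpr⟩
  have hnc : ¬ IsMulCommutative G := by
    intro h
    have h1 : (Nat.card G).Prime := Group.is_simple_iff_prime_card.mp inferInstance
    apply hG
    exact isCyclic_of_prime_card (p := Nat.card G) (hp := ⟨h1⟩) rfl
  have hnp : ¬ IsPGroup p G := by
    intro h
    haveI := h.center_nontrivial
    rcases IsSimpleGroup.eq_bot_or_eq_top_of_normal (center G) inferInstance with h1 | h1
    · obtain ⟨x, hx⟩ := exists_ne (1 : center G)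
      apply hx
      apply Subtype.ext
      have h2 : ∀ y : G, y ∈ center G → y = 1 := by
        intro y hy
        rw [h1] at hy
        exact hy
      exact h2 _ x.2
    · apply hnc
      refine ⟨⟨fun a b => ?_⟩⟩
      have h2 : a ∈ center G := by rw [h1]; trivial
      exact (Subgroup.mem_center_iff.mp h2 b).symm
  have hG0 : Nat.card G ≠ 0 := Nat.card_pos.ne'
  obtain ⟨a, N, hpN, hGN⟩ := Nat.exists_eq_pow_mul_and_not_dvd hG0 p hpr.ne_one
  have ha : 0 < a := by
    rcases Nat.eq_zero_or_pos a with h | h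
    · rw [h, pow_zero, one_mul] at hGN
      rw [hGN] at hdvd
      exact absurd hdvd hpN
    · exact h
  have hN0 : 0 < N := by
    rcases Nat.eq_zero_or_pos N with h | h
    · rw [h, mul_zero] at hGN
      exact absurd hGN hG0
    · exact h
  have hpk := SmallSimple.sylow_package (a := a) (m := N) hGN ha hpN hnp hnc
  have ha3 : a < 3 := by
    by_contra h
    have h1 : p ^ 3 ≤ p ^ a := Nat.pow_le_pow_right hpr.pos (by omega)
    have h2 : p ^ a ≤ Nat.card G := by
      rw [hGN]
      exact Nat.le_mul_of_pos_right _ hN0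
    omega
  have ha1 : a = 1 := by
    by_contra hne
    have ha2 : a = 2 := by omega
    rw [ha2] at hGN
    have hNp : N < p := by
      rw [hGN] at hbig
      have h1 : p ^ 2 * N < p ^ 2 * p := by
        calc p ^ 2 * N < p ^ 3 := hbig
          _ = p ^ 2 * p := by ring
      exact Nat.lt_of_mul_lt_mul_left h1
    have hle := Nat.le_of_dvd hN0 hpk.2.1
    have h3 : p ∣ (Nat.card (Sylow p G)).factorial := by
      refine Dvd.dvd.trans hdvd (Dvd.dvd.trans (Dvd.intro_left 2 rfl) hpk.2.2.2)
    have h4 := (hpr.dvd_factorial).mp h3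
    omega
  subst ha1
  rw [pow_one] at hGN
  have hN1 : 1 < N := by
    by_contra h
    have h1 : N = 1 := by omega
    rw [h1, mul_one] at hGN
    exact hnp (IsPGroup.of_card (n := 1) (by rw [hGN, pow_one]))
  have hp2 : p ≠ 2 := by
    rintro rfl
    obtain ⟨P⟩ : Nonempty (Sylow 2 G) := inferInstance
    have hP : Nat.card (P : Subgroup G) = 2 := by
      have := SmallSimple.sylow_card_of_eq (a := 1) (m := N) P (by rw [hGN, pow_one]) hpN
      simpa using this
    exact false_of_sylow_two (perfect_of_simple hnc) P hP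
  obtain ⟨P, m, c, v, hP, -, hCN, hCc, hv, hmd, hm1, hcd, hvd, hcmv, hvp, hv1, -, -⟩ := exists_setup2 hGN hpN hN1 hp2
  have hmd' : m ∣ p - 1 := Nat.dvd_of_mem_divisors hmd
  have hpc : ¬ p ∣ c := fun h => hpN (h.trans (Nat.dvd_of_mem_divisors hcd))
  have hvmod : Nat.card (Sylow p G) % p = 1 := by rw [hv]; exact hvp
  obtain ⟨n, hvn⟩ : ∃ n : ℕ, v = 1 + n * p := by
    refine ⟨v / p, ?_⟩
    have h1 := Nat.div_add_mod' v p
    omega
  have hn1 : 1 ≤ n := by
    rcases Nat.eq_zero_or_pos n with h | h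
    · rw [h] at hvn
      omega
    · exact h
  have hc0 : 0 < c := Nat.pos_of_mem_divisors hcd
  set d := c * m with hd
  have hcardd : Nat.card G = p * (d * (1 + n * p)) := by
    rw [hGN, ← hcmv, hvn]
  have hNp : d * (1 + n * p) < p ^ 2 := by
    rw [hcardd] at hbig
    have h1 : p * (d * (1 + n * p)) < p * p ^ 2 := by
      calc p * (d * (1 + n * p)) < p ^ 3 := hbig
        _ = p * p ^ 2 := by ring
    exact Nat.lt_of_mul_lt_mul_left h1
  have hdn : d * n < p := by
    have h1 : (d * n) * p < p * p := by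
      have e : d * (1 + n * p) = d + (d * n) * p := by ring
      have e2 : p ^ 2 = p * p := by ring
      rw [e, e2] at hNp
      omega
    exact Nat.lt_of_mul_lt_mul_right h1
  have hdm : m ≤ d := Nat.le_mul_of_pos_left _ hc0
  have hCP : Nat.card (centralizer ((P : Subgroup G) : Set G)) = p := by
    rcases Nat.lt_or_ge n 2 with hn | hn
    · have hn' : n = 1 := by omega
      have hle : centralizer ((P : Subgroup G) : Set G) ≤ (P : Subgroup G) := fun x hx =>
        mem_of_centralizer_of_n_one P hP (by rw [hv, hvn, hn']) hx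
      have hcle := Subgroup.card_le_of_le hle
      rw [hP] at hcle
      rw [hCc] at hcle ⊢
      have : c = 1 := by nlinarith [hpr.pos]
      rw [this, mul_one]
    · have hpg := isPGroup_centralizer_of_small hnc P hP hp2 hCN hm1 hmd' hdm hcardd hn hdn hbig
      rw [hCc]
      have : c = 1 := by
        by_contra hne
        exact not_isPGroup_of_card (p := p) (H := centralizer ((P : Subgroup G) : Set G)) hCc (by omega) hpc hpg
      rw [this, mul_one]
  have h2n : 2 * n ≤ p + 1 := by
    have h1 : 2 * n ≤ d * n := Nat.mul_le_mul_right _ (by omega)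
    omega
  exact brauer_core hnc P hP hp2 hCP hn1 h2n (by rw [hv, hvn])

end Cfsg.Agent.Lib.Small.BD
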