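import Mathlib
import Cfsg.Agent.Lib.Small.BrauerCube
import Cfsg.Agent.Lib.Basic.Solv1
import Cfsg.Agent.Lib.Classical.SL2Local

/-! Perfect groups of order less than `p ^ 3`. -/

set_option autoImplicit false
set_option linter.unusedSectionVars false
set_option linter.unusedVariables false

namespace Cfsg.Agent.Lib.Small.BD

open Cfsg Subgroup

universe u

section Gen

variable {Γ : Type u} [Group Γ]

/-- A homomorphism of a perfect group to a commutative group is trivial. -/
theorem perfect_map_eq_one (hperf : commutator Γ = ⊤) {A : Type*} [Group A] (hA : ∀ x y : A, x * y = y * x) (f : Γ →* A) (g : Γ) :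
    f g = 1 := by
  have h1 : f.ker = ⊤ := by
    rw [eq_top_iff, ← hperf]
    show ⁅(⊤ : Subgroup Γ), (⊤ : Subgroup Γ)⁆ ≤ f.ker
    rw [Subgroup.commutator_le]
    intro a _ b _
    rw [MonoidHom.mem_ker, map_commutatorElement, commutatorElement_eq_one_iff_commute]
    exact hA _ _
  have h2 : g ∈ f.ker := by
    rw [h1]
    trivial
  exact h2

theorem commutator_quotient_eq_top (hperf : commutator Γ = ⊤) (K : Subgroup Γ) [K.Normal] : commutator (Γ ⧸ K) = ⊤ := by
  have h3 := Subgroup.map_commutator (⊤ : Subgroup Γ) ⊤ (QuotientGroup.mk' K)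
  have h4 : (⊤ : Subgroup Γ).map (QuotientGroup.mk' K) = ⊤ :=
    Subgroup.map_top_of_surjective _ (QuotientGroup.mk'_surjective K)
  rw [h4] at h3
  have h5 : ⁅(⊤ : Subgroup Γ), (⊤ : Subgroup Γ)⁆ = ⊤ := hperf
  rw [h5, h4] at h3
  exact h3.symm

/-- A normal subgroup with commutative quotient of a perfect group is everything. -/
theorem eq_top_of_quotient_comm (hperf : commutator Γ = ⊤) (K : Subgroup Γ) [K.Normal] (h : ∀ a b : Γ ⧸ K, a * b = b * a) :
    K = ⊤ := by
  rw [eq_top_iff]
  intro g _
  have h1 := perfect_map_eq_one hperf h (QuotientGroup.mk' K) g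
  exact (QuotientGroup.eq_one_iff g).mp h1

variable [Finite Γ] {p : ℕ} [hp : Fact p.Prime]

/-- Transfer. -/
theorem false_of_normalizer_le (hperf : commutator Γ = ⊤) (P : Sylow p Γ)
    (hN : normalizer ((P : Subgroup Γ) : Set Γ) ≤ centralizer ((P : Subgroup Γ) : Set Γ)) (hne : Nat.card (P : Subgroup Γ) ≠ 1) : False := by
  classical
  have hc := MonoidHom.ker_transferSylow_isComplement' P hN
  set f := MonoidHom.transferSylow P hN with hf
  have hcomm : ∀ x y : (P : Subgroup Γ), x * y = y * x := by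
    intro x y
    apply Subtype.ext
    have h1 := mem_centralizer_iff.mp (hN (Subgroup.le_normalizer y.2)) x x.2
    exact h1
  have hker : f.ker = ⊤ := by
    rw [eq_top_iff]
    intro g _
    exact perfect_map_eq_one hperf hcomm f g
  rw [hker] at hc
  have h0 : (P : Subgroup Γ) = ⊥ := Subgroup.isComplement'_top_left.mp hc
  rw [h0, Subgroup.card_bot] at hne
  exact hne rfl

/-- Two disjoint normal subgroups. -/
theorem card_mul_card_dvd_of_disjoint {A B : Subgroup Γ} [A.Normal] (h : A ⊓ B = ⊥) :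
    Nat.card A * Nat.card B ∣ Nat.card Γ := by
  have h1 : Function.Injective ((QuotientGroup.mk' A).comp B.subtype) := by
    rw [injective_iff_map_eq_one]
    intro x hx
    have h2 : (x : Γ) ∈ A := (QuotientGroup.eq_one_iff (x : Γ)).mp hx
    have h3 : (x : Γ) ∈ A ⊓ B := ⟨h2, x.2⟩
    rw [h] at h3
    exact Subtype.ext h3
  have h2 := Subgroup.card_dvd_of_injective _ h1
  have h3 := Subgroup.card_eq_card_quotient_mul_card_subgroup A
  rw [h3, mul_comm]
  exact Nat.mul_dvd_mul_right h2 _

/-- **A simple normal subgroup.** -/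
theorem exists_simple_normal (hperf : commutator Γ = ⊤) (hcore : ∀ K : Subgroup Γ, K.Normal → ¬ p ∣ Nat.card K → K = ⊥)
    (hp1 : p ∣ Nat.card Γ) (hp2 : ¬ p ^ 2 ∣ Nat.card Γ) :
    ∃ M : Subgroup Γ, M.Normal ∧ IsSimpleGroup M ∧ ¬ IsMulCommutative M ∧ p ∣ Nat.card M := by
  classical
  have hpr := hp.out
  -- a minimal normal subgroup
  haveI hne0 : Nonempty {K : Subgroup Γ // K.Normal ∧ K ≠ ⊥} := by
    refine ⟨⟨⊤, inferInstance, ?_⟩⟩
    intro h
    have h1 : Nat.card (⊤ : Subgroup Γ) = 1 := by rw [h, Subgroup.card_bot]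
    rw [Subgroup.card_top] at h1
    rw [h1] at hp1
    exact hpr.one_lt.ne' (Nat.dvd_one.mp hp1)
  obtain ⟨⟨M, hMn, hMne⟩, hmin⟩ := Finite.exists_min (fun K : {K : Subgroup Γ // K.Normal ∧ K ≠ ⊥} => Nat.card K.1)
  haveI := hMn
  have hMmin : ∀ K : Subgroup Γ, K.Normal → K ≠ ⊥ → K ≤ M → K = M := by
    intro K hK hK1 hle
    exact Subgroup.eq_of_le_of_card_ge hle (hmin ⟨K, hK, hK1⟩)
  have hpM : p ∣ Nat.card M := by
    by_contra h
    exact hMne (hcore M hMn h)
  have hMG : Nat.card M ∣ Nat.card Γ := Subgroup.card_subgroup_dvd_card M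
  -- the `p'`-core of `M` is trivial
  have hcoreM : ∀ K : Subgroup M, K.Normal → ¬ p ∣ Nat.card K → K = ⊥ := by
    intro K hK hKp
    have hle : K ≤ pPrimeCore p M := le_sSup ⟨hK, (hpr.coprime_iff_not_dvd.mpr hKp).symm⟩
    haveI hc : (pPrimeCore p M).Characteristic := Cfsg.Agent.Lib.Basic.pPrimeCore_characteristic p
    have hn : ((pPrimeCore p M).map M.subtype).Normal := inferInstance
    have hcard : Nat.card ((pPrimeCore p M).map M.subtype) = Nat.card (pPrimeCore p M) :=
      Nat.card_congr (Subgroup.equivMapOfInjective _ _ M.subtype_injective).symm.toEquiv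
    have h1 : ¬ p ∣ Nat.card ((pPrimeCore p M).map M.subtype) := by
      rw [hcard]
      exact (hpr.coprime_iff_not_dvd).mp (Cfsg.Agent.Lib.Basic.pPrimeCore_coprime p).symm
    have h2 := hcore _ hn h1
    have h3 : pPrimeCore p M = ⊥ := (Subgroup.map_eq_bot_iff_of_injective _ M.subtype_injective).mp h2
    rw [h3] at hle
    exact le_bot_iff.mp hle
  have hM1 : Nat.card M ≠ 1 := by
    intro h
    rw [h] at hpM
    exact hpr.one_lt.ne' (Nat.dvd_one.mp hpM)
  have hMnc : ¬ IsMulCommutative M := by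
    intro hcomm
    have hc : ∀ a b : M, a * b = b * a := fun a b => hcomm.is_comm.comm a b
    have hprimes : ∀ {q : ℕ}, q.Prime → q ∣ Nat.card M → q = p := by
      intro q hq hqd
      by_contra hne
      haveI : Fact q.Prime := ⟨hq⟩
      obtain ⟨y, hy⟩ := exists_prime_orderOf_dvd_card' q hqd
      have h1 : (zpowers y).Normal := by
        refine ⟨fun a ha b => ?_⟩
        have e : b * a * b⁻¹ = a := by rw [hc b a]; group
        rw [e]
        exact ha
      have h2 : ¬ p ∣ Nat.card (zpowers y) := by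
        rw [Nat.card_zpowers, hy]
        intro h3
        exact hne ((Nat.prime_dvd_prime_iff_eq hpr hq).mp h3).symm
      have h3 := hcoreM _ h1 h2
      have h4 : y = 1 := by
        have h5 : y ∈ zpowers y := mem_zpowers y
        rw [h3] at h5
        exact h5
      rw [h4, orderOf_one] at hy
      exact hq.one_lt.ne hy
    have hMpow := Nat.eq_prime_pow_of_unique_prime_dvd (Nat.card_pos (α := M)).ne' hprimes
    set e := (Nat.primeFactorsList (Nat.card M)).length with he
    have he1 : e = 1 := by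
      by_contra hne
      have h0 : e ≠ 0 := by
        intro h0
        rw [h0, pow_zero] at hMpow
        exact hM1 hMpow
      apply hp2
      refine Dvd.dvd.trans ?_ hMG
      rw [hMpow]
      exact pow_dvd_pow p (by omega)
    rw [he1, pow_one] at hMpow
    have hMp : IsPGroup p M := IsPGroup.of_card (n := 1) (by rw [hMpow, pow_one])
    obtain ⟨P, hP⟩ := hMp.exists_le_sylow
    have hPe : (P : Subgroup Γ) = M := by
      symm
      refine Subgroup.eq_of_le_of_card_ge hP ?_
      obtain ⟨a, ha⟩ := IsPGroup.iff_card.mp P.isPGroup'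
      have h1 := Subgroup.card_subgroup_dvd_card (P : Subgroup Γ)
      rw [ha] at h1
      have h2 : a ≤ 1 := by
        by_contra h3
        apply hp2
        exact (pow_dvd_pow p (by omega)).trans h1
      rw [ha, hMpow]
      calc p ^ a ≤ p ^ 1 := Nat.pow_le_pow_right hpr.pos h2
        _ = p := pow_one p
    haveI hcyc3 : IsCyclic M := isCyclic_of_prime_card hMpow
    haveI hcyc2 : IsCyclic (MulAut M) := by
      haveI h1 : IsCyclic (ZMod (Nat.card M))ˣ := by
        rw [hMpow]
        exact ZMod.isCyclic_units_prime Fact.out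
      exact isCyclic_of_injective (IsCyclic.mulAutMulEquiv M).toMonoidHom
        (IsCyclic.mulAutMulEquiv M).injective
    have hcaut : ∀ u v : MulAut M, u * v = v * u := fun u v => by
      letI := hcyc2.commGroup
      exact mul_comm u v
    refine false_of_normalizer_le hperf P ?_ (by rw [hPe, hMpow]; exact hpr.ne_one)
    intro x _
    rw [mem_centralizer_iff, hPe]
    intro y hy
    have h1 := perfect_map_eq_one hperf hcaut (MulAut.conjNormal (H := M)) x
    have h2 : ((MulAut.conjNormal (H := M) x ⟨y, hy⟩ : M) : Γ) = y := by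
      rw [h1]
      rfl
    rw [MulAut.conjNormal_apply] at h2
    calc y * x = (x * y * x⁻¹) * x := by rw [h2]
      _ = x * y := by group
  have hMne : Nontrivial M := by
    rw [← Finite.one_lt_card_iff_nontrivial]
    have : 0 < Nat.card M := Nat.card_pos
    omega
  have hsimple : IsSimpleGroup M := by
    refine ⟨fun U hU => ?_⟩
    by_cases hU0 : U = ⊥
    · exact Or.inl hU0
    right
    haveI hne1 : Nonempty {T : Subgroup M // T.Normal ∧ T ≠ ⊥ ∧ T ≤ U} := ⟨⟨U, hU, hU0, le_rfl⟩⟩
    obtain ⟨⟨T, hTn, hT0, hTU⟩, hTm⟩ := Finite.exists_min (fun K : {T : Subgroup M // T.Normal ∧ T ≠ ⊥ ∧ T ≤ U} => Nat.card K.1)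
    haveI := hTn
    have hTmin : ∀ K : Subgroup M, K.Normal → K ≠ ⊥ → K ≤ T → K = T := by
      intro K hK hK1 hle
      exact Subgroup.eq_of_le_of_card_ge hle (hTm ⟨K, hK, hK1, hle.trans hTU⟩)
    have hTtop : T = ⊤ := by
      by_contra hTne
      have hpT : p ∣ Nat.card T := by
        by_contra h
        exact hT0 (hcoreM T hTn h)
      -- a conjugate
      have hexg : ∃ g : Γ, T.map (MulAut.conjNormal (H := M) g).toMonoidHom ≠ T := by
        by_contra hall
        push Not at hall
        have hn : (T.map M.subtype).Normal := by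
          refine ⟨fun a ha g => ?_⟩
          obtain ⟨a, haT, rfl⟩ := ha
          have h1 : (MulAut.conjNormal (H := M) g) a ∈ T.map (MulAut.conjNormal (H := M) g).toMonoidHom :=
            ⟨a, haT, rfl⟩
          rw [hall g] at h1
          refine ⟨_, h1, ?_⟩
          rw [Subgroup.coe_subtype, MulAut.conjNormal_apply]
        have hne : T.map M.subtype ≠ ⊥ := by
          intro h
          exact hT0 ((Subgroup.map_eq_bot_iff_of_injective _ M.subtype_injective).mp h)
        have hle : T.map M.subtype ≤ M := by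
          rintro _ ⟨a, -, rfl⟩
          exact a.2
        have h1 := hMmin _ hn hne hle
        apply hTne
        rw [eq_top_iff]
        intro x _
        have h2 : (x : Γ) ∈ T.map M.subtype := by
          rw [h1]
          exact x.2
        obtain ⟨y, hy, hye⟩ := h2
        have : y = x := Subtype.ext hye
        rw [← this]
        exact hy
      obtain ⟨g, hg⟩ := hexg
      set e := MulAut.conjNormal (H := M) g with he
      set T' := T.map e.toMonoidHom with hT'
      have hT'n : T'.Normal := Subgroup.Normal.map hTn _ e.surjective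
      have hcardT' : Nat.card T' = Nat.card T :=
        Nat.card_congr (Subgroup.equivMapOfInjective _ _ e.injective).symm.toEquiv
      have hinf : T ⊓ T' = ⊥ := by
        by_contra hne
        have h1 := hTmin (T ⊓ T') (Subgroup.normal_inf_normal _ _) hne inf_le_left
        have h2 : T ≤ T' := by
          rw [← h1]
          exact inf_le_right
        exact hg (Subgroup.eq_of_le_of_card_ge h2 (by rw [hcardT'])).symm
      have h3 := card_mul_card_dvd_of_disjoint hinf
      apply hp2
      have h4 : p ^ 2 ∣ Nat.card T * Nat.card T' := by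
        rw [hcardT', pow_two]
        exact Nat.mul_dvd_mul hpT hpT
      exact h4.trans (h3.trans hMG)
    rw [hTtop] at hTU
    exact top_le_iff.mp hTU
  exact ⟨M, hMn, hsimple, hMnc, hpM⟩

end Gen

/-- In characteristic two, `PSL₂` is `SL₂`. -/
theorem psl_equiv_sl_of_card {F : Type} [Field F] [Fintype F] {k : ℕ} (hF : Fintype.card F = 2 ^ k) (hk : k ≠ 0) :
    Nonempty (Matrix.SpecialLinearGroup (Fin 2) F ≃* Matrix.ProjectiveSpecialLinearGroup (Fin 2) F) := by
  classical
  have h2 : (2 : F) = 0 := by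
    have h3 : ringChar F = 2 := by
      rw [FiniteField.even_card_iff_char_two, hF]
      obtain ⟨j, rfl⟩ := Nat.exists_eq_succ_of_ne_zero hk
      rw [Nat.succ_eq_add_one, pow_succ]
      omega
    have h4 := ringChar.Nat.cast_ringChar (R := F)
    rw [h3] at h4
    exact_mod_cast h4
  have hcenter : center (Matrix.SpecialLinearGroup (Fin 2) F) = ⊥ := by
    rw [eq_bot_iff]
    intro A hA
    obtain ⟨r, hr, hA'⟩ := Matrix.SpecialLinearGroup.mem_center_iff.mp hA
    have hr1 : r = 1 := by
      have h5 : r ^ 2 = 1 := by simpa using hr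
      have h6 : (r - 1) ^ 2 = 0 := by
        have e : (r - 1) ^ 2 = r ^ 2 - 2 * r + 1 := by ring
        rw [e, h5, h2]
        ring_nf
        rw [show (2 : F) = 0 from h2]
      have h7 := pow_eq_zero_iff (two_ne_zero) |>.mp h6
      exact sub_eq_zero.mp h7
    rw [hr1] at hA'
    apply Subtype.ext
    rw [← hA']
    simp
  exact ⟨((QuotientGroup.quotientMulEquivOfEq hcenter).trans QuotientGroup.quotientBot).symm⟩

/-- **S4701**: perfect groups of order less than `p ^ 3`. -/
theorem perfect_cube {G : Type u} [Group G] [Finite G] (hperf : commutator G = ⊤) (p : ℕ) [hp : Fact p.Prime]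
    (hdvd : p ∣ Nat.card G) (hbig : Nat.card G < p ^ 3) (P : Sylow p G) (hPn : ¬ (P : Subgroup G).Normal)
    (h2 : ∀ N : Subgroup G, N.Normal → Nat.card N ≠ 2) :
    (∃ (F : Type) (_ : Field F) (_ : Fintype F), Fintype.card F = p ∧ 3 < p ∧
      Nonempty (G ≃* Matrix.ProjectiveSpecialLinearGroup (Fin 2) F)) ∨
    (∃ (k : ℕ) (F : Type) (_ : Field F) (_ : Fintype F), Fintype.card F = 2 ^ k ∧ p = 2 ^ k + 1 ∧ 3 < p ∧
      Nonempty (G ≃* Matrix.SpecialLinearGroup (Fin 2) F)) := by
  classical
  have hpr := hp.out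
  have hG0 : Nat.card G ≠ 0 := Nat.card_pos.ne'
  obtain ⟨a, N, hpN, hGN⟩ := Nat.exists_eq_pow_mul_and_not_dvd hG0 p hpr.ne_one
  have ha : 0 < a := by
    rcases Nat.eq_zero_or_pos a with h | h
    · rw [h, pow_zero, one_mul] at hGN
      rw [hGN] at hdvd
      exact absurd hdvd hpN
    · exact h
  have hN0 : 0 < N := by
    rcases Nat.eq_zero_or_pos N with h | h
    · rw [h, mul_zero] at hGN
      exact absurd hGN hG0
    · exact h
  have ha3 : a < 3 := by
    by_contra h
    have h1 : p ^ 3 ≤ p ^ a := Nat.pow_le_pow_right hpr.pos (by omega)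
    have h3 : p ^ a ≤ Nat.card G := by
      rw [hGN]
      exact Nat.le_mul_of_pos_right _ hN0
    omega
  have hvmod : Nat.card (Sylow p G) ≡ 1 [MOD p] := card_sylow_modEq_one p G
  have hv1 : Nat.card (Sylow p G) ≠ 1 := by
    intro h
    haveI : Subsingleton (Sylow p G) := (Nat.card_eq_one_iff_unique.mp h).1
    exact hPn (Sylow.normal_of_subsingleton P)
  have hPcard : Nat.card (P : Subgroup G) = p ^ a := by
    have h1 := Sylow.card_eq_multiplicity P
    rw [h1, hGN, Nat.factorization_mul (pow_ne_zero _ hpr.ne_zero) (by omega)]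
    simp [Nat.Prime.factorization_self hpr, Nat.factorization_eq_zero_of_not_dvd hpN]
  have hvge : p + 1 ≤ Nat.card (Sylow p G) := by
    have h3 : (p : ℤ) ∣ (Nat.card (Sylow p G) : ℤ) - 1 := by
      have h4 := Nat.modEq_iff_dvd.mp hvmod.symm
      push_cast at h4
      exact h4
    have h4 : 1 ≤ Nat.card (Sylow p G) := Nat.card_pos
    have h5 : (0 : ℤ) < (Nat.card (Sylow p G) : ℤ) - 1 := by omega
    have h6 := Int.le_of_dvd h5 h3
    omega
  have hvd : Nat.card (Sylow p G) ∣ N := by
    have h3 := Sylow.card_dvd_index P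
    have h4 := Subgroup.card_mul_index (P : Subgroup G)
    rw [hPcard, hGN] at h4
    have h5 : (P : Subgroup G).index = N := Nat.eq_of_mul_eq_mul_left (pow_pos hpr.pos a) h4
    rwa [h5] at h3
  have ha1 : a = 1 := by
    by_contra hne
    have ha2 : a = 2 := by omega
    rw [ha2] at hGN
    have hNp : N < p := by
      rw [hGN] at hbig
      have h1 : p ^ 2 * N < p ^ 2 * p := by
        calc p ^ 2 * N < p ^ 3 := hbig
          _ = p ^ 2 * p := by ring
      exact Nat.lt_of_mul_lt_mul_left h1
    have hle := Nat.le_of_dvd hN0 hvd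
    omega
  subst ha1
  rw [pow_one] at hGN hPcard
  have hp2G : ¬ p ^ 2 ∣ Nat.card G := by
    rw [hGN, pow_two]
    intro h
    exact hpN (Nat.dvd_of_mul_dvd_mul_left hpr.pos h)
  -- the quotient by the `p'`-core
  set H := pPrimeCore p G with hH
  haveI hHn : H.Normal := Cfsg.Agent.Lib.Basic.pPrimeCore_normal p
  have hHp : ¬ p ∣ Nat.card H := (hpr.coprime_iff_not_dvd).mp (Cfsg.Agent.Lib.Basic.pPrimeCore_coprime p).symm
  have hcardΓ : Nat.card G = Nat.card (G ⧸ H) * Nat.card H := Subgroup.card_eq_card_quotient_mul_card_subgroup H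
  have hperfΓ := commutator_quotient_eq_top hperf H
  have hcoreΓ : ∀ K : Subgroup (G ⧸ H), K.Normal → ¬ p ∣ Nat.card K → K = ⊥ := by
    intro K hK hKp
    have hle : K ≤ pPrimeCore p (G ⧸ H) := le_sSup ⟨hK, (hpr.coprime_iff_not_dvd.mpr hKp).symm⟩
    rw [Cfsg.Agent.Lib.Basic.pPrimeCore_quotient_eq_bot] at hle
    exact le_bot_iff.mp hle
  have hp1Γ : p ∣ Nat.card (G ⧸ H) := by
    rw [hcardΓ] at hdvd
    exact (hpr.dvd_mul.mp hdvd).resolve_right hHp
  have hp2Γ : ¬ p ^ 2 ∣ Nat.card (G ⧸ H) := fun h => hp2G (h.trans (by rw [hcardΓ]; exact Dvd.intro _ rfl))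
  obtain ⟨M, hMn, hMs, hMnc, hpM⟩ := exists_simple_normal hperfΓ hcoreΓ hp1Γ hp2Γ
  haveI := hMn
  haveI := hMs
  have hcardM : Nat.card (G ⧸ H) = Nat.card ((G ⧸ H) ⧸ M) * Nat.card M := Subgroup.card_eq_card_quotient_mul_card_subgroup M
  set t := Nat.card ((G ⧸ H) ⧸ M) * Nat.card H with ht
  have hGt : Nat.card G = t * Nat.card M := by
    rw [hcardΓ, hcardM, ht]
    ring
  have htpos : 0 < t := by
    rw [ht]
    exact Nat.mul_pos Nat.card_pos Nat.card_pos
  have hMpos : 0 < Nat.card M := Nat.card_pos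
  have hMbig : Nat.card M < p ^ 3 := by
    have : Nat.card M ≤ Nat.card G := by
      rw [hGt]
      exact Nat.le_mul_of_pos_left _ htpos
    omega
  have hMcyc : ¬ IsCyclic M := by
    intro h
    apply hMnc
    letI := h.commGroup
    exact ⟨⟨fun a b => mul_comm a b⟩⟩
  have ht2 : t < 3 ∧ 3 < p := by
    rcases brauer_cube hMcyc hpr hpM hMbig with ⟨F, i1, i2, hF, hp3, ⟨e⟩⟩ | ⟨k, F, i1, i2, hF, hpk, hp3, ⟨e⟩⟩
    · refine ⟨?_, hp3⟩
      by_contra hge
      have ht3 : 3 ≤ t := by omega
      have hodd : Odd p := hpr.odd_of_ne_two (by omega)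
      have h1 := Cfsg.Agent.Lib.Classical.card_psl2_odd (F := F) hF hodd
      have h3 : Nat.card M = Nat.card (Matrix.ProjectiveSpecialLinearGroup (Fin 2) F) := Nat.card_congr e.toEquiv
      rw [← h3] at h1
      have h4 : 3 * Nat.card M ≤ t * Nat.card M := Nat.mul_le_mul_right _ ht3
      rw [← hGt] at h4
      have h5 : 2 * (3 * Nat.card M) < 2 * p ^ 3 := by omega
      have h6 : 3 * (p * (p ^ 2 - 1)) < 2 * p ^ 3 := by
        have : 2 * (3 * Nat.card M) = 3 * (2 * Nat.card M) := by ring
        rw [this, h1] at h5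
        exact h5
      have h7 : 1 ≤ p ^ 2 := Nat.one_le_pow _ _ hpr.pos
      zify [h7] at h6
      have h8 : (4 : ℤ) ≤ p := by exact_mod_cast hp3
      nlinarith
    · refine ⟨?_, hp3⟩
      by_contra hge
      have ht3 : 3 ≤ t := by omega
      have hk0 : k ≠ 0 := by
        rintro rfl
        simp at hpk
        omega
      have heven : Even (2 ^ k) := (Nat.even_pow.mpr ⟨even_two, hk0⟩)
      have h1 := Cfsg.Agent.Lib.Classical.card_psl2_even (F := F) hF heven
      have h3 : Nat.card M = Nat.card (Matrix.ProjectiveSpecialLinearGroup (Fin 2) F) := Nat.card_congr e.toEquiv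
      rw [← h3] at h1
      have h4 : 3 * Nat.card M ≤ t * Nat.card M := Nat.mul_le_mul_right _ ht3
      rw [← hGt] at h4
      set q := 2 ^ k with hq
      have hpq : (p : ℤ) = q + 1 := by exact_mod_cast hpk
      have hq1 : 1 ≤ q ^ 2 := Nat.one_le_pow _ _ (by rw [hq]; positivity)
      have h6 : 3 * (q * (q ^ 2 - 1)) < p ^ 3 := by
        rw [h1] at h4
        omega
      zify [hq1] at h6
      rw [hpq] at h6
      have h8 : (3 : ℤ) ≤ q := by
        have : 3 ≤ q := by omega
        exact_mod_cast this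
      nlinarith
  obtain ⟨ht3, hp3⟩ := ht2
  -- the index of `M`
  have hMtop : M = ⊤ := by
    by_cases hMt : M = ⊤
    · exact hMt
    exfalso
    have h3 : 1 < Nat.card ((G ⧸ H) ⧸ M) := by
      rw [Finite.one_lt_card_iff_nontrivial, QuotientGroup.nontrivial_iff]
      exact hMt
    have h4 : Nat.card ((G ⧸ H) ⧸ M) ≤ t := by
      rw [ht]
      exact Nat.le_mul_of_pos_right _ Nat.card_pos
    have h5 : Nat.card ((G ⧸ H) ⧸ M) = 2 := by omega
    apply hMt
    apply eq_top_of_quotient_comm hperfΓ M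
    intro x y
    haveI hc : IsCyclic ((G ⧸ H) ⧸ M) := isCyclic_of_prime_card (p := 2) (hp := ⟨Nat.prime_two⟩) h5
    letI := hc.commGroup
    exact mul_comm x y
  have hq1 : Nat.card ((G ⧸ H) ⧸ M) = 1 := by
    rw [hMtop]
    exact Subgroup.index_top
  have hH1 : H = ⊥ := by
    have h3 : Nat.card H ≤ 2 := by
      rw [ht, hq1, one_mul] at ht3
      omega
    have h4 : Nat.card H ≠ 2 := h2 H hHn
    have h5 : Nat.card H = 1 := by
      have : 0 < Nat.card H := Nat.card_pos
      omega
    exact Subgroup.card_eq_one.mp h5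
  -- `G` is simple
  have hΓs : IsSimpleGroup (G ⧸ H) := by
    rw [hMtop] at hMs
    exact (Subgroup.topEquiv (G := G ⧸ H)).symm.isSimpleGroup
  have hGs : IsSimpleGroup G := by
    have e : G ≃* (G ⧸ H) := (QuotientGroup.quotientMulEquivOfEq hH1 |>.trans QuotientGroup.quotientBot).symm
    exact e.isSimpleGroup
  have hGcyc : ¬ IsCyclic G := by
    intro h
    letI := h.commGroup
    have h3 : commutator G = ⊥ := by
      rw [commutator_eq_bot_iff_center_eq_top, Subgroup.eq_top_iff']
      intro g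
      rw [Subgroup.mem_center_iff]
      intro x
      exact mul_comm x g
    rw [hperf] at h3
    exact top_ne_bot h3
  rcases brauer_cube hGcyc hpr hdvd hbig with ⟨F, i1, i2, hF, hp3', ⟨e⟩⟩ | ⟨k, F, i1, i2, hF, hpk, hp3', ⟨e⟩⟩
  · exact Or.inl ⟨F, i1, i2, hF, hp3', ⟨e⟩⟩
  · right
    have hk0 : k ≠ 0 := by
      rintro rfl
      simp at hpk
      omega
    obtain ⟨e'⟩ := psl_equiv_sl_of_card hF hk0
    exact ⟨k, F, i1, i2, hF, hpk, hp3', ⟨e.trans e'.symm⟩⟩


end Cfsg.Agent.Lib.Small.BD
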